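import Groth.Agent.L20.LocalCriterion
import Groth.Agent.L03.FlatLemmas
import Groth.Agent.L06.RegularPow
import Groth.Agent.L01.Regular
import Mathlib.RingTheory.TensorProduct.Quotient
import Mathlib.RingTheory.RingHom.Flat
import Mathlib.Algebra.CharP.Frobenius

/-! The Frobenius of a regular local ring is flat. -/

set_option autoImplicit false
set_option linter.unusedSectionVars false

universe u

namespace Groth.L13.Wild.Kunz

open IsLocalRing TensorProduct RingTheory.Sequence Pointwise

theorem flat_of_isWeaklyRegular : ∀ (n : ℕ) (R S : Type u) [CommRing R] [IsLocalRing R] [IsNoetherianRing R]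
    [CommRing S] [IsLocalRing S] [IsNoetherianRing S] [Algebra R S] [IsLocalHom (algebraMap R S)] (rs : List R),
    rs.length = n → Ideal.ofList rs = maximalIdeal R → IsWeaklyRegular R rs → IsWeaklyRegular S rs →
    Module.Flat R S := by
  intro n
  induction n with
  | zero =>
    intro R S _ _ _ _ _ _ _ _ rs hl hgen _ _
    rw [List.length_eq_zero_iff.1 hl, Ideal.ofList_nil] at hgen
    have hf : IsField R := IsLocalRing.isField_iff_maximalIdeal_eq.2 hgen.symm
    letI := hf.toField
    infer_instance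
  | succ n ih =>
    intro R S _ _ _ _ _ _ _ _ rs hl hgen hR hS
    obtain ⟨x, rest, rfl⟩ := List.exists_cons_of_length_eq_add_one hl
    rw [isWeaklyRegular_cons_iff] at hR hS
    have hx : x ∈ maximalIdeal R := hgen ▸ Ideal.subset_span (by simp)
    let I : Ideal R := Ideal.span {x}
    have hI : I ≠ ⊤ := ne_top_of_le_ne_top (maximalIdeal.isMaximal R).ne_top ((Ideal.span_singleton_le_iff_mem _).2 hx)
    have hIS : I.map (algebraMap R S) ≠ ⊤ := fun h => by
      have h1 : I.map (algebraMap R S) ≤ maximalIdeal S := by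
        rw [Ideal.map_span, Set.image_singleton, Ideal.span_singleton_le_iff_mem]
        exact (mem_maximalIdeal _).2 (map_nonunit (algebraMap R S) x hx)
      exact (maximalIdeal.isMaximal S).ne_top (top_le_iff.1 (h ▸ h1))
    have h1 : Function.Injective (I.subtype.lTensor S) := by
      let e : R →ₗ[R] I := LinearMap.toSpanSingleton R I ⟨x, Ideal.mem_span_singleton_self x⟩
      have he : Function.Surjective e := fun ⟨y, hy⟩ => by
        obtain ⟨c, rfl⟩ := Ideal.mem_span_singleton'.1 hy
        exact ⟨c, Subtype.ext (by simp [e])⟩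
      rw [injective_iff_map_eq_zero]
      intro z hz
      obtain ⟨w, rfl⟩ := LinearMap.lTensor_surjective S he z
      have : w = (TensorProduct.rid R S w) ⊗ₜ[R] (1 : R) := by
        rw [← TensorProduct.rid_symm_apply, LinearEquiv.symm_apply_apply]
      rw [this, LinearMap.lTensor_tmul, LinearMap.lTensor_tmul] at hz
      have hz' := congrArg (TensorProduct.rid R S) hz
      rw [TensorProduct.rid_tmul, map_zero] at hz'
      have hv : I.subtype (e 1) = x := by simp [e]
      rw [hv] at hz'
      have hw0 : TensorProduct.rid R S w = 0 := isSMulRegular_iff_right_eq_zero_of_smul.1 hS.1 _ hz'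
      rw [this, hw0, TensorProduct.zero_tmul, map_zero]
    have : IsLocalRing (R ⧸ I) := Groth.L01.isLocalRing_quotient hI
    have : IsLocalRing (S ⧸ I.map (algebraMap R S)) := Groth.L01.isLocalRing_quotient hIS
    have : IsScalarTower R (R ⧸ I) (S ⧸ I.map (algebraMap R S)) := IsScalarTower.of_algebraMap_eq fun r => rfl
    have : IsLocalHom (algebraMap (R ⧸ I) (S ⧸ I.map (algebraMap R S))) := ⟨fun a ha => by
      obtain ⟨r, rfl⟩ := Ideal.Quotient.mk_surjective a
      refine IsUnit.map _ ?_
      by_contra hr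
      have h2 : Ideal.Quotient.mk (I.map (algebraMap R S)) (algebraMap R S r) ∈ maximalIdeal (S ⧸ I.map (algebraMap R S)) := by
        rw [Groth.L01.maximalIdeal_quotient_eq_map]
        exact Ideal.mem_map_of_mem _ (map_nonunit (algebraMap R S) r hr)
      exact (mem_maximalIdeal _).1 h2 ha⟩
    have hgen' : Ideal.ofList (rest.map (Ideal.Quotient.mk I)) = maximalIdeal (R ⧸ I) := by
      rw [← Ideal.map_ofList, Groth.L01.maximalIdeal_quotient_eq_map, ← hgen, Ideal.ofList_cons, Ideal.map_sup,
        Ideal.map_quotient_self, bot_sup_eq]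
    have hR' : IsWeaklyRegular (R ⧸ I) (rest.map (Ideal.Quotient.mk I)) := by
      rw [← Ideal.Quotient.algebraMap_eq, isWeaklyRegular_map_algebraMap_iff]
      exact (LinearEquiv.isWeaklyRegular_congr (Submodule.quotEquivOfEq _ _ (by
        rw [← Submodule.ideal_span_singleton_smul, smul_eq_mul, Ideal.mul_top])) _).mp hR.2
    have hS' : IsWeaklyRegular (S ⧸ I.map (algebraMap R S)) (rest.map (Ideal.Quotient.mk I)) := by
      rw [← Ideal.Quotient.algebraMap_eq, isWeaklyRegular_map_algebraMap_iff]
      refine (LinearEquiv.isWeaklyRegular_congr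
        ((Submodule.quotEquivOfEq (x • ⊤ : Submodule R S) ((I.map (algebraMap R S)).restrictScalars R) ?_).trans
          (Submodule.Quotient.restrictScalarsEquiv R (I.map (algebraMap R S)))) _).mp hS.2
      rw [← Submodule.ideal_span_singleton_smul, Ideal.smul_top_eq_map]
    have hflat : Module.Flat (R ⧸ I) (S ⧸ I.map (algebraMap R S)) :=
      ih (R ⧸ I) (S ⧸ I.map (algebraMap R S)) _ (by simpa using hl) hgen' hR' hS'
    let e0 : (S ⧸ I.map (algebraMap R S)) ≃ₗ[R] (R ⧸ I) ⊗[R] S :=
      ((Algebra.TensorProduct.quotIdealMapEquivTensorQuot S I).toLinearEquiv.restrictScalars R).trans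
        (TensorProduct.comm R S (R ⧸ I))
    let e : (S ⧸ I.map (algebraMap R S)) ≃ₗ[R ⧸ I] (R ⧸ I) ⊗[R] S :=
      e0.extendScalarsOfSurjective (S := R ⧸ I) Ideal.Quotient.mk_surjective
    have : Module.Flat (R ⧸ I) ((R ⧸ I) ⊗[R] S) := Module.Flat.of_linearEquiv e.symm
    exact Groth.L20.flat_of_lTensor_injective_of_flat_quotient S I hI h1

theorem flat_of_map_isWeaklyRegular (R S : Type u) [CommRing R] [IsLocalRing R] [IsNoetherianRing R]
    [CommRing S] [IsLocalRing S] [IsNoetherianRing S] (φ : R →+* S) [IsLocalHom φ] (rs : List R)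
    (hgen : Ideal.ofList rs = maximalIdeal R) (hR : IsWeaklyRegular R rs) (hS : IsWeaklyRegular S (rs.map φ)) :
    φ.Flat := by
  letI := φ.toAlgebra
  have : IsLocalHom (algebraMap R S) := inferInstanceAs (IsLocalHom φ)
  refine flat_of_isWeaklyRegular _ R S rs rfl hgen hR ?_
  exact (isWeaklyRegular_map_algebraMap_iff S S rs).1 hS

theorem mem_colon_map (R S : Type u) [CommRing R] [CommRing S] (φ : R →+* S) (hφ : φ.Flat)
    (J : Ideal R) (r : R) (n : S) (h : φ r * n ∈ J.map φ) : n ∈ (J.colon {r}).map φ := by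
  letI := φ.toAlgebra
  have : Module.Flat R S := hφ
  have h1 := Groth.L03.FlatLemmas.mem_colon_smul_top (M := S) J r n (by
    rw [Ideal.smul_top_eq_map, Algebra.smul_def]; exact h)
  rw [Ideal.smul_top_eq_map] at h1
  exact h1

/-- Kunz: Frobenius of a regular local ring is flat -/
theorem flat_frobenius (p : ℕ) [Fact p.Prime] (A : Type u) [CommRing A] [IsRegularLocalRing A] [CharP A p] :
    (frobenius A p).Flat := by
  classical
  obtain ⟨s, hs, hs'⟩ := Submodule.FG.exists_span_finset_card_eq_spanFinrank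
    (IsNoetherian.noetherian (maximalIdeal A))
  obtain ⟨d, f, hfs, hd⟩ : ∃ (d : ℕ) (f : Fin d → A), Set.range f = (s : Set A) ∧ ringKrullDim A = d := by
    refine ⟨s.card, fun i => (s.equivFin.symm i).1, ?_, ?_⟩
    · ext z
      exact ⟨fun ⟨i, hi⟩ => hi ▸ (s.equivFin.symm i).2, fun hz => ⟨s.equivFin ⟨z, hz⟩, by simp⟩⟩
    · rw [hs]; exact ((isRegularLocalRing_iff A).1 ‹_›).symm
  have hgen : Ideal.ofList (List.ofFn f) = maximalIdeal A := by
    rw [← hs', ← hfs, Ideal.ofList]
    congr 1
    ext z
    simp [List.mem_ofFn]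
  have hreg := (Groth.L01.isRegular_of_ofList_eq_maximalIdeal (List.ofFn f) hgen (by rw [List.length_ofFn]; exact hd)).toIsWeaklyRegular
  have hpow := Groth.L06.RegularPow.isWeaklyRegular_pow d f (fun _ => p) (fun _ => (Fact.out : p.Prime).one_le) hreg
  have : IsLocalHom (frobenius A p) := ⟨fun a ha => by
    rw [frobenius_def] at ha
    exact (isUnit_pow_iff (Fact.out : p.Prime).ne_zero).1 ha⟩
  refine flat_of_map_isWeaklyRegular A A (frobenius A p) (List.ofFn f) hgen hreg ?_
  rw [List.map_ofFn]
  exact hpow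

/-- colon ideals commute with Frobenius -/
theorem mem_colon_frobenius (p : ℕ) [Fact p.Prime] (A : Type u) [CommRing A] [IsRegularLocalRing A] [CharP A p]
    (J : Ideal A) (r n : A) (h : r ^ p * n ∈ J.map (frobenius A p)) :
    n ∈ (J.colon {r}).map (frobenius A p) := by
  refine mem_colon_map A A (frobenius A p) (flat_frobenius p A) J r n ?_
  rw [frobenius_def]
  exact h

/-- a local cohomology class fixed by Frobenius vanishes -/
theorem mem_span_pair_of_frobenius (p : ℕ) [Fact p.Prime] (A : Type u) [CommRing A] [IsRegularLocalRing A] [CharP A p]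
    {a b : A} (ha : a ≠ 0) (r : A)
    (h : r ^ p - (a * b) ^ (p - 1) * r ∈ Ideal.span {a ^ p, b ^ p}) : r ∈ Ideal.span {a, b} := by
  have := Groth.L01.isDomain_of_regular A
  by_contra hr
  have hp : p.Prime := Fact.out
  set J := (Ideal.span {a, b}).colon {r}
  have hJm : J ≤ maximalIdeal A := IsLocalRing.le_maximalIdeal fun hJ => hr <| by
    have := Submodule.mem_colon_singleton.1 (hJ ▸ Submodule.mem_top : (1 : A) ∈ J)
    rwa [one_smul] at this
  have hfr : (Ideal.span {a, b}).map (frobenius A p) = Ideal.span {a ^ p, b ^ p} := by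
    rw [Ideal.map_span, Set.image_pair, frobenius_def, frobenius_def]
  have hle : J ≤ maximalIdeal A • J := fun c hc => by
    have hc' : c * r ∈ Ideal.span {a, b} := Submodule.mem_colon_singleton.1 hc
    have h2 : (a * b) ^ (p - 1) * (c * r) ∈ Ideal.span {a ^ p, b ^ p} := by
      obtain ⟨u, v, huv⟩ := Ideal.mem_span_pair.1 hc'
      refine Ideal.mem_span_pair.2 ⟨b ^ (p - 1) * u, a ^ (p - 1) * v, ?_⟩
      obtain ⟨m, rfl⟩ : ∃ m, p = m + 1 := ⟨p - 1, by have := hp.one_le; omega⟩
      simp only [Nat.add_sub_cancel, ← huv]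
      ring
    have h3 : r ^ p * c ∈ (Ideal.span {a, b}).map (frobenius A p) := by
      rw [hfr, show r ^ p * c = c * (r ^ p - (a * b) ^ (p - 1) * r) + (a * b) ^ (p - 1) * (c * r) by ring]
      exact add_mem (Ideal.mul_mem_left _ _ h) h2
    refine (Ideal.map_le_iff_le_comap.2 fun d hd => ?_) (mem_colon_frobenius p A _ r c h3)
    rw [Ideal.mem_comap, frobenius_def, ← Nat.sub_add_cancel hp.one_le, pow_succ, smul_eq_mul]
    exact Ideal.mul_mem_mul (Ideal.pow_mem_of_mem _ (hJm hd) _ (Nat.sub_pos_of_lt hp.one_lt)) hd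
  have hJ0 : J = ⊥ := Submodule.eq_bot_of_le_smul_of_le_jacobson_bot _ J (IsNoetherian.noetherian _) hle
    (maximalIdeal_le_jacobson _)
  have haJ : a ∈ J := Submodule.mem_colon_singleton.2
    (Ideal.mul_mem_right r _ (Ideal.subset_span (by simp)))
  rw [hJ0, Ideal.mem_bot] at haJ
  exact ha haJ

end Groth.L13.Wild.Kunz
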