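import Groth.Agent.L13.Wild.MR
import Groth.Agent.L01.PowSerReg
import Groth.Agent.L01.Regular
import Groth.Agent.S5763
import Mathlib.RingTheory.AdicCompletion.Completeness
import Mathlib.RingTheory.AdicCompletion.Noetherian
import Mathlib.RingTheory.Nakayama
import Mathlib.RingTheory.LocalRing.Length

/-! The algebra over `k[[x]]` is a complete regular local domain. -/

set_option autoImplicit false
set_option linter.unusedSectionVars false

noncomputable section

universe u

namespace Groth.L13.Wild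

section general

variable {R : Type*} [CommRing R]

theorem isAdicComplete_of_pow_le {I J : Ideal R} [hJ : IsAdicComplete J R] (hJI : J ≤ I) {N : ℕ}
    (hN : I ^ N ≤ J) : IsAdicComplete I R := by
  have hN' : ∀ m, I ^ ((N + 1) * m) ≤ J ^ m := fun m => by
    rw [pow_mul]; exact pow_le_pow_left' ((Ideal.pow_le_pow_right (Nat.le_succ N)).trans hN) m
  refine { haus' := fun x hx => ?_, prec' := fun f hf => ?_ }
  · refine hJ.haus x fun m => ?_
    have := hx ((N + 1) * m)
    rw [SModEq.sub_mem, smul_eq_mul, Ideal.mul_top] at this ⊢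
    exact hN' m this
  · obtain ⟨L, hL⟩ := hJ.prec' (fun m => f ((N + 1) * m)) (fun {m m'} hmm => by
      have := hf (Nat.mul_le_mul_left (N + 1) hmm)
      rw [SModEq.sub_mem, smul_eq_mul, Ideal.mul_top] at this ⊢
      exact hN' m this)
    refine ⟨L, fun m => ?_⟩
    have h1 := hf (Nat.le_mul_of_pos_left m (Nat.succ_pos N))
    have h2 := hL m
    rw [SModEq.sub_mem, smul_eq_mul, Ideal.mul_top] at h1 h2 ⊢
    have := add_mem h1 (Ideal.pow_right_mono hJI m h2)
    simpa using this

variable {M : Type*} [AddCommGroup M] [Module R M] {ι : Type*} [Fintype ι] (B : Module.Basis ι R M)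

theorem mem_smul_top_iff_repr (I : Ideal R) (x : M) :
    x ∈ I • (⊤ : Submodule R M) ↔ ∀ i, B.repr x i ∈ I := by
  constructor
  · intro hx
    refine Submodule.smul_induction_on hx (fun r hr y _ i => ?_) (fun y z hy hz i => ?_)
    · simpa using I.mul_mem_right _ hr
    · simpa using add_mem (hy i) (hz i)
  · intro h
    rw [← B.sum_repr x]
    exact sum_mem fun i _ => Submodule.smul_mem_smul (h i) Submodule.mem_top

include B in
theorem isAdicComplete_of_basis (I : Ideal R) [hI : IsAdicComplete I R] : IsAdicComplete I M := by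
  refine { haus' := fun x hx => ?_, prec' := fun f hf => ?_ }
  · refine B.repr.injective (Finsupp.ext fun i => ?_)
    rw [map_zero, Finsupp.zero_apply]
    refine hI.haus _ fun m => ?_
    have := hx m
    rw [SModEq.sub_mem, mem_smul_top_iff_repr B] at this
    rw [SModEq.sub_mem, smul_eq_mul, Ideal.mul_top]
    simpa using this i
  · have : ∀ i, ∃ L, ∀ n, B.repr (f n) i ≡ L [SMOD (I ^ n • ⊤ : Submodule R R)] := fun i =>
      hI.prec' _ fun {m m'} hmm => by
        have := hf hmm
        rw [SModEq.sub_mem, mem_smul_top_iff_repr B] at this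
        rw [SModEq.sub_mem, smul_eq_mul, Ideal.mul_top]
        simpa using this i
    choose L hL using this
    refine ⟨∑ i, L i • B i, fun n => ?_⟩
    rw [SModEq.sub_mem, mem_smul_top_iff_repr B]
    intro i
    have := hL i n
    rw [SModEq.sub_mem, smul_eq_mul, Ideal.mul_top] at this
    rw [map_sub, Finsupp.sub_apply, Module.Basis.repr_sum_self]
    exact this

end general

namespace MR

open MvPolynomial IsLocalRing

variable {p : ℕ} [hp : Fact p.Prime] {k : Type u} [Field k] {n : ℕ}
  (b : Fin n → MvPowerSeries (Fin n) k) (hb : ∀ i, MvPowerSeries.constantCoeff (b i) = 0)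

abbrev PSAlg (p : ℕ) (b : Fin n → MvPowerSeries (Fin n) k) :=
  Alg p b (fun i => (MvPowerSeries.X i : MvPowerSeries (Fin n) k))

local notation "𝔸" => PSAlg p b
local notation "RR" => MvPowerSeries (Fin n) k
local notation "u" => U (p := p) b (fun i => (MvPowerSeries.X i : MvPowerSeries (Fin n) k))

/-- the ideal of the generators -/
def uIdeal : Ideal (PSAlg p b) :=
  Ideal.span (Set.range (U (p := p) b (fun i => (MvPowerSeries.X i : MvPowerSeries (Fin n) k))))

theorem map_maximalIdeal_le : (maximalIdeal RR).map (algebraMap RR 𝔸) ≤ uIdeal b := by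
  rw [Groth.L01.PowSerReg.maximalIdeal_eq, Groth.L01.PowSerReg.varIdeal, Ideal.map_span, Ideal.span_le]
  rintro _ ⟨_, ⟨i, rfl⟩, rfl⟩
  have h := U_pow (p := p) b (fun i => (MvPowerSeries.X i : RR)) i
  have hu : u i ∈ uIdeal (p := p) b := Ideal.subset_span ⟨i, rfl⟩
  rw [SetLike.mem_coe, show algebraMap RR 𝔸 (MvPowerSeries.X i) =
    u i ^ p - algebraMap RR 𝔸 (b i ^ (p - 1)) * u i by rw [h]; ring]
  exact sub_mem (Ideal.pow_mem_of_mem _ hu p hp.out.pos) (Ideal.mul_mem_left _ _ hu)

theorem exists_const (t : 𝔸) :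
    ∃ c : k, t - algebraMap RR 𝔸 (MvPowerSeries.C c) ∈ uIdeal b := by
  have ht : t ∈ Algebra.adjoin RR (Set.range u) := by rw [adjoin_U]; trivial
  induction ht using Algebra.adjoin_induction with
  | mem x hx => exact ⟨0, by simpa [uIdeal] using Ideal.subset_span hx⟩
  | algebraMap r =>
    refine ⟨MvPowerSeries.constantCoeff r, map_maximalIdeal_le b ?_⟩
    rw [← map_sub]
    refine Ideal.mem_map_of_mem _ ?_
    rw [mem_maximalIdeal, mem_nonunits_iff, MvPowerSeries.isUnit_iff_constantCoeff, isUnit_iff_ne_zero, not_not]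
    simp
  | add x y _ _ hx hy =>
    obtain ⟨c, hc⟩ := hx; obtain ⟨d, hd⟩ := hy
    refine ⟨c + d, ?_⟩
    rw [map_add, map_add, add_sub_add_comm]
    exact add_mem hc hd
  | mul x y _ _ hx hy =>
    obtain ⟨c, hc⟩ := hx; obtain ⟨d, hd⟩ := hy
    refine ⟨c * d, ?_⟩
    rw [map_mul, map_mul, show x * y - algebraMap RR 𝔸 (MvPowerSeries.C c) * algebraMap RR 𝔸 (MvPowerSeries.C d) =
      (x - algebraMap RR 𝔸 (MvPowerSeries.C c)) * y +
        algebraMap RR 𝔸 (MvPowerSeries.C c) * (y - algebraMap RR 𝔸 (MvPowerSeries.C d)) by ring]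
    exact add_mem (Ideal.mul_mem_right _ _ hc) (Ideal.mul_mem_left _ _ hd)

include hb in
theorem uIdeal_le {M : Ideal 𝔸} [hM : M.IsMaximal] : uIdeal b ≤ M := by
  have := moduleFinite (p := p) b (fun i => (MvPowerSeries.X i : RR))
  have hc : (M.comap (algebraMap RR 𝔸)).IsMaximal := Ideal.isMaximal_comap_of_isIntegral_of_isMaximal M
  have he : M.comap (algebraMap RR 𝔸) = maximalIdeal RR := eq_maximalIdeal hc
  have hmem : ∀ r : RR, MvPowerSeries.constantCoeff r = 0 → algebraMap RR 𝔸 r ∈ M := fun r hr => by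
    have : r ∈ maximalIdeal RR := by
      rw [mem_maximalIdeal, mem_nonunits_iff, MvPowerSeries.isUnit_iff_constantCoeff, isUnit_iff_ne_zero, not_not]
      exact hr
    rwa [← he] at this
  rw [uIdeal, Ideal.span_le]
  rintro _ ⟨i, rfl⟩
  refine hM.isPrime.mem_of_pow_mem p ?_
  rw [U_pow]
  refine add_mem (Ideal.mul_mem_right _ _ (hmem _ ?_)) (hmem _ (MvPowerSeries.constantCoeff_X i))
  rw [map_pow, hb i, zero_pow (Nat.sub_ne_zero_of_lt hp.out.one_lt)]

include hb in
theorem uIdeal_isMaximal : (uIdeal (p := p) b).IsMaximal := by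
  obtain ⟨M, hM⟩ := Ideal.exists_maximal 𝔸
  rw [Ideal.isMaximal_iff]
  refine ⟨fun h => hM.ne_top ((Ideal.eq_top_iff_one _).2 (uIdeal_le b hb h)), fun J x hJ hx hxJ => ?_⟩
  obtain ⟨c, hc⟩ := exists_const b x
  have hc0 : c ≠ 0 := fun h => hx (by simpa [h] using hc)
  have h1 : algebraMap RR 𝔸 (MvPowerSeries.C c) ∈ J := by
    simpa using J.sub_mem hxJ (hJ hc)
  have := J.mul_mem_left (algebraMap RR 𝔸 (MvPowerSeries.C c⁻¹)) h1
  rwa [← map_mul, ← map_mul, inv_mul_cancel₀ hc0, map_one, map_one] at this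

include hb in
theorem isLocalRing : IsLocalRing 𝔸 :=
  IsLocalRing.of_unique_max_ideal ⟨uIdeal b, uIdeal_isMaximal b hb,
    fun M hM => ((uIdeal_isMaximal b hb).eq_of_le hM.ne_top (uIdeal_le b hb (hM := hM))).symm⟩

include hb in
theorem maximalIdeal_eq [IsLocalRing 𝔸] : maximalIdeal 𝔸 = uIdeal b :=
  (eq_maximalIdeal (uIdeal_isMaximal b hb)).symm

theorem ringKrullDim_eq : ringKrullDim 𝔸 = n := by
  have := moduleFinite (p := p) b (fun i => (MvPowerSeries.X i : RR))
  rw [((Groth.Agent.S5763.result RR 𝔸).2 (algebraMap_injective b _)), Groth.L01.PowSerReg.ringKrullDim_eq]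

theorem isNoetherianRing : IsNoetherianRing 𝔸 := by
  have := moduleFinite (p := p) b (fun i => (MvPowerSeries.X i : RR))
  exact IsNoetherianRing.of_finite RR 𝔸

include hb in
theorem isRegularLocalRing : IsRegularLocalRing 𝔸 := by
  have := isLocalRing (p := p) b hb
  have := isNoetherianRing (p := p) b
  refine IsRegularLocalRing.of_spanFinrank_maximalIdeal_le _ ?_
  rw [ringKrullDim_eq, maximalIdeal_eq b hb, uIdeal, Ideal.span]
  refine Nat.cast_le.2 ((Submodule.spanFinrank_span_le_ncard_of_finite (Set.finite_range _)).trans ?_)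
  rw [← Nat.card_coe_set_eq]
  exact (Finite.card_range_le _).trans (by simp)

include hb in
theorem isDomain : IsDomain 𝔸 := by
  have := isRegularLocalRing (p := p) b hb
  exact Groth.L01.isDomain_of_regular _

include hb in
theorem map_maximalIdeal_le_pow : (maximalIdeal RR).map (algebraMap RR 𝔸) ≤ uIdeal b ^ p := by
  have := isLocalRing (p := p) b hb
  have := isNoetherianRing (p := p) b
  refine Submodule.le_of_le_smul_of_le_jacobson_bot (I := uIdeal b) (IsNoetherian.noetherian _) ?_ ?_
  · rw [← maximalIdeal_eq b hb]; exact maximalIdeal_le_jacobson _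
  · set J := (maximalIdeal RR).map (algebraMap RR 𝔸) with hJ
    have hle : (maximalIdeal RR).map (algebraMap RR 𝔸) ≤ uIdeal (p := p) b ^ p ⊔ uIdeal (p := p) b • J := by
      conv_lhs => rw [Groth.L01.PowSerReg.maximalIdeal_eq, Groth.L01.PowSerReg.varIdeal, Ideal.map_span]
      rw [Ideal.span_le]
      rintro _ ⟨_, ⟨i, rfl⟩, rfl⟩
      have h := U_pow (p := p) b (fun i => (MvPowerSeries.X i : RR)) i
      have hu : u i ∈ uIdeal (p := p) b := Ideal.subset_span ⟨i, rfl⟩
      have hbJ : algebraMap RR 𝔸 (b i ^ (p - 1)) ∈ J := Ideal.mem_map_of_mem _ (by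
        rw [mem_maximalIdeal, mem_nonunits_iff, MvPowerSeries.isUnit_iff_constantCoeff, isUnit_iff_ne_zero, not_not,
          map_pow, hb i, zero_pow (Nat.sub_ne_zero_of_lt hp.out.one_lt)])
      rw [SetLike.mem_coe, show algebraMap RR 𝔸 (MvPowerSeries.X i) =
        u i ^ p - algebraMap RR 𝔸 (b i ^ (p - 1)) * u i by rw [h]; ring]
      refine sub_mem (Submodule.mem_sup_left (Ideal.pow_mem_pow hu p)) (Submodule.mem_sup_right ?_)
      rw [smul_eq_mul, mul_comm (algebraMap RR 𝔸 _)]
      exact Ideal.mul_mem_mul hu hbJ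
    exact hle

include hb in
theorem isAdicComplete : IsAdicComplete (uIdeal (p := p) b) 𝔸 := by
  have := isLocalRing (p := p) b hb
  have hR : IsAdicComplete (maximalIdeal RR) RR := by
    rw [Groth.L01.PowSerReg.maximalIdeal_eq, Groth.L01.PowSerReg.varIdeal]; infer_instance
  have hA : IsAdicComplete ((maximalIdeal RR).map (algebraMap RR 𝔸)) 𝔸 :=
    IsAdicComplete.map_algebraMap_iff _ _ |>.2 (isAdicComplete_of_basis (basis b _) _)
  have := isNoetherianRing (p := p) b
  obtain ⟨N, hN⟩ := Ideal.exists_pow_le_of_le_radical_of_fg (J := (maximalIdeal RR).map (algebraMap RR 𝔸))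
    (I := uIdeal b) (by
      rw [uIdeal, Ideal.span_le]
      rintro _ ⟨i, rfl⟩
      refine ⟨p, ?_⟩
      rw [U_pow]
      refine add_mem (Ideal.mul_mem_right _ _ (Ideal.mem_map_of_mem _ ?_)) (Ideal.mem_map_of_mem _ ?_)
      · rw [mem_maximalIdeal, mem_nonunits_iff, MvPowerSeries.isUnit_iff_constantCoeff, isUnit_iff_ne_zero, not_not,
          map_pow, hb i, zero_pow (Nat.sub_ne_zero_of_lt hp.out.one_lt)]
      · rw [mem_maximalIdeal, mem_nonunits_iff, MvPowerSeries.isUnit_iff_constantCoeff, isUnit_iff_ne_zero, not_not]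
        simp) (IsNoetherian.noetherian _)
  exact isAdicComplete_of_pow_le (map_maximalIdeal_le b) hN

/-- length over `A` of `A / K A` -/
theorem length_quotient [IsLocalRing 𝔸] (hb : ∀ i, MvPowerSeries.constantCoeff (b i) = 0) (K : Ideal RR) :
    Module.length 𝔸 (𝔸 ⧸ K.map (algebraMap RR 𝔸)) = (p ^ n : ℕ∞) * Module.length RR (RR ⧸ K) := by
  have : IsLocalHom (algebraMap RR 𝔸) := by
    refine ((IsLocalRing.local_hom_TFAE _).out 0 2).2 ?_
    rw [maximalIdeal_eq b hb]; exact map_maximalIdeal_le b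
  have h1 : Module.length (ResidueField RR) (ResidueField 𝔸) = 1 := by
    have hs : Function.Surjective (algebraMap (ResidueField RR) (ResidueField 𝔸)) := by
      intro y
      obtain ⟨t, rfl⟩ := IsLocalRing.residue_surjective y
      obtain ⟨c, hc⟩ := exists_const b t
      refine ⟨residue RR (MvPowerSeries.C c), ?_⟩
      rw [IsLocalRing.ResidueField.algebraMap_residue, eq_comm, ← sub_eq_zero, ← map_sub,
        IsLocalRing.residue_eq_zero_iff, maximalIdeal_eq b hb]
      exact hc
    rw [Module.length_eq_of_surjective (R := ResidueField 𝔸) hs, Module.length_eq_one_iff]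
    infer_instance
  have h2 := IsLocalRing.length_restrictScalars RR 𝔸 (𝔸 ⧸ K.map (algebraMap RR 𝔸))
  rw [h1, mul_one] at h2
  rw [← h2]
  let π : 𝔸 →ₗ[RR] ((Fin n → Fin p) → RR ⧸ K) :=
    LinearMap.pi fun e => K.mkQ.comp ((Finsupp.lapply e).comp (basis b (fun i => (MvPowerSeries.X i : RR))).repr.toLinearMap)
  have hπ : Function.Surjective π := fun z => by
    choose c hc using fun e => Submodule.Quotient.mk_surjective K (z e)
    refine ⟨∑ e, c e • basis b _ e, funext fun e => ?_⟩
    show Submodule.Quotient.mk ((basis b _).repr _ e) = z e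
    rw [Module.Basis.repr_sum_self, hc]
  have hk : LinearMap.ker π = (K.map (algebraMap RR 𝔸)).restrictScalars RR := by
    rw [← Ideal.smul_top_eq_map]
    ext t
    rw [LinearMap.mem_ker, mem_smul_top_iff_repr (basis b _), funext_iff]
    exact forall_congr' fun e => Submodule.Quotient.mk_eq_zero K
  have e1 := ((Submodule.quotEquivOfEq _ _ hk.symm).trans (π.quotKerEquivOfSurjective hπ)).length_eq
  have e2 := (Submodule.Quotient.restrictScalarsEquiv RR (K.map (algebraMap RR 𝔸))).length_eq
  rw [← e2, e1, Module.length_pi_of_fintype]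
  simp

end MR

end Groth.L13.Wild
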