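import Mathlib.RingTheory.AdjoinRoot
import Mathlib.RingTheory.MvPolynomial.Basic
import Mathlib.LinearAlgebra.Basis.Basic
import Mathlib.Tactic

/-! The monomial basis of `R[X_i]/(f_i(X_i))` for monic `f_i` of degree `p`. -/

set_option autoImplicit false
set_option linter.unusedSectionVars false

noncomputable section

namespace Groth.L13.Wild

open MvPolynomial

variable {R : Type*} [CommRing R] {ι : Type*} [Fintype ι] [DecidableEq ι] {p : ℕ}

/-- coordinates of `X^d` modulo the `f_i`. -/
def redFun (f : ι → Polynomial R) (d : ι →₀ ℕ) : (ι → Fin p) → R :=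
  fun e => ∏ i, ((Polynomial.X ^ d i) %ₘ f i).coeff (e i)

def red (f : ι → Polynomial R) : MvPolynomial ι R →ₗ[R] ((ι → Fin p) → R) :=
  (basisMonomials ι R).constr R (redFun f)

theorem red_monomial (f : ι → Polynomial R) (d : ι →₀ ℕ) (r : R) :
    red (p := p) f (monomial d r) = r • redFun f d := by
  have h : monomial d r = r • (basisMonomials ι R d) := by simp [coe_basisMonomials, smul_monomial]
  rw [h, map_smul, red, Module.Basis.constr_basis]

theorem red_monomial_mul_aeval (f : ι → Polynomial R) (d : ι →₀ ℕ) (i : ι) (g : Polynomial R) (e : ι → Fin p) :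
    red f (monomial d 1 * Polynomial.aeval (X i) g) e =
      (∏ j ∈ Finset.univ.erase i, ((Polynomial.X ^ d j) %ₘ f j).coeff (e j)) *
        ((Polynomial.X ^ d i * g) %ₘ f i).coeff (e i) := by
  induction g using Polynomial.induction_on' with
  | add a b ha hb =>
    rw [map_add, mul_add, map_add, Pi.add_apply, ha, hb, mul_add, Polynomial.add_modByMonic,
      Polynomial.coeff_add, mul_add]
  | monomial t r =>
    rw [Polynomial.aeval_monomial, algebraMap_eq, ← mul_assoc, mul_comm (monomial d 1) (C r),
      C_mul_monomial, X_pow_eq_monomial, monomial_mul, mul_one, mul_one, red_monomial, Pi.smul_apply,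
      smul_eq_mul, redFun]
    have hm : Polynomial.X ^ d i * Polynomial.monomial t r = r • Polynomial.X ^ (d i + t) := by
      rw [← Polynomial.C_mul_X_pow_eq_monomial, Polynomial.smul_eq_C_mul, pow_add]; ring
    rw [hm, Polynomial.smul_modByMonic, Polynomial.coeff_smul, smul_eq_mul,
      ← Finset.prod_erase_mul _ _ (Finset.mem_univ i)]
    have : ∀ j ∈ Finset.univ.erase i,
        ((Polynomial.X ^ (d + Finsupp.single i t) j) %ₘ f j).coeff (e j) =
          ((Polynomial.X ^ d j) %ₘ f j).coeff (e j) := fun j hj => by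
      rw [Finsupp.add_apply, Finsupp.single_apply, if_neg (Finset.ne_of_mem_erase hj).symm, add_zero]
    rw [Finset.prod_congr rfl this, Finsupp.add_apply, Finsupp.single_eq_same]
    ring

variable (f : ι → Polynomial R)

/-- the ideal of relations -/
def relIdeal : Ideal (MvPolynomial ι R) := Ideal.span (Set.range fun i => Polynomial.aeval (X i) (f i))

theorem red_eq_zero (hf : ∀ i, (f i).Monic) {g : MvPolynomial ι R} (hg : g ∈ relIdeal f) :
    red (p := p) f g = 0 := by
  rw [relIdeal, Ideal.span, Submodule.mem_span_range_iff_exists_fun] at hg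
  obtain ⟨c, rfl⟩ := hg
  rw [map_sum]
  refine Finset.sum_eq_zero fun i _ => ?_
  rw [smul_eq_mul, (c i).as_sum, Finset.sum_mul, map_sum]
  refine Finset.sum_eq_zero fun d _ => ?_
  rw [show monomial d (coeff d (c i)) = coeff d (c i) • monomial d (1 : R) by rw [smul_monomial, smul_eq_mul, mul_one],
    smul_mul_assoc, map_smul]
  convert smul_zero _
  funext e
  rw [red_monomial_mul_aeval, Pi.zero_apply,
    (Polynomial.modByMonic_eq_zero_iff_dvd (hf i)).2 (dvd_mul_left _ _), Polynomial.coeff_zero, mul_zero]

theorem sum_coeff_smul [Nontrivial R] {A : Type*} [CommRing A] [Algebra R A] (a : A) {q : Polynomial R}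
    (hq : q.natDegree < p) : Polynomial.aeval a q = ∑ k : Fin p, q.coeff k • a ^ (k : ℕ) := by
  rw [Polynomial.aeval_eq_sum_range' hq, Finset.sum_range]

theorem natDegree_modByMonic_lt' [Nontrivial R] (hf : ∀ i, (f i).Monic) (hd : ∀ i, (f i).natDegree = p)
    (hp : 0 < p) (i : ι) (q : Polynomial R) : (q %ₘ f i).natDegree < p := by
  have := Polynomial.natDegree_modByMonic_lt q (hf i) (fun h => by simpa [h, hp.ne] using hd i)
  rwa [hd i] at this

variable (p) in
def uu (i : ι) : MvPolynomial ι R ⧸ relIdeal f := Ideal.Quotient.mk _ (X i)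

theorem aeval_uu (i : ι) : Polynomial.aeval (uu f i) (f i) = 0 := by
  have h : uu f i = Ideal.Quotient.mkₐ R (relIdeal f) (X i) := rfl
  rw [h, Polynomial.aeval_algHom_apply]
  exact Ideal.Quotient.eq_zero_iff_mem.2 (Ideal.subset_span ⟨i, rfl⟩)

theorem aeval_uu_modByMonic (hf : ∀ i, (f i).Monic) (i : ι) (q : Polynomial R) :
    Polynomial.aeval (uu f i) (q %ₘ f i) = Polynomial.aeval (uu f i) q := by
  exact Polynomial.aeval_modByMonic_eq_self_of_root (aeval_uu f i)

def ev : ((ι → Fin p) → R) →ₗ[R] MvPolynomial ι R ⧸ relIdeal f :=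
  Fintype.linearCombination R fun e => ∏ i, uu f i ^ (e i : ℕ)

theorem ev_red [Nontrivial R] (hf : ∀ i, (f i).Monic) (hd : ∀ i, (f i).natDegree = p) (hp : 0 < p)
    (g : MvPolynomial ι R) : ev (p := p) f (red f g) = Ideal.Quotient.mk _ g := by
  have : (ev (p := p) f).comp (red f) = (Ideal.Quotient.mkₐ R (relIdeal f)).toLinearMap := by
    refine (basisMonomials ι R).ext fun d => ?_
    rw [coe_basisMonomials, LinearMap.comp_apply, red_monomial, one_smul, ev, Fintype.linearCombination_apply]
    show _ = Ideal.Quotient.mk _ (monomial d 1)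
    rw [monomial_eq, C_1, one_mul, Finsupp.prod_fintype _ _ (fun i => pow_zero _), map_prod]
    have key : ∀ i, Ideal.Quotient.mk (relIdeal f) (X i ^ d i) =
        ∑ k : Fin p, ((Polynomial.X ^ d i) %ₘ f i).coeff k • uu f i ^ (k : ℕ) := fun i => by
      rw [map_pow, ← sum_coeff_smul _ (natDegree_modByMonic_lt' f hf hd hp i _), aeval_uu_modByMonic f hf,
        map_pow, Polynomial.aeval_X]
      rfl
    rw [Finset.prod_congr rfl (fun i _ => key i), Fintype.prod_sum]
    refine Finset.sum_congr rfl fun e _ => ?_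
    refine (Algebra.smul_def (R := R) (A := MvPolynomial ι R ⧸ relIdeal f) _ _).trans ?_
    rw [redFun, map_prod, ← Finset.prod_mul_distrib]
    exact Finset.prod_congr rfl fun i _ => (Algebra.smul_def (R := R) (A := MvPolynomial ι R ⧸ relIdeal f) _ _).symm
  exact LinearMap.congr_fun this g

theorem red_pow [Nontrivial R] (hf : ∀ i, (f i).Monic) (hd : ∀ i, (f i).natDegree = p) (e : ι → Fin p) :
    red (p := p) f (monomial (Finsupp.equivFunOnFinite.symm fun i => (e i : ℕ)) 1) = Pi.single e 1 := by
  funext e'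
  rw [red_monomial, one_smul, redFun]
  have h : ∀ i, ((Polynomial.X ^ (e i : ℕ)) %ₘ f i).coeff (e' i) = if e' i = e i then 1 else 0 := fun i => by
    rw [(Polynomial.modByMonic_eq_self_iff (hf i)).2 (by
      rw [Polynomial.degree_X_pow, Polynomial.degree_eq_natDegree (hf i).ne_zero, hd i]
      exact_mod_cast (e i).2), Polynomial.coeff_X_pow]
    simp [Fin.ext_iff]
  simp only [Finsupp.coe_equivFunOnFinite_symm, h]
  by_cases he : e' = e
  · subst he; simp
  · rw [Pi.single_eq_of_ne he]
    obtain ⟨i, hi⟩ := Function.ne_iff.1 he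
    exact Finset.prod_eq_zero (Finset.mem_univ i) (if_neg hi)

/-- coordinates on the quotient -/
def coord (hf : ∀ i, (f i).Monic) : (MvPolynomial ι R ⧸ relIdeal f) →ₗ[R] ((ι → Fin p) → R) :=
  Submodule.liftQ ((relIdeal f).restrictScalars R) (red f) (fun _ hg => LinearMap.mem_ker.2 (red_eq_zero f hf hg))

theorem coord_mk (hf : ∀ i, (f i).Monic) (g : MvPolynomial ι R) :
    coord (p := p) f hf (Ideal.Quotient.mk _ g) = red f g := rfl

theorem mk_monomial_eq (e : ι → Fin p) :
    Ideal.Quotient.mk (relIdeal f) (monomial (Finsupp.equivFunOnFinite.symm fun i => (e i : ℕ)) 1) =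
      ∏ i, uu f i ^ (e i : ℕ) := by
  rw [monomial_eq, C_1, one_mul, Finsupp.prod_fintype _ _ (fun i => pow_zero _), map_prod]
  simp [uu]

/-- the monomial basis -/
def basis [Nontrivial R] (hf : ∀ i, (f i).Monic) (hd : ∀ i, (f i).natDegree = p) (hp : 0 < p) :
    Module.Basis (ι → Fin p) R (MvPolynomial ι R ⧸ relIdeal f) :=
  Module.Basis.ofEquivFun
    { coord (p := p) f hf with
      invFun := ev f
      left_inv := fun t => by
        obtain ⟨g, rfl⟩ := Ideal.Quotient.mk_surjective t
        exact ev_red f hf hd hp g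
      right_inv := fun v => by
        have : (coord (p := p) f hf).comp (ev f) = LinearMap.id := by
          refine (Pi.basisFun R _).ext fun e => ?_
          rw [Pi.basisFun_apply, LinearMap.comp_apply, LinearMap.id_apply, ev,
            Fintype.linearCombination_apply_single, one_smul, ← mk_monomial_eq, coord_mk, red_pow f hf hd]
        exact LinearMap.congr_fun this v }

theorem basis_apply [Nontrivial R] (hf : ∀ i, (f i).Monic) (hd : ∀ i, (f i).natDegree = p) (hp : 0 < p)
    (e : ι → Fin p) : basis f hf hd hp e = ∏ i, uu f i ^ (e i : ℕ) := by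
  rw [basis, Module.Basis.coe_ofEquivFun]
  show ev (p := p) f (Pi.single e 1) = _
  rw [ev, Fintype.linearCombination_apply_single, one_smul]

end Groth.L13.Wild
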