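import Groth.Agent.L04.CMLoc
import Mathlib.RingTheory.Regular.Free
import Mathlib.RingTheory.Regular.RegularSequence
import Mathlib.RingTheory.Flat.TorsionFree
import Mathlib.RingTheory.Ideal.HasGoingUp
import Mathlib.LinearAlgebra.FreeModule.StrongRankCondition

/-! A finite extension of regular local rings is free. -/

set_option autoImplicit false

universe u v

namespace Groth.L13.Wild

open IsLocalRing RingTheory.Sequence

theorem free_of_isWeaklyRegular : ∀ (l : ℕ) (R : Type u) [CommRing R] [IsLocalRing R] [IsNoetherianRing R]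
    (M : Type v) [AddCommGroup M] [Module R M] [Module.Finite R M] (rs : List R), rs.length = l →
    Ideal.ofList rs = maximalIdeal R → IsWeaklyRegular M rs → Module.Free R M
  | 0, R, _, _, _, M, _, _, _, rs, hl, hgen, _ => by
    rw [List.length_eq_zero_iff] at hl
    subst hl
    rw [Ideal.ofList_nil] at hgen
    letI : Field R := ((IsLocalRing.isField_iff_maximalIdeal_eq).2 hgen.symm).toField
    exact Module.Free.of_divisionRing R M
  | l + 1, R, _, _, _, M, _, _, _, [], hl, _, _ => by simp at hl
  | l + 1, R, _, _, _, M, _, _, _, r :: rs, hl, hgen, hreg => by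
    rw [isWeaklyRegular_cons_iff'] at hreg
    have hr : r ∈ maximalIdeal R := hgen ▸ Ideal.subset_span List.mem_cons_self
    have : Nontrivial (R ⧸ Ideal.span {r}) := Ideal.Quotient.nontrivial_iff.2
      (fun h => (maximalIdeal.isMaximal R).ne_top (top_le_iff.1 (h ▸ (Ideal.span_singleton_le_iff_mem _).2 hr)))
    have : IsLocalRing (R ⧸ Ideal.span {r}) := IsLocalRing.of_surjective' _ Ideal.Quotient.mk_surjective
    have : Module.Finite (R ⧸ Ideal.span {r}) (QuotSMulTop r M) := Module.Finite.of_restrictScalars_finite R _ _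
    have hgen' : Ideal.ofList (rs.map (Ideal.Quotient.mk (Ideal.span {r}))) = maximalIdeal (R ⧸ Ideal.span {r}) := by
      rw [← Ideal.map_ofList]
      have h2 : (maximalIdeal R).map (Ideal.Quotient.mk (Ideal.span {r})) = maximalIdeal (R ⧸ Ideal.span {r}) := by
        refine eq_maximalIdeal ?_
        refine Ideal.map_eq_top_or_isMaximal_of_surjective _ Ideal.Quotient.mk_surjective (maximalIdeal.isMaximal R) |>.resolve_left ?_
        intro h
        have := congrArg (Ideal.comap (Ideal.Quotient.mk (Ideal.span {r}))) h
        rw [Ideal.comap_top, Ideal.comap_map_of_surjective _ Ideal.Quotient.mk_surjective,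
          ← RingHom.ker_eq_comap_bot, Ideal.mk_ker, sup_eq_left.2 ((Ideal.span_singleton_le_iff_mem _).2 hr)] at this
        exact (maximalIdeal.isMaximal R).ne_top this
      rw [← h2, ← hgen, Ideal.ofList_cons, Ideal.map_sup, Ideal.map_quotient_self, bot_sup_eq]
    have hfree := free_of_isWeaklyRegular l (R ⧸ Ideal.span {r}) (QuotSMulTop r M) _ (by simpa using hl) hgen' hreg.2
    have := Module.finitePresentation_of_finite R M
    exact (Module.free_quotSMulTop_iff_free R M (by rw [IsLocalRing.jacobson_eq_maximalIdeal ⊥ bot_ne_top]; exact hr) hreg.1).1 hfree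

theorem free_of_regular (R : Type u) [CommRing R] [IsRegularLocalRing R] (A : Type v) [CommRing A]
    [IsRegularLocalRing A] [Algebra R A] [Module.Finite R A] (hinj : Function.Injective (algebraMap R A)) :
    Module.Free R A := by
  obtain ⟨s, hs, hs'⟩ := Submodule.FG.exists_span_finset_card_eq_spanFinrank
    (IsNoetherian.noetherian (maximalIdeal R))
  have hgen : Ideal.ofList s.toList = maximalIdeal R := by
    rw [← hs', Ideal.ofList]
    congr 1
    ext x
    simp
  refine free_of_isWeaklyRegular _ R A s.toList rfl hgen ((isWeaklyRegular_map_algebraMap_iff A A s.toList).1 ?_)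
  have : FaithfulSMul R A := (faithfulSMul_iff_algebraMap_injective R A).2 hinj
  have hlocal : IsLocalHom (algebraMap R A) := Algebra.IsIntegral.isLocalHom R A
  have hmem : ∀ x ∈ s.toList.map (algebraMap R A), x ∈ maximalIdeal A := by
    intro x hx
    obtain ⟨r, hr, rfl⟩ := List.mem_map.1 hx
    have : r ∈ maximalIdeal R := hgen ▸ Ideal.subset_span hr
    have h3 : (maximalIdeal R).map (algebraMap R A) ≤ maximalIdeal A :=
      ((IsLocalRing.local_hom_TFAE (algebraMap R A)).out 0 2 rfl rfl).1 hlocal
    exact h3 (Ideal.mem_map_of_mem _ this)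
  have hdim : ringKrullDim A = (s.toList.map (algebraMap R A)).length := by
    have h1 : ringKrullDim A = ringKrullDim R := le_antisymm
      (Order.krullDim_le_of_strictMono (PrimeSpectrum.comap (algebraMap R A))
        fun I J h => Ideal.IsIntegral.comap_lt_comap (I := I.asIdeal) (J := J.asIdeal) h)
      (iSup_le fun l => by
        obtain ⟨Q, -, hQ, hQl⟩ := Ideal.exists_ideal_over_prime_of_isIntegral l.head.asIdeal (⊥ : Ideal A)
          (by rw [← RingHom.ker_eq_comap_bot, (RingHom.injective_iff_ker_eq_bot _).mp hinj]; exact bot_le)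
        have : Q.LiesOver l.head.asIdeal := ⟨hQl.symm⟩
        obtain ⟨L, hL, -, -⟩ := Ideal.exists_ltSeries_of_hasGoingUp l Q
        exact hL ▸ Order.LTSeries.length_le_krullDim L)
    rw [h1, List.length_map, Finset.length_toList, hs]
    exact ((isRegularLocalRing_iff R).1 ‹_›).symm
  have hI : Ideal.ofList (s.toList.map (algebraMap R A)) = (maximalIdeal R).map (algebraMap R A) := by
    rw [← hgen, Ideal.map_ofList]
  have hne : Ideal.ofList (s.toList.map (algebraMap R A)) ≠ ⊤ := fun h =>
    (maximalIdeal.isMaximal A).ne_top (top_le_iff.1 (h ▸ Ideal.span_le.2 hmem))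
  have hCM : LocCoh.IsCohenMacaulayModule A A :=
    (Groth.L04.isCohenMacaulayLocalRing_of_regular A).supportDim_eq_depth
  have hz : Module.supportDim A (A ⧸ Ideal.ofList (s.toList.map (algebraMap R A)) • (⊤ : Submodule A A)) = 0 := by
    rw [smul_eq_mul, Ideal.mul_top]
    rw [Module.supportDim_quotient_eq_ringKrullDim]
    have : Nontrivial (A ⧸ Ideal.ofList (s.toList.map (algebraMap R A))) := Ideal.Quotient.nontrivial_iff.2 hne
    have : IsLocalRing (A ⧸ Ideal.ofList (s.toList.map (algebraMap R A))) := IsLocalRing.of_surjective' _ Ideal.Quotient.mk_surjective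
    have hart : IsArtinianRing (A ⧸ (maximalIdeal R).map (algebraMap R A)) := by
      have : Module.Finite (R ⧸ maximalIdeal R) (A ⧸ (maximalIdeal R).map (algebraMap R A)) :=
        Module.Finite.of_restrictScalars_finite R _ _
      letI : Field (R ⧸ maximalIdeal R) := Ideal.Quotient.field _
      exact IsArtinianRing.of_finite (R ⧸ maximalIdeal R) _
    rw [← hI] at hart
    exact le_antisymm (Ring.krullDimLE_iff.1 inferInstance) ringKrullDim_nonneg_of_nontrivial
  have h := Groth.L04.supportDim_eq_add_idealDepth hne hCM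
  rw [hz, zero_add, Module.supportDim_self_eq_ringKrullDim, hdim] at h
  refine (Groth.L04.idealDepth_eq_length_iff _ hmem).1 ?_
  exact_mod_cast h.symm

end Groth.L13.Wild
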