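import Groth.Agent.L01.NormalDomain
import Mathlib.RingTheory.Invariant.Basic
import Mathlib.RingTheory.Ideal.GoingUp
import Mathlib.FieldTheory.Galois.IsGaloisGroup
import Mathlib.LinearAlgebra.Dimension.Localization
import Mathlib.RingTheory.Localization.Module

/-! Inertia and trace lists for finite group actions. -/

set_option autoImplicit false
set_option linter.unusedSectionVars false

universe u v w

namespace Groth.L13.Wild.Inv

open scoped Pointwise

section comm

variable {A : Type v} [CommRing A] {H : Type w} [Group H] [Finite H] [MulSemiringAction H A]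

/-- an element acting trivially modulo `P` on the `K`-invariants lies in `K` when `I_P ≤ K`. -/
theorem mem_of_sub_mem (K : Subgroup H) (P : Ideal A) [P.IsPrime] (hI : P.inertia H ≤ K) (σ : H)
    (h : ∀ y : A, (∀ k ∈ K, k • y = y) → σ • y - y ∈ P) : σ ∈ K := by
  let B : Subring A := FixedPoints.subring A K
  have hB : ∀ (k : K) (b : B), (k : H) • (b : A) = b := fun k b => b.2 k
  have : Algebra.IsInvariant B A K := ⟨fun x hx => ⟨⟨x, hx⟩, rfl⟩⟩
  have : SMulCommClass K B A := ⟨fun k b x => by
    show (k : H) • ((b : A) * x) = (b : A) * ((k : H) • x)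
    rw [smul_mul', hB]⟩
  have hyy : ∀ b : B, σ • (b : A) - b ∈ P := fun b => h b fun k hk => hB ⟨k, hk⟩ b
  have hunder : P.under B = (σ⁻¹ • P).under B := by
    ext b
    rw [Ideal.mem_comap, Ideal.mem_comap, Ideal.mem_pointwise_smul_iff_inv_smul_mem, inv_inv]
    show (b : A) ∈ P ↔ σ • (b : A) ∈ P
    refine ⟨fun hb => ?_, fun hb => ?_⟩
    · have := P.add_mem (hyy b) hb
      simpa using this
    · have := P.sub_mem hb (hyy b)
      simpa using this
  obtain ⟨k, hk⟩ := Algebra.IsInvariant.exists_smul_of_under_eq B A K P (σ⁻¹ • P) hunder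
  have hk' : σ⁻¹ • P = (k : H) • P := hk
  have hτP : (σ * k) • P = P := by rw [mul_smul, ← hk', smul_inv_smul]
  have hτB : ∀ b : B, (σ * k) • (b : A) - b ∈ P := fun b => by
    rw [mul_smul, hB]; exact hyy b
  have hτP' : Ideal.map (MulSemiringAction.toRingHom H A (σ * k)) P = P := hτP
  let e : (A ⧸ P) ≃ₐ[B ⧸ P.under B] (A ⧸ P) :=
    AlgEquiv.ofRingEquiv (f := Ideal.quotientEquiv P P (MulSemiringAction.toRingEquiv H A (σ * k)) hτP'.symm)
      (fun x => by
        obtain ⟨b, rfl⟩ := Ideal.Quotient.mk_surjective x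
        show Ideal.Quotient.mk P ((σ * k) • (b : A)) = Ideal.Quotient.mk P (b : A)
        rw [Ideal.Quotient.mk_eq_mk_iff_sub_mem]
        exact hτB b)
  obtain ⟨g, hg⟩ := Ideal.Quotient.stabilizerHom_surjective (A := B) (B := A) K (P.under B) P e
  have hgP : ((g : K) : H) • P = P := g.2
  have hmem : ((g : K) : H)⁻¹ * (σ * k) ∈ P.inertia H := by
    intro x
    have h1 := AlgEquiv.congr_fun hg (Ideal.Quotient.mk P x)
    rw [Ideal.Quotient.stabilizerHom_apply] at h1
    change Ideal.Quotient.mk P (((g : K) : H) • x) = Ideal.Quotient.mk P ((σ * k) • x) at h1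
    rw [Ideal.Quotient.mk_eq_mk_iff_sub_mem, ← Ideal.neg_mem_iff, neg_sub] at h1
    have h2 := Ideal.smul_mem_pointwise_smul ((g : K) : H)⁻¹ _ P h1
    rw [inv_smul_eq_iff.2 hgP.symm, smul_sub, inv_smul_smul, ← mul_smul] at h2
    exact h2
  have h3 := K.mul_mem (g : K).2 (hI hmem)
  rw [mul_inv_cancel_left] at h3
  simpa using K.mul_mem h3 (K.inv_mem k.2)

end comm

section trace

variable {R : Type u} [CommRing R] {A : Type v} [CommRing A] [Algebra R A] {H : Type w} [Group H] [Finite H]
  [MulSemiringAction H A] [SMulCommClass H R A]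

/-- functions `τ ↦ ∑ x_l (τ • y_l)` with `x_l, y_l ∈ C` -/
inductive Tr (C : Subalgebra R A) : (H → A) → Prop
  | pair {x y : A} (hx : x ∈ C) (hy : y ∈ C) : Tr C (fun τ => x * τ • y)
  | add {f g : H → A} : Tr C f → Tr C g → Tr C (f + g)

variable {C : Subalgebra R A}

theorem Tr.mul_left {x : A} (hx : x ∈ C) {f : H → A} (hf : Tr C f) : Tr C (fun τ => x * f τ) := by
  induction hf with
  | @pair a b ha hb =>
    rw [show (fun τ : H => x * (a * τ • b)) = fun τ => (x * a) * τ • b from funext fun τ => (mul_assoc _ _ _).symm]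
    exact .pair (mul_mem hx ha) hb
  | @add f g _ _ h1 h2 =>
    rw [show (fun τ : H => x * (f + g) τ) = (fun τ => x * f τ) + (fun τ => x * g τ) from funext fun τ => mul_add _ _ _]
    exact .add h1 h2

theorem Tr.const {x : A} (hx : x ∈ C) : Tr C (fun _ : H => x) := by
  have h : Tr C (fun τ : H => x * τ • (1 : A)) := .pair hx (one_mem C)
  simpa using h

theorem Tr.mul {f g : H → A} (hf : Tr C f) (hg : Tr C g) : Tr C (f * g) := by
  induction hf with
  | @pair a b ha hb =>
    induction hg with
    | @pair c d hc hd =>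
      rw [show ((fun τ : H => a * τ • b) * fun τ => c * τ • d) = fun τ => (a * c) * τ • (b * d) from
        funext fun τ => by simp only [Pi.mul_apply, smul_mul']; ring]
      exact .pair (mul_mem ha hc) (mul_mem hb hd)
    | @add f g _ _ h1 h2 => rw [mul_add]; exact .add h1 h2
  | @add f g' _ _ h1 h2 => rw [add_mul]; exact .add h1 h2

theorem Tr.prod {ι : Type*} (s : Finset ι) {f : ι → H → A} (hf : ∀ i ∈ s, Tr C (f i)) : Tr C (∏ i ∈ s, f i) := by
  classical
  induction s using Finset.induction_on with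
  | empty => exact Tr.const (one_mem C)
  | insert i s hi ih =>
    rw [Finset.prod_insert hi]
    exact (hf i (Finset.mem_insert_self _ _)).mul (ih fun j hj => hf j (Finset.mem_insert_of_mem hj))

/-- the trace trick: invariants and a separating function give membership -/
theorem mem_of_tr (K : Subgroup H) (hK : ∀ a : A, (∀ k ∈ K, k • a = a) → a ∈ C) {f : H → A} (hf : Tr C f)
    {c : R} (h1 : f 1 = algebraMap R A c) (h0 : ∀ τ ∈ K, τ ≠ 1 → f τ = 0) (a : A) : c • a ∈ C := by
  classical
  cases nonempty_fintype K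
  have hsum : ∑ τ : K, f τ * (τ : H) • a = c • a := by
    rw [Finset.sum_eq_single (1 : K)]
    · rw [OneMemClass.coe_one, one_smul, h1, ← Algebra.smul_def]
    · intro τ _ hτ
      rw [h0 _ τ.2 (fun h => hτ (Subtype.ext h)), zero_mul]
    · intro h; exact absurd (Finset.mem_univ _) h
  rw [← hsum]
  clear hsum h1 h0
  induction hf generalizing a with
  | @pair x y hx hy =>
    simp only [mul_assoc, ← smul_mul', ← Finset.mul_sum]
    refine mul_mem hx (hK _ fun k hk => ?_)
    rw [Finset.smul_sum]
    exact Fintype.sum_equiv (Equiv.mulLeft (⟨k, hk⟩ : K)) _ _ fun τ => by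
      rw [← mul_smul]; rfl
  | @add f g _ _ h1 h2 =>
    simp only [Pi.add_apply, add_mul, Finset.sum_add_distrib]
    exact add_mem (h1 a) (h2 a)

/-- separating function for one element -/
theorem exists_tr [Module.Finite R A] (hcomm : ∀ g h : H, g * h = h * g) (K : Subgroup H) (B : Subalgebra R A)
    (hB : ∀ y, y ∈ B ↔ ∀ k ∈ K, k • y = y) (hBC : B ≤ C) (q : Ideal R) [q.IsPrime] (hker : RingHom.ker (algebraMap R A) = ⊥)
    (hI : ∀ P : Ideal A, P.IsPrime → P.comap (algebraMap R A) = q → P.inertia H ≤ K) (σ : H) (hσ : σ ∉ K) :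
    ∃ f : H → A, Tr C f ∧ f σ = 0 ∧ ∃ c ∉ q, f 1 = algebraMap R A c := by
  classical
  have hst : ∀ y ∈ B, σ • y ∈ B := fun y hy => (hB _).2 fun k hk => by
    rw [← mul_smul, hcomm, mul_smul, (hB y).1 hy k hk]
  let g : B → B := fun y => y - ⟨σ • (y : A), hst y y.2⟩
  let J : Ideal B := Ideal.span (Set.range g)
  have hJ : ¬ J.comap (algebraMap R B) ≤ q := by
    intro hle
    have : Algebra.IsIntegral R B := ⟨fun x => by
      have h1 : IsIntegral R (x : A) := Algebra.IsIntegral.isIntegral _
      exact (isIntegral_algHom_iff B.val Subtype.val_injective).1 h1⟩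
    obtain ⟨Q, hJQ, hQ, hQq⟩ := Ideal.exists_ideal_over_prime_of_isIntegral q J hle
    have : Algebra.IsIntegral B A := Algebra.IsIntegral.tower_top R
    obtain ⟨P, -, hP, hPQ⟩ := Ideal.exists_ideal_over_prime_of_isIntegral (R := B) (S := A) Q ⊥ (by
      rw [← RingHom.ker_eq_comap_bot, (RingHom.injective_iff_ker_eq_bot _).1 (Subtype.val_injective)]
      exact bot_le)
    refine hσ (mem_of_sub_mem K P (hI P hP ?_) σ fun y hy => ?_)
    · rw [IsScalarTower.algebraMap_eq R B A, ← Ideal.comap_comap, hPQ, hQq]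
    · have h2 : g ⟨y, (hB y).2 hy⟩ ∈ Q := hJQ (Ideal.subset_span ⟨_, rfl⟩)
      rw [← hPQ, Ideal.mem_comap] at h2
      have h3 : y - σ • y ∈ P := h2
      rw [← Ideal.neg_mem_iff, neg_sub] at h3
      exact h3
  obtain ⟨c, hc, hcq⟩ := SetLike.not_le_iff_exists.1 hJ
  have key : ∀ z ∈ J, ∃ f : H → A, Tr C f ∧ f σ = 0 ∧ f 1 = z := by
    intro z hz
    induction hz using Submodule.span_induction with
    | mem z hz =>
      obtain ⟨y, rfl⟩ := hz
      exact ⟨(fun τ => 1 * τ • (y : A)) + fun _ => -(σ • (y : A)),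
        (Tr.pair (one_mem C) (hBC y.2)).add (Tr.const (neg_mem (hBC (hst y y.2)))),
        by simp, by simp [g, sub_eq_add_neg]⟩
    | zero => exact ⟨fun _ => 0, Tr.const (zero_mem C), rfl, rfl⟩
    | add a b _ _ ha hb =>
      obtain ⟨f, hf, hfσ, hf1⟩ := ha
      obtain ⟨f', hf', hfσ', hf1'⟩ := hb
      exact ⟨f + f', hf.add hf', by simp [hfσ, hfσ'], by simp [hf1, hf1']⟩
    | smul x a _ ha =>
      obtain ⟨f, hf, hfσ, hf1⟩ := ha
      exact ⟨fun τ => (x : A) * f τ, hf.mul_left (hBC x.2), by simp [hfσ], by simp [hf1]⟩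
  obtain ⟨f, hf, hfσ, hf1⟩ := key _ hc
  exact ⟨f, hf, hfσ, c, hcq, hf1⟩

/-- separating function for a subgroup -/
theorem exists_mem_of_separated [Module.Finite R A] (hcomm : ∀ g h : H, g * h = h * g) (K : Subgroup H)
    (hK : ∀ a : A, (∀ k ∈ K, k • a = a) → a ∈ C) (q : Ideal R) [q.IsPrime] (hker : RingHom.ker (algebraMap R A) = ⊥)
    (hsep : ∀ τ ∈ K, τ ≠ 1 → ∃ (K' : Subgroup H), τ ∉ K' ∧ (∀ a : A, (∀ k ∈ K', k • a = a) → a ∈ C) ∧
      ∀ P : Ideal A, P.IsPrime → P.comap (algebraMap R A) = q → P.inertia H ≤ K') :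
    ∃ c ∉ q, ∀ a : A, c • a ∈ C := by
  classical
  cases nonempty_fintype K
  have : ∀ τ : K, ∃ f : H → A, Tr C f ∧ ((τ : H) ≠ 1 → f τ = 0) ∧ ∃ c ∉ q, f 1 = algebraMap R A c := by
    intro τ
    by_cases hτ : (τ : H) = 1
    · exact ⟨fun _ => 1, Tr.const (one_mem C), fun h => absurd hτ h, 1,
        fun h => (inferInstance : q.IsPrime).ne_top ((Ideal.eq_top_iff_one q).2 h), (map_one _).symm⟩
    obtain ⟨K', hτK', hK', hI⟩ := hsep τ τ.2 hτ
    let B : Subalgebra R A :=
      { carrier := {y | ∀ k ∈ K', k • y = y}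
        mul_mem' := fun ha hb k hk => by rw [smul_mul', ha k hk, hb k hk]
        add_mem' := fun ha hb k hk => by rw [smul_add, ha k hk, hb k hk]
        algebraMap_mem' := fun r k _ => smul_algebraMap k r }
    obtain ⟨f, hf, hfσ, c, hc, hf1⟩ := exists_tr (C := C) hcomm K' B (fun y => Iff.rfl) (fun y hy => hK' y hy) q hker hI τ hτK'
    exact ⟨f, hf, fun _ => hfσ, c, hc, hf1⟩
  choose f hf hf0 c hc hf1 using this
  refine ⟨∏ τ, c τ, fun h => ?_, fun a => ?_⟩
  · obtain ⟨τ, -, hτ⟩ := (inferInstance : q.IsPrime).prod_mem_iff.1 h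
    exact hc τ hτ
  · refine mem_of_tr K hK (Tr.prod Finset.univ fun τ _ => hf τ) ?_ ?_ a
    · rw [Finset.prod_apply, map_prod]
      exact Finset.prod_congr rfl fun τ _ => hf1 τ
    · intro τ hτ hτ1
      rw [Finset.prod_apply]
      exact Finset.prod_eq_zero (Finset.mem_univ (⟨τ, hτ⟩ : K)) (hf0 ⟨τ, hτ⟩ hτ1)

end trace

section rank

variable {R : Type u} [CommRing R] [IsDomain R] {A : Type v} [CommRing A] [IsDomain A] [Algebra R A] [Module.Finite R A]
  {H : Type w} [Group H] [Finite H] [MulSemiringAction H A] [SMulCommClass H R A] [FaithfulSMul H A]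

theorem isGaloisGroup (hfix : ∀ a : A, (∀ h : H, h • a = a) → a ∈ Set.range (algebraMap R A)) :
    IsGaloisGroup H R A where
  faithful := inferInstance
  commutes := inferInstance
  isInvariant := ⟨fun x hx => hfix x hx⟩

theorem finrank_eq_card (hinj : Function.Injective (algebraMap R A))
    (hfix : ∀ a : A, (∀ h : H, h • a = a) → a ∈ Set.range (algebraMap R A)) :
    Module.finrank R A = Nat.card H := by
  have := isGaloisGroup hfix
  have : FaithfulSMul R A := (faithfulSMul_iff_algebraMap_injective R A).2 hinj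
  exact (IsGaloisGroup.card_eq_finrank' H R A).symm

theorem finrank_fixed_mul_card (hinj : Function.Injective (algebraMap R A))
    (hfix : ∀ a : A, (∀ h : H, h • a = a) → a ∈ Set.range (algebraMap R A)) (K : Subgroup H) :
    Module.finrank R (FixedPoints.subalgebra R A K) * Nat.card K = Nat.card H := by
  have := isGaloisGroup hfix
  have : FaithfulSMul R A := (faithfulSMul_iff_algebraMap_injective R A).2 hinj
  let L := FractionRing A
  letI := FractionRing.liftAlgebra R L
  letI : MulSemiringAction H L := IsFractionRing.mulSemiringAction H A L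
  let K0 := FractionRing R
  have hG : IsGaloisGroup H K0 L := IsGaloisGroup.to_isFractionRing_of_isIntegral H R A K0 L
  have : IsGalois K0 L := IsGaloisGroup.isGalois H K0 L
  have hsm : ∀ (h : H) (a : A), h • algebraMap A L a = algebraMap A L (h • a) := fun h a =>
    (algebraMap.smul' h a L).symm
  let F : IntermediateField K0 L := FixedPoints.intermediateField K
  let f : FixedPoints.subalgebra R A K →ₗ[R] F :=
    { toFun := fun b => ⟨algebraMap A L b, fun k => by
        show (k : H) • algebraMap A L (b : A) = algebraMap A L b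
        rw [hsm]; exact congrArg _ (b.2 k)⟩
      map_add' := fun b c => Subtype.ext (map_add (algebraMap A L) _ _)
      map_smul' := fun r b => Subtype.ext (by
        show algebraMap A L (r • (b : A)) = r • algebraMap A L (b : A)
        rw [Algebra.smul_def, map_mul, ← IsScalarTower.algebraMap_apply, ← Algebra.smul_def]) }
  have : IsLocalizedModule (nonZeroDivisors R) f := by
    refine { map_units := fun r => ?_, surj := fun x => ?_, exists_of_eq := fun {x y} h => ⟨1, ?_⟩ }
    · rw [Module.End.isUnit_iff]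
      have hr : algebraMap R K0 r ≠ 0 := fun h => nonZeroDivisors.coe_ne_zero r
        (IsFractionRing.injective R K0 (h.trans (map_zero _).symm))
      have e : ∀ z : F, (algebraMap R (Module.End R F) r) z = algebraMap R K0 r • z := fun z =>
        (algebraMap_smul K0 (r : R) z).symm
      refine ⟨fun a b hab => ?_, fun z => ⟨(algebraMap R K0 r)⁻¹ • z, ?_⟩⟩
      · rw [e, e] at hab; exact smul_right_injective F hr hab
      · rw [e, smul_smul, mul_inv_cancel₀ hr, one_smul]
    · have : Algebra.IsIntegral R A := Algebra.IsIntegral.of_finite R A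
      obtain ⟨a, s, hs, hx⟩ := IsFractionRing.div_surjective (A := A) (x : L)
      obtain ⟨r, hr0, hrs⟩ := (Algebra.IsAlgebraic.isAlgebraic (R := R) s).exists_nonzero_dvd hs
      obtain ⟨t, ht⟩ := hrs
      have hfixed : ∀ k : K, k • (a * t) = a * t := fun k => by
        refine IsFractionRing.injective A L ?_
        show algebraMap A L ((k : H) • (a * t)) = _
        have hx2 : algebraMap A L (a * t) = algebraMap R L r * (x : L) := by
          rw [← hx, IsScalarTower.algebraMap_apply R A L, ht, map_mul, map_mul]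
          have : algebraMap A L s ≠ 0 := fun h => nonZeroDivisors.ne_zero hs (IsFractionRing.injective A L (h.trans (map_zero _).symm))
          rw [mul_comm (algebraMap A L s), mul_assoc, mul_div_cancel₀ _ this, mul_comm]
        rw [← hsm, hx2, smul_mul', IsScalarTower.algebraMap_apply R A L, hsm, smul_algebraMap]
        exact congrArg _ (x.2 k)
      refine ⟨⟨⟨a * t, hfixed⟩, ⟨r, mem_nonZeroDivisors_of_ne_zero hr0⟩⟩, Subtype.ext ?_⟩
      show r • (x : L) = algebraMap A L (a * t)
      rw [← hx, Algebra.smul_def, IsScalarTower.algebraMap_apply R A L, ht, map_mul, map_mul]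
      have : algebraMap A L s ≠ 0 := fun h => nonZeroDivisors.ne_zero hs (IsFractionRing.injective A L (h.trans (map_zero _).symm))
      rw [mul_comm (algebraMap A L s), mul_assoc, mul_div_cancel₀ _ this, mul_comm]
    · rw [one_smul, one_smul]
      exact Subtype.ext (IsFractionRing.injective A L (congrArg Subtype.val h))
  have h1 : Module.finrank R F = Module.finrank R (FixedPoints.subalgebra R A K) :=
    IsLocalizedModule.finrank_eq (nonZeroDivisors R) f le_rfl
  have h2 : Module.finrank K0 F = Module.finrank R F := by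
    simp only [Module.finrank, IsLocalization.rank_eq K0 (nonZeroDivisors R) le_rfl]
  have h3 := IsGaloisGroup.finrank_fixedPoints_eq_card_subgroup H K0 L K
  have h4 := Module.finrank_mul_finrank K0 F L
  rw [← h1, ← h2, ← h3, h4, IsGaloisGroup.card_eq_finrank H K0 L]

end rank

section codimOne

theorem mem_range_of_codimOne {R : Type u} [CommRing R] [IsDomain R] [IsNoetherianRing R] [IsIntegrallyClosed R]
    {a b : R} (hb : b ≠ 0) (h : ∀ q : Ideal R, q.IsPrime → q.height = 1 → ∃ c ∉ q, b ∣ c * a) : b ∣ a := by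
  by_contra hab
  have hx : (Submodule.Quotient.mk a : R ⧸ Ideal.span {b}) ≠ 0 := by
    rwa [Ne, Submodule.Quotient.mk_eq_zero, Ideal.mem_span_singleton]
  obtain ⟨P, hP, hle⟩ := exists_le_isAssociatedPrime_of_isNoetherianRing R _ hx
  have hPp : P.IsPrime := hP.isPrime
  have hass : P ∈ associatedPrimes R (R ⧸ Ideal.span {b}) := hP
  obtain ⟨c, hc, hdvd⟩ := h P hPp (Groth.L01.height_eq_one_of_mem_associatedPrimes hb hass)
  refine hc (hle ?_)
  rw [Submodule.mem_colon_singleton, Submodule.mem_bot, ← Submodule.Quotient.mk_smul, Submodule.Quotient.mk_eq_zero,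
    Ideal.mem_span_singleton]
  exact hdvd

end codimOne

end Groth.L13.Wild.Inv
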