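import Mathlib.FieldTheory.Galois.Basic
import Mathlib.RingTheory.Henselian
import Mathlib.Tactic

/-! Artin–Schreier equations. -/

set_option autoImplicit false

universe u v

namespace Groth.L13.Wild.ASRoot

open Polynomial

theorem separable (p : ℕ) [Fact p.Prime] {k : Type v} [Field k] [CharP k p] (c : k) :
    (X ^ p - X - C c : k[X]).Separable := by
  refine (Polynomial.separable_def _).2 ⟨0, -1, ?_⟩
  simp [derivative_X_pow, CharP.cast_eq_zero]

/-- a splitting field is trivial or cyclic of degree `p` -/
theorem exists_root_of_splitting (p : ℕ) [hp : Fact p.Prime] {k : Type v} [Field k] [CharP k p] (c : k)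
    (E : Type v) [Field E] [Algebra k E] [IsSplittingField k E (X ^ p - X - C c : k[X])] :
    (∃ a : k, a ^ p - a = c) ∨ (IsGalois k E ∧ Module.finrank k E = p) := by
  classical
  have : IsGalois k E := IsGalois.of_separable_splitting_field (separable p c)
  have : FiniteDimensional k E := IsSplittingField.finiteDimensional E (X ^ p - X - C c : k[X])
  have : CharP E p := charP_of_injective_algebraMap (algebraMap k E).injective p
  have hdeg : ((X ^ p - X - C c : k[X]).map (algebraMap k E)).degree ≠ 0 := by
    rw [degree_map]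
    have h1 : (X ^ p - X - C c : k[X]).coeff p = 1 := by
      simp [coeff_X, coeff_C, hp.out.ne_one.symm, hp.out.ne_zero]
    intro h
    have := coeff_eq_zero_of_degree_lt (p := (X ^ p - X - C c : k[X])) (n := p)
      (by rw [h]; exact_mod_cast hp.out.pos)
    rw [h1] at this
    exact one_ne_zero this
  obtain ⟨α, hα⟩ := (IsSplittingField.splits E (X ^ p - X - C c : k[X])).exists_eval_eq_zero hdeg
  simp only [Polynomial.map_sub, Polynomial.map_pow, map_X, map_C, eval_sub, eval_pow, eval_X, eval_C] at hα
  have hroot : ∀ β ∈ (X ^ p - X - C c : k[X]).rootSet E, ∃ j : ℕ, β = α + (j : E) := by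
    intro β hβ
    rw [mem_rootSet] at hβ
    have hb := hβ.2
    simp only [map_sub, map_pow, aeval_X, aeval_C] at hb
    have hd : (β - α) ^ p = β - α := by rw [sub_pow_char]; linear_combination hb - hα
    have hmem : β - α ∈ (⊥ : Subfield E) := (Subfield.mem_bot_iff_pow_eq_self E p).2 hd
    rw [← ZMod.fieldRange_castHom_eq_bot p] at hmem
    obtain ⟨z, hz⟩ := RingHom.mem_fieldRange.1 hmem
    refine ⟨z.val, ?_⟩
    rw [ZMod.natCast_val, ← ZMod.castHom_apply (R := E) (h := dvd_refl p), hz]
    ring
  -- Galois group embeds in `ZMod p`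
  have hgal : ∀ σ : E ≃ₐ[k] E, ∃ j : ℕ, σ α = α + (j : E) := fun σ => by
    refine hroot _ ?_
    rw [mem_rootSet]
    refine ⟨(separable p c).ne_zero, ?_⟩
    · simp only [map_sub, map_pow, aeval_X, aeval_C]
      have := congrArg σ hα
      simp only [map_sub, map_pow, AlgEquiv.commutes, map_zero] at this
      exact this
  have htop : IntermediateField.adjoin k ({α} : Set E) = ⊤ := by
    rw [eq_top_iff, ← IntermediateField.adjoin_eq_top_of_algebra _ _ (IsSplittingField.adjoin_rootSet E (X ^ p - X - C c : k[X]))]
    refine IntermediateField.adjoin_le_iff.2 fun β hβ => ?_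
    obtain ⟨j, rfl⟩ := hroot β hβ
    exact add_mem (IntermediateField.mem_adjoin_simple_self k α) (natCast_mem _ j)
  choose j hj using hgal
  let χ : (E ≃ₐ[k] E) →* Multiplicative (ZMod p) :=
    { toFun := fun σ => Multiplicative.ofAdd (j σ : ZMod p)
      map_one' := by
        have h := hj 1
        rw [AlgEquiv.one_apply, left_eq_add] at h
        show Multiplicative.ofAdd (j 1 : ZMod p) = 1
        rw [(ZMod.natCast_eq_zero_iff _ p).2 ((CharP.cast_eq_zero_iff E p _).1 h)]
        rfl
      map_mul' := fun σ τ => by
        have h : σ (τ α) = σ α + (j τ : E) := by rw [hj τ, map_add, map_natCast]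
        rw [← AlgEquiv.mul_apply, hj, hj, add_assoc, add_left_cancel_iff, ← Nat.cast_add] at h
        show Multiplicative.ofAdd (j (σ * τ) : ZMod p) = Multiplicative.ofAdd (j σ : ZMod p) * Multiplicative.ofAdd (j τ : ZMod p)
        rw [← ofAdd_add, ← Nat.cast_add]
        exact congrArg _ ((ZMod.natCast_eq_natCast_iff _ _ _).2 ((CharP.natCast_eq_natCast E p).1 h)) }
  have hχ : Function.Injective χ := by
    rw [injective_iff_map_eq_one]
    intro σ hσ
    have h0 : (j σ : ZMod p) = 0 := Multiplicative.ofAdd.injective hσ
    have h1 : σ α = α := by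
      rw [hj σ, (CharP.cast_eq_zero_iff E p _).2 ((ZMod.natCast_eq_zero_iff _ _).1 h0), add_zero]
    refine AlgEquiv.ext fun x => ?_
    have hx : x ∈ IntermediateField.adjoin k ({α} : Set E) := htop ▸ IntermediateField.mem_top
    induction hx using IntermediateField.adjoin_induction with
    | mem y hy => rw [Set.mem_singleton_iff.1 hy, h1]; rfl
    | algebraMap y => rw [AlgEquiv.commutes]; rfl
    | add y z _ _ hy hz => rw [map_add, hy, hz]; rfl
    | inv y _ hy => rw [map_inv₀, hy]; rfl
    | mul y z _ _ hy hz => rw [map_mul, hy, hz]; rfl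
  have hdvd : Nat.card (E ≃ₐ[k] E) ∣ p := by
    have := Subgroup.card_dvd_of_injective χ hχ
    rwa [Nat.card_congr Multiplicative.toAdd, Nat.card_zmod] at this
  rw [IsGalois.card_aut_eq_finrank] at hdvd
  rcases (Nat.dvd_prime hp.out).1 hdvd with h | h
  · refine Or.inl ?_
    have hα' : α ∈ (⊥ : IntermediateField k E) := by
      rw [IntermediateField.finrank_eq_one_iff.1 (show Module.finrank k (⊤ : IntermediateField k E) = 1 from IntermediateField.finrank_top'.trans h) |>.symm]
      trivial
    obtain ⟨a, rfl⟩ := IntermediateField.mem_bot.1 hα'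
    refine ⟨a, (algebraMap k E).injective ?_⟩
    rw [map_sub, map_pow]
    linear_combination hα
  · exact Or.inr ⟨inferInstance, h⟩

/-- without Galois extensions of degree `p` Artin–Schreier equations have roots -/
theorem exists_root (p : ℕ) [hp : Fact p.Prime] {k : Type v} [Field k] [CharP k p]
    (hkp : ∀ (L : Type v) [Field L] [Algebra k L], IsGalois k L → Module.finrank k L ≠ p) (c : k) :
    ∃ a : k, a ^ p - a = c := by
  rcases exists_root_of_splitting p c (SplittingField (X ^ p - X - C c : k[X])) with h | ⟨h1, h2⟩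
  · exact h
  · exact absurd h2 (hkp _ h1)

/-- lifting roots to a complete local ring -/
theorem exists_root_complete (p : ℕ) [hp : Fact p.Prime] {A : Type u} [CommRing A] [IsLocalRing A] [CharP A p]
    [IsAdicComplete (IsLocalRing.maximalIdeal A) A] {k : Type v} [Field k] [CharP k p] [Algebra k A]
    (hk : Function.Surjective (IsLocalRing.residue A ∘ algebraMap k A))
    (hkp : ∀ (L : Type v) [Field L] [Algebra k L], IsGalois k L → Module.finrank k L ≠ p) (c : A) :
    ∃ T : A, T ^ p - T = c := by
  obtain ⟨c0, hc0⟩ := hk (IsLocalRing.residue A c)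
  obtain ⟨a, ha⟩ := exists_root p hkp c0
  obtain ⟨T, hT, -⟩ := HenselianRing.is_henselian (I := IsLocalRing.maximalIdeal A) (X ^ p - X - C c : A[X])
    (by
      have : (X ^ p - X - C c : A[X]) = X ^ p - (X + C c) := by ring
      rw [this]
      exact (monic_X_pow p).sub_of_left (by
        rw [degree_X_pow, degree_X_add_C]; exact_mod_cast hp.out.one_lt))
    (algebraMap k A a) (by
      simp only [eval_sub, eval_pow, eval_X, eval_C, ← map_pow, ← map_sub, ha]
      rw [← IsLocalRing.residue_eq_zero_iff, map_sub, sub_eq_zero]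
      exact hc0)
    (by
      refine IsUnit.map _ ?_
      simp [derivative_X_pow, CharP.cast_eq_zero])
  exact ⟨T, by simpa [IsRoot, sub_eq_zero] using hT⟩

end Groth.L13.Wild.ASRoot
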