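import Groth.Agent.L13.Wild.ShiftElts
import Groth.Agent.L13.Wild.Kunz
import Groth.Agent.L13.Wild.ASRoot
import Groth.Agent.L03.RegularNormal
import Mathlib.RingTheory.Ideal.MinimalPrime.Noetherian
import Mathlib.RingTheory.AdjoinRoot
import Mathlib.RingTheory.Invariant.Basic
import Mathlib.FieldTheory.Galois.IsGaloisGroup

/-! Automorphisms of the invariant ring extend. -/

set_option autoImplicit false
set_option linter.unusedSectionVars false

universe u v w

namespace Groth.L13.Wild.AutExtend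

open IsLocalRing

variable {A : Type u} [CommRing A] [IsRegularLocalRing A]

/-- divisibility from coprimality in codimension one -/
theorem dvd_of_mul_eq {a b W W' : A} (ha : a ≠ 0) (hcop : ∀ q : Ideal A, q.IsPrime → q.height = 1 → a ∈ q → b ∉ q)
    (h : b * W = a * W') : a ∣ W := by
  have := Groth.L01.isDomain_of_regular A
  have : IsIntegrallyClosed A := Groth.L03.RegularNormal.isIntegrallyClosed A
  refine Inv.mem_range_of_codimOne ha fun q hq hht => ?_
  by_cases h1 : a ∈ q
  · exact ⟨b, hcop q hq hht h1, h ▸ dvd_mul_right _ _⟩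
  · exact ⟨a, h1, dvd_mul_right _ _⟩

/-- descent of the transported Artin–Schreier class -/
theorem exists_transported_root {p : ℕ} [Fact p.Prime] [CharP A p] [IsAdicComplete (maximalIdeal A) A]
    {k : Type v} [Field k] [CharP k p] [Algebra k A] (hk : Function.Surjective (residue A ∘ algebraMap k A))
    (hkp : ∀ (L : Type v) [Field L] [Algebra k L], IsGalois k L → Module.finrank k L ≠ p)
    {b₁ b₂ : A} (hb₁ : b₁ ≠ 0) (hcop : ∀ q : Ideal A, q.IsPrime → q.height = 1 → b₁ ∈ q → b₂ ∉ q)
    {Y U₁ U₂ : A} (h : Y ^ p - (b₁ * b₂) ^ (p - 1) * Y = b₂ ^ p * U₁ - b₁ ^ p * U₂) :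
    ∃ Z : A, Z ^ p - b₁ ^ (p - 1) * Z = U₁ := by
  have hp : p.Prime := Fact.out
  have := Groth.L01.isDomain_of_regular A
  obtain ⟨m, rfl⟩ : ∃ m, p = m + 1 := ⟨p - 1, by have := hp.one_le; omega⟩
  rw [Nat.add_sub_cancel] at h ⊢
  have hY : Y ∈ Ideal.span {b₁, b₂} := by
    refine Kunz.mem_span_pair_of_frobenius (m + 1) A hb₁ Y ?_
    rw [Nat.add_sub_cancel, h]
    exact Ideal.mem_span_pair.2 ⟨-U₂, U₁, by ring⟩
  obtain ⟨c₁, s₁, hY'⟩ := Ideal.mem_span_pair.1 hY
  have hY'' : Y = b₂ * s₁ - b₁ * (-c₁) := by rw [← hY']; ring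
  have hcop' : ∀ q : Ideal A, q.IsPrime → q.height = 1 → b₁ ^ (m + 1) ∈ q → b₂ ^ (m + 1) ∉ q :=
    fun q hq hht h1 h2 => hcop q hq hht (hq.mem_of_pow_mem _ h1) (hq.mem_of_pow_mem _ h2)
  rw [hY'', sub_pow_char] at h
  have hdvd : b₁ ^ (m + 1) ∣ U₁ - (s₁ ^ (m + 1) - b₁ ^ m * s₁) :=
    dvd_of_mul_eq (W' := U₂ - ((-c₁) ^ (m + 1) - b₂ ^ m * (-c₁))) (pow_ne_zero _ hb₁) hcop'
      (by linear_combination -h)
  obtain ⟨c, hc⟩ := hdvd
  obtain ⟨T, hT⟩ := ASRoot.exists_root_complete (m + 1) hk hkp c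
  refine ⟨s₁ + b₁ * T, ?_⟩
  rw [add_pow_char]
  linear_combination (b₁ ^ (m + 1)) * hT - hc

section pieces

variable [IsAdicComplete (maximalIdeal A) A] {k : Type v} [Field k] [Algebra k A] {G : Type w} [Group G] [Finite G]
  [MulSemiringAction G A] [SMulCommClass G k A]

local notation "B" => FixedPoints.subalgebra k A G

/-- two invariants of height two, also after applying an automorphism -/
theorem exists_pair (hdim : 2 ≤ ringKrullDim A) (φ : B ≃ₐ[k] B) :
    ∃ β₁ β₂ : B, (β₁ : A) ≠ 0 ∧ (β₁ : A) ∈ maximalIdeal A ∧ (β₂ : A) ∈ maximalIdeal A ∧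
      (φ β₁ : A) ≠ 0 ∧
      (∀ q : Ideal A, q.IsPrime → q.height = 1 → (β₁ : A) ∈ q → (β₂ : A) ∉ q) ∧
      (∀ q : Ideal A, q.IsPrime → q.height = 1 → (φ β₁ : A) ∈ q → (φ β₂ : A) ∉ q) := by
  classical
  have := Groth.L01.isDomain_of_regular A
  let ι : B →+* A := (B).val.toRingHom
  have hmm : ∀ P : Ideal A, P.IsPrime → (∀ b : B, (b : A) ∈ maximalIdeal A → (b : A) ∈ P) → P = maximalIdeal A := by
    intro P hP h
    refine le_antisymm (le_maximalIdeal hP.ne_top) ?_
    rw [← Origin.radical_invariant_ideal (A := A) (G := G), hP.radical_le_iff, Ideal.map_le_iff_le_comap]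
    intro b hb
    exact h ⟨b.1, b.2⟩ hb
  have hne : ∀ q : Ideal A, q.height ≤ 1 → q ≠ maximalIdeal A := fun q hq h => by
    subst h
    have h1 := IsLocalRing.maximalIdeal_height_eq_ringKrullDim (R := A)
    rw [← h1] at hdim
    have h2 : (2 : ℕ∞) ≤ (maximalIdeal A).height := (WithBot.coe_le_coe (a := (2 : ℕ∞))).1 hdim
    exact absurd (h2.trans hq) (by decide)
  have hbot : (⊥ : Ideal A).IsPrime := Ideal.isPrime_bot
  have hstab : ∀ b : B, (φ b : A) ∈ maximalIdeal A ↔ (b : A) ∈ maximalIdeal A := by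
    have hu : ∀ b : B, IsUnit b ↔ IsUnit (b : A) := fun b => by
      refine ⟨fun h => h.map ι, fun h => ?_⟩
      have := Origin.isLocalHom_subtype (A := A) (G := G)
      obtain ⟨c, hc⟩ := (isUnit_iff_exists_inv).1
        (isUnit_of_map_unit (algebraMap (FixedPoints.subring A G) A) (⟨b.1, b.2⟩ : FixedPoints.subring A G) h)
      exact isUnit_iff_exists_inv.2 ⟨⟨c.1, c.2⟩, Subtype.ext (congrArg Subtype.val hc)⟩
    intro b
    rw [mem_maximalIdeal, mem_maximalIdeal, mem_nonunits_iff, mem_nonunits_iff, ← hu, ← hu, MulEquiv.isUnit_map]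
  obtain ⟨β₁, hβm, hβ0⟩ : ∃ β : B, (β : A) ∈ maximalIdeal A ∧ (β : A) ≠ 0 := by
    by_contra h
    push Not at h
    exact hne ⊥ (by rw [Ideal.height_bot]; exact zero_le_one) (hmm ⊥ hbot fun b hb => (Ideal.mem_bot).2 (h b hb))
  have hφ0 : (φ β₁ : A) ≠ 0 := fun h => hβ0 (by
    have : φ β₁ = 0 := Subtype.ext h
    rw [EmbeddingLike.map_eq_zero_iff] at this
    rw [this]; rfl)
  let M : Ideal B := Ideal.comap ι (maximalIdeal A)
  let bad : Finset (Ideal B) :=
    ((Ideal.finite_minimalPrimes_of_isNoetherianRing A (Ideal.span {(β₁ : A)})).toFinset.image (Ideal.comap ι)) ∪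
    ((Ideal.finite_minimalPrimes_of_isNoetherianRing A (Ideal.span {(φ β₁ : A)})).toFinset.image
      (fun P => Ideal.comap (ι.comp (φ.toAlgHom : B →ₐ[k] B).toRingHom) P))
  have hht : ∀ (x : A) (P : Ideal A), P ∈ (Ideal.span {x}).minimalPrimes → P.height ≤ 1 := fun x P hP =>
    have := hP.isPrime
    Ideal.height_le_one_of_isPrincipal_of_mem_minimalPrimes _ _ hP
  have hnot : ¬ (M : Set B) ⊆ ⋃ i ∈ (↑bad : Set (Ideal B)), (i : Set B) := by
    rw [Ideal.subset_union_prime ⊥ ⊥ (fun i hi _ _ => ?_)]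
    · rintro ⟨i, hi, hle⟩
      simp only [bad, Finset.mem_union, Finset.mem_image, Set.Finite.mem_toFinset] at hi
      rcases hi with ⟨P, hP, rfl⟩ | ⟨P, hP, rfl⟩
      · exact hne P (hht _ P hP) (hmm P hP.isPrime fun b hb => hle hb)
      · refine hne P (hht _ P hP) (hmm P hP.isPrime fun b hb => ?_)
        have h1 : φ.symm b ∈ M := by
          show ((φ.symm b : B) : A) ∈ maximalIdeal A
          rw [← hstab, AlgEquiv.apply_symm_apply]
          exact hb
        have h2 := hle h1
        rw [Ideal.mem_comap] at h2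
        simpa [ι] using h2
    · simp only [bad, Finset.mem_union, Finset.mem_image, Set.Finite.mem_toFinset] at hi
      rcases hi with ⟨P, hP, rfl⟩ | ⟨P, hP, rfl⟩
      · have := hP.isPrime; exact Ideal.comap_isPrime _ _
      · have := hP.isPrime; exact Ideal.comap_isPrime _ _
  obtain ⟨β₂, hβ₂m, hβ₂⟩ := Set.not_subset.1 hnot
  simp only [Set.mem_iUnion, not_exists] at hβ₂
  have key : ∀ (x : A) (q : Ideal A), x ≠ 0 → q.IsPrime → q.height = 1 → x ∈ q → q ∈ (Ideal.span {x}).minimalPrimes := by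
    intro x q hx hq hht1 hxq
    obtain ⟨P, hP, hPq⟩ := Ideal.exists_minimalPrimes_le ((Ideal.span_singleton_le_iff_mem _).2 hxq : Ideal.span {x} ≤ q)
    have hPp := hP.isPrime
    rcases eq_or_lt_of_le hPq with h | h
    · exact h ▸ hP
    · exfalso
      have hlt0 : (⊥ : Ideal A) < P := bot_lt_iff_ne_bot.2 fun h0 => hx (by
        have := hP.1.2 (Ideal.mem_span_singleton_self x)
        rwa [h0, Ideal.mem_bot] at this)
      have h1 := Ideal.height_strict_mono_of_isPrime hlt0
      have h2 := Ideal.height_strict_mono_of_isPrime h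
      rw [Ideal.height_bot] at h1
      rw [hht1, ENat.lt_one_iff_eq_zero] at h2
      exact (ne_of_gt h1) h2
  refine ⟨β₁, β₂, hβ0, hβm, hβ₂m, hφ0, fun q hq hht1 h1 h2 => ?_, fun q hq hht1 h1 h2 => ?_⟩
  · refine hβ₂ (Ideal.comap ι q) ?_ h2
    rw [Finset.mem_coe]
    exact Finset.mem_union_left _ (Finset.mem_image.2 ⟨q, (Set.Finite.mem_toFinset _).2 (key _ q hβ0 hq hht1 h1), rfl⟩)
  · refine hβ₂ (Ideal.comap (ι.comp (φ.toAlgHom : B →ₐ[k] B).toRingHom) q) ?_ h2
    rw [Finset.mem_coe]
    exact Finset.mem_union_right _ (Finset.mem_image.2 ⟨q, (Set.Finite.mem_toFinset _).2 (key _ q hφ0 hq hht1 h1), rfl⟩)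

theorem isGaloisGroup_invariants {p : ℕ} [Fact p.Prime] (hdim : 2 ≤ ringKrullDim A) (hcard : Nat.card G = p)
    (hram : ∀ P : Ideal A, P.IsPrime → P ≠ maximalIdeal A → P.inertia G = ⊥) : IsGaloisGroup G B A := by
  have := Groth.L01.isDomain_of_regular A
  have : Algebra.IsInvariant B A G := ⟨fun x hx => ⟨⟨x, hx⟩, rfl⟩⟩
  have : SMulCommClass G B A := ⟨fun g b a => by
    show g • ((b : A) * a) = (b : A) * g • a
    rw [smul_mul', b.2 g]⟩
  have hne : (⊥ : Ideal A) ≠ maximalIdeal A := fun h0 => by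
    have h1 := IsLocalRing.maximalIdeal_height_eq_ringKrullDim (R := A)
    rw [← h0, Ideal.height_bot] at h1
    rw [← h1] at hdim
    exact absurd hdim (by decide)
  have hfaith : FaithfulSMul G A := ⟨fun {g h} hgh => by
    have hmem : g⁻¹ * h ∈ (⊥ : Ideal A).inertia G := fun a => by
      rw [Submodule.mem_toAddSubgroup, Ideal.mem_bot, sub_eq_zero, mul_smul, ← hgh, inv_smul_smul]
    rw [hram ⊥ Ideal.isPrime_bot hne, Subgroup.mem_bot, inv_mul_eq_one] at hmem
    exact hmem⟩
  exact { faithful := hfaith, commutes := inferInstance, isInvariant := inferInstance }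

end pieces

/-- the field-theoretic step: a transported Artin–Schreier root gives an endomorphism -/
theorem exists_hom_of_root {p : ℕ} [hpF : Fact p.Prime] [IsDomain A] [IsIntegrallyClosed A]
    {B' : Type u} [CommRing B'] [IsDomain B'] [Algebra B' A] [FaithfulSMul B' A] [Algebra.IsIntegral B' A]
    {G : Type w} [Group G] [Finite G] [MulSemiringAction G A] [IsGaloisGroup G B' A] (hcard : Nat.card G = p)
    (φ : B' ≃+* B') (σ : G) {b u : B'} (hb : b ≠ 0) {z Z : A}
    (hσz : σ • z = z + algebraMap B' A b)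
    (hz : z ^ p - algebraMap B' A b ^ (p - 1) * z = algebraMap B' A u)
    (hZ : Z ^ p - algebraMap B' A (φ b) ^ (p - 1) * Z = algebraMap B' A (φ u)) :
    ∃ f : A →+* A, Function.Injective f ∧ ∀ x : B', f (algebraMap B' A x) = algebraMap B' A (φ x) := by
  classical
  have hp : p.Prime := Fact.out
  let L := FractionRing A
  letI := FractionRing.liftAlgebra B' L
  letI : MulSemiringAction G L := IsFractionRing.mulSemiringAction G A L
  let K := FractionRing B'
  have hGal : IsGaloisGroup G K L := IsGaloisGroup.to_isFractionRing_of_isIntegral G B' A K L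
  have hrank : Module.finrank K L = p := by rw [← hcard, IsGaloisGroup.card_eq_finrank G K L]
  have : FiniteDimensional K L := Module.finite_of_finrank_pos (hrank ▸ hp.pos)
  have hι : Function.Injective (algebraMap B' A) := FaithfulSMul.algebraMap_injective B' A
  have hAL : Function.Injective (algebraMap A L) := IsFractionRing.injective A L
  have hne : ∀ x : B', x ≠ 0 → algebraMap A L (algebraMap B' A x) ≠ 0 := fun x hx h =>
    hx (hι ((hAL (h.trans (map_zero _).symm)).trans (map_zero _).symm))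
  have hKL : ∀ x : B', algebraMap K L (algebraMap B' K x) = algebraMap A L (algebraMap B' A x) := fun x => by
    rw [← IsScalarTower.algebraMap_apply, IsScalarTower.algebraMap_apply B' A L]
  let c : K := algebraMap B' K u / (algebraMap B' K b) ^ p
  let g : Polynomial K := Polynomial.X ^ p - Polynomial.X - Polynomial.C c
  let t : L := algebraMap A L z / algebraMap A L (algebraMap B' A b)
  obtain ⟨m, hm⟩ : ∃ m, p = m + 1 := ⟨p - 1, by have := hp.one_le; omega⟩
  have AS : ∀ (x y w : L), y ≠ 0 → x ^ p - y ^ (p - 1) * x = w → (x / y) ^ p - x / y - w / y ^ p = 0 := by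
    intro x y w hy h
    subst hm
    rw [← h, Nat.add_sub_cancel, div_pow, sub_div,
      show y ^ m * x / y ^ (m + 1) = x / y by rw [pow_succ, mul_div_mul_left _ _ (pow_ne_zero _ hy)]]
    ring
  have ht : Polynomial.aeval t g = 0 := by
    simp only [g, c, t, map_sub, map_pow, Polynomial.aeval_X, Polynomial.aeval_C, map_div₀, hKL]
    exact AS _ _ _ (hne b hb) (by rw [← map_pow, ← map_pow, ← map_mul, ← map_sub, hz])
  have htK : t ∉ Set.range (algebraMap K L) := by
    rintro ⟨x, hx⟩
    obtain ⟨a, s, hs, rfl⟩ := IsFractionRing.div_surjective (A := B') x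
    rw [map_div₀, hKL, hKL, div_eq_div_iff (hne s (nonZeroDivisors.ne_zero hs)) (hne b hb), ← map_mul (algebraMap A L), ← map_mul (algebraMap A L)] at hx
    have hx' := hAL hx
    have h1 := congrArg (σ • ·) hx'
    have hfix : ∀ y : B', σ • algebraMap B' A y = algebraMap B' A y := fun y => smul_algebraMap σ y
    simp only [smul_mul', hfix, hσz] at h1
    have h2 : algebraMap B' A b * algebraMap B' A s = 0 := by linear_combination hx' - h1
    rw [← map_mul] at h2
    exact mul_ne_zero hb (nonZeroDivisors.ne_zero hs) (hι (h2.trans (map_zero _).symm))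
  have hgdeg : g.natDegree = p := by
    simp only [g]
    rw [Polynomial.natDegree_sub_C, Polynomial.natDegree_sub_eq_left_of_natDegree_lt (by simp [hp.one_lt]), Polynomial.natDegree_X_pow]
  have hgm : g.Monic := by
    simp only [g]
    rw [sub_sub]
    exact (Polynomial.monic_X_pow p).sub_of_left (by
      rw [Polynomial.degree_X_pow, Polynomial.degree_X_add_C]; exact_mod_cast hp.one_lt)
  have hint : IsIntegral K t := IsIntegral.of_finite K t
  have hd : (minpoly K t).natDegree = p := by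
    rcases (Nat.dvd_prime hp).1 (hrank ▸ minpoly.degree_dvd hint) with h | h
    · exact absurd (minpoly.natDegree_eq_one_iff.1 h) htK
    · exact h
  have hmin : g = minpoly K t :=
    Polynomial.eq_of_monic_of_dvd_of_natDegree_le (minpoly.monic hint) hgm (minpoly.dvd K t ht) (le_of_eq (hgdeg.trans hd.symm))
  have hirr : Irreducible g := hmin ▸ minpoly.irreducible hint
  have : Fact (Irreducible g) := ⟨hirr⟩
  let E₁ : AdjoinRoot g →ₐ[K] L := AdjoinRoot.liftAlgHom g (Algebra.ofId K L) t ht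
  have hE₁ : Function.Bijective E₁ := by
    have hfin : FiniteDimensional K (AdjoinRoot g) := (AdjoinRoot.powerBasis hirr.ne_zero).finite
    refine ⟨E₁.toRingHom.injective, ?_⟩
    exact (LinearMap.injective_iff_surjective_of_finrank_eq_finrank (f := E₁.toLinearMap) (by
      rw [hrank, (AdjoinRoot.powerBasis hirr.ne_zero).finrank, AdjoinRoot.powerBasis_dim, hgdeg])).1 E₁.toRingHom.injective
  let g0 : B' →+* L := ((algebraMap A L).comp (algebraMap B' A)).comp φ.toRingHom
  have hg0 : Function.Injective g0 := (hAL.comp hι).comp φ.injective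
  let φK : K →+* L := IsFractionRing.lift hg0
  have hφK : ∀ x : B', φK (algebraMap B' K x) = algebraMap A L (algebraMap B' A (φ x)) := fun x =>
    IsFractionRing.lift_algebraMap hg0 x
  have hZ' : g.eval₂ φK (algebraMap A L Z / algebraMap A L (algebraMap B' A (φ b))) = 0 := by
    simp only [g, c, Polynomial.eval₂_sub, Polynomial.eval₂_pow, Polynomial.eval₂_X, Polynomial.eval₂_C, map_div₀,
      map_pow φK, hφK]
    exact AS _ _ _ (hne _ (fun h => hb (φ.map_eq_zero_iff.1 h))) (by rw [← map_pow, ← map_pow, ← map_mul, ← map_sub, hZ])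
  let E₂ : AdjoinRoot g →+* L := AdjoinRoot.lift φK _ hZ'
  let Ψ : L →+* L := E₂.comp (AlgEquiv.ofBijective E₁ hE₁).symm.toAlgHom.toRingHom
  have hΨB : ∀ x : B', Ψ (algebraMap A L (algebraMap B' A x)) = algebraMap A L (algebraMap B' A (φ x)) := fun x => by
    show E₂ ((AlgEquiv.ofBijective E₁ hE₁).symm (algebraMap A L (algebraMap B' A x))) = _
    rw [← hKL, AlgEquiv.commutes, AdjoinRoot.algebraMap_eq, AdjoinRoot.lift_of]
    exact hφK x
  have hΨA : ∀ a : A, ∃ a' : A, algebraMap A L a' = Ψ (algebraMap A L a) := fun a => by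
    refine IsIntegrallyClosed.isIntegral_iff.1 ?_
    obtain ⟨P, hPm, hP⟩ := Algebra.IsIntegral.isIntegral (R := B') a
    refine ⟨P.map ((algebraMap B' A).comp φ.toRingHom), hPm.map _, ?_⟩
    have h2 := congrArg (fun y => Ψ (algebraMap A L y)) hP
    simp only [map_zero, Polynomial.hom_eval₂] at h2
    rw [Polynomial.eval₂_map]
    refine (congrArg (fun f => P.eval₂ f _) (RingHom.ext fun x => ?_)).trans h2
    exact (hΨB x).symm
  choose f hf using hΨA
  refine ⟨{ toFun := f
            map_one' := hAL (by rw [hf, map_one, map_one])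
            map_mul' := fun x y => hAL (by rw [hf, map_mul, map_mul, map_mul, hf, hf])
            map_zero' := hAL (by rw [hf, map_zero, map_zero])
            map_add' := fun x y => hAL (by rw [hf, map_add, map_add, map_add, hf, hf]) },
    fun x y h => hAL (Ψ.injective ?_), fun x => hAL ((hf _).trans (hΨB x))⟩
  rw [← hf, ← hf]
  exact congrArg _ h

/-- automorphisms of the invariants extend to endomorphisms -/
theorem exists_hom {p : ℕ} [Fact p.Prime] [CharP A p] [IsAdicComplete (maximalIdeal A) A]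
    (hdim : 2 ≤ ringKrullDim A) {k : Type v} [Field k] [Algebra k A]
    (hk : Function.Surjective (residue A ∘ algebraMap k A))
    (hkp : ∀ (L : Type v) [Field L] [Algebra k L], IsGalois k L → Module.finrank k L ≠ p)
    {G : Type w} [Group G] [Finite G] [MulSemiringAction G A] (hcard : Nat.card G = p) [SMulCommClass G k A]
    (hram : ∀ P : Ideal A, P.IsPrime → P ≠ maximalIdeal A → P.inertia G = ⊥)
    (φ : FixedPoints.subalgebra k A G ≃ₐ[k] FixedPoints.subalgebra k A G) :
    ∃ f : A →+* A, Function.Injective f ∧ ∀ x : FixedPoints.subalgebra k A G, f x = φ x := by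
  classical
  have hp : p.Prime := Fact.out
  have := Groth.L01.isDomain_of_regular A
  have : IsIntegrallyClosed A := Groth.L03.RegularNormal.isIntegrallyClosed A
  have : CharP k p := (algebraMap k A).charP (algebraMap k A).injective p
  have hGk : ∀ (σ : G) (c : k), σ • algebraMap k A c = algebraMap k A c := fun σ c => smul_algebraMap σ c
  have hcyc : IsCyclic G := isCyclic_of_prime_card hcard
  obtain ⟨σ, hσ⟩ := hcyc.exists_generator
  obtain ⟨β₁, β₂, hβ0, hβm, hβ₂m, hφ0, -, hcop'⟩ := exists_pair hdim φ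
  obtain ⟨N₁, hN₁⟩ := Origin.exists_shift hk hGk hcard hram hσ (fun g => β₁.2 g) hβm
  obtain ⟨N₂, hN₂⟩ := Origin.exists_shift hk hGk hcard hram hσ (fun g => β₂.2 g) hβ₂m
  obtain ⟨z₁, hz₁⟩ := hN₁ (max N₁ N₂) (le_max_left _ _)
  obtain ⟨z₂, hz₂⟩ := hN₂ (max N₁ N₂) (le_max_right _ _)
  set N := max N₁ N₂
  have hb : ∀ (β : FixedPoints.subalgebra k A G), σ • (β : A) ^ N = (β : A) ^ N := fun β => by rw [smul_pow', β.2 σ]
  have hone : ∀ z b : A, σ • z = z + b → σ • b = b →
      σ • (z ^ p - b ^ (p - 1) * z) = z ^ p - b ^ (p - 1) * z := fun z b hz hbb => by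
    rw [smul_sub, smul_pow', smul_mul', smul_pow', hz, hbb, add_pow_char, mul_add, ← pow_succ, Nat.sub_add_cancel hp.one_le]
    ring
  let yB : FixedPoints.subalgebra k A G := ⟨(β₂ : A) ^ N * z₁ - (β₁ : A) ^ N * z₂, Origin.fixed_of_generator hσ (by
    rw [smul_sub, smul_mul', smul_mul', hb, hb, hz₁, hz₂]; ring)⟩
  let u₁ : FixedPoints.subalgebra k A G :=
    ⟨z₁ ^ p - ((β₁ : A) ^ N) ^ (p - 1) * z₁, Origin.fixed_of_generator hσ (hone z₁ _ hz₁ (hb β₁))⟩
  let u₂ : FixedPoints.subalgebra k A G :=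
    ⟨z₂ ^ p - ((β₂ : A) ^ N) ^ (p - 1) * z₂, Origin.fixed_of_generator hσ (hone z₂ _ hz₂ (hb β₂))⟩
  have hrel : yB ^ p - (β₁ ^ N * β₂ ^ N) ^ (p - 1) * yB = (β₂ ^ N) ^ p * u₁ - (β₁ ^ N) ^ p * u₂ := by
    refine Subtype.ext ?_
    push_cast
    simp only [yB, u₁, u₂]
    rw [sub_pow_char]
    obtain ⟨m, hm⟩ : ∃ m, p = m + 1 := ⟨p - 1, by have := hp.one_le; omega⟩
    rw [hm, Nat.add_sub_cancel]
    ring
  obtain ⟨Z, hZ⟩ : ∃ Z : A, Z ^ p - ((φ β₁ : A) ^ N) ^ (p - 1) * Z = (φ u₁ : A) := by
    refine exists_transported_root hk hkp (b₂ := (φ β₂ : A) ^ N) (Y := (φ yB : A)) (U₂ := (φ u₂ : A)) (pow_ne_zero _ hφ0) ?_ ?_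
    · intro q hq hht h1 h2
      exact hcop' q hq hht (hq.mem_of_pow_mem _ h1) (hq.mem_of_pow_mem _ h2)
    · have := congrArg (fun b => (φ b : A)) hrel
      simp only [map_sub, map_mul, map_pow] at this
      push_cast at this
      exact this
  let B' := FixedPoints.subalgebra k A G
  have hG := isGaloisGroup_invariants (k := k) hdim hcard hram
  have : Algebra.IsIntegral B' A := Algebra.IsInvariant.isIntegral B' A G
  have : FaithfulSMul B' A := (faithfulSMul_iff_algebraMap_injective _ _).2 Subtype.val_injective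
  refine exists_hom_of_root (B' := B') hcard φ.toRingEquiv σ (b := β₁ ^ N) (u := u₁) (z := z₁) (Z := Z) ?_ ?_ ?_ ?_
  · exact pow_ne_zero _ fun h => hβ0 (by rw [h]; rfl)
  · rw [map_pow]; exact hz₁
  · rw [map_pow]; rfl
  · show Z ^ p - ((φ (β₁ ^ N) : B') : A) ^ (p - 1) * Z = ((φ u₁ : B') : A)
    rw [map_pow]; push_cast; exact hZ

/-- an injective endomorphism fixing a subalgebra over which the domain is integral is onto -/
theorem surjective_of_fixed {R S : Type*} [CommRing R] [CommRing S] [IsDomain S] [Algebra R S] [Algebra.IsIntegral R S]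
    (f : S →ₐ[R] S) (hf : Function.Injective f) : Function.Surjective f := by
  classical
  intro a
  obtain ⟨P, hPm, hP⟩ := Algebra.IsIntegral.isIntegral (R := R) a
  have hfin : {x : S | Polynomial.aeval x P = 0}.Finite := by
    refine ((P.map (algebraMap R S)).roots.toFinset.finite_toSet).subset fun x hx => ?_
    rw [Finset.mem_coe, Multiset.mem_toFinset, Polynomial.mem_roots (hPm.map _).ne_zero, Polynomial.IsRoot,
      Polynomial.eval_map_algebraMap]
    exact hx
  have hmaps : Set.MapsTo f {x : S | Polynomial.aeval x P = 0} {x : S | Polynomial.aeval x P = 0} := fun x hx => by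
    show Polynomial.aeval (f x) P = 0
    rw [Polynomial.aeval_algHom_apply, show Polynomial.aeval x P = 0 from hx, map_zero]
  obtain ⟨x, -, hx⟩ := ((hfin.injOn_iff_bijOn_of_mapsTo hmaps).1 hf.injOn).surjOn
    (show a ∈ {x : S | Polynomial.aeval x P = 0} from hP)
  exact ⟨x, hx⟩

/-- automorphisms of the invariants extend -/
theorem exists_extension {p : ℕ} [Fact p.Prime] [CharP A p] [IsAdicComplete (maximalIdeal A) A]
    (hdim : 2 ≤ ringKrullDim A) {k : Type v} [Field k] [Algebra k A]
    (hk : Function.Surjective (residue A ∘ algebraMap k A))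
    (hkp : ∀ (L : Type v) [Field L] [Algebra k L], IsGalois k L → Module.finrank k L ≠ p)
    {G : Type w} [Group G] [Finite G] [MulSemiringAction G A] (hcard : Nat.card G = p) [SMulCommClass G k A]
    (hram : ∀ P : Ideal A, P.IsPrime → P ≠ maximalIdeal A → P.inertia G = ⊥)
    (φ : FixedPoints.subalgebra k A G ≃ₐ[k] FixedPoints.subalgebra k A G) :
    ∃ ψ : A ≃ₐ[k] A, ∀ x : FixedPoints.subalgebra k A G, ψ x = φ x := by
  have := Groth.L01.isDomain_of_regular A
  obtain ⟨f, hf, hfB⟩ := exists_hom hdim hk hkp hcard hram φ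
  obtain ⟨g, hg, hgB⟩ := exists_hom hdim hk hkp hcard hram φ.symm
  let B' := FixedPoints.subalgebra k A G
  have : Algebra.IsInvariant B' A G := ⟨fun x hx => ⟨⟨x, hx⟩, rfl⟩⟩
  have : SMulCommClass G B' A := ⟨fun g b a => by
    show g • ((b : A) * a) = (b : A) * g • a
    rw [smul_mul', b.2 g]⟩
  have : Algebra.IsIntegral B' A := Algebra.IsInvariant.isIntegral B' A G
  let h : A →ₐ[B'] A :=
    { f.comp g with
      commutes' := fun b => by
        show f (g (b : A)) = (b : A)
        rw [hgB, hfB, AlgEquiv.apply_symm_apply] }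
  have hsurj : Function.Surjective f := fun a => by
    obtain ⟨x, hx⟩ := surjective_of_fixed h (hf.comp hg) a
    exact ⟨g x, hx⟩
  have hfk : ∀ c : k, f (algebraMap k A c) = algebraMap k A c := fun c => by
    have := hfB (algebraMap k B' c)
    rw [AlgEquiv.commutes] at this
    exact this
  exact ⟨AlgEquiv.ofBijective { f with commutes' := hfk } ⟨hf, hsurj⟩, hfB⟩

end Groth.L13.Wild.AutExtend
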