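import Groth.Agent.L13.Wild.MRLocal
import Groth.Agent.L12.PowSer
import Groth.Agent.L13.Wild.FreeRegular
import Mathlib.RingTheory.AdicCompletion.Functoriality
import Mathlib.RingTheory.LocalRing.Length

/-! Finiteness of complete local rings over power series subrings. -/

set_option autoImplicit false
set_option linter.unusedSectionVars false

universe u v

namespace Groth.L13.Wild

open IsLocalRing

section approx

variable {k : Type v} [Field k] {A : Type u} [CommRing A] [IsLocalRing A] [Algebra k A]

/-- polynomial parts -/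
def polyPart {m : ℕ} (u : Fin m → A) : ℕ → Submodule k A
  | 0 => ⊥
  | N + 1 => Submodule.span k {1} ⊔ ⨆ i, (polyPart u N).map (LinearMap.mulLeft k (u i))

theorem polyPart_fg {m : ℕ} (u : Fin m → A) : ∀ N, (polyPart (k := k) u N).FG
  | 0 => Submodule.fg_bot
  | N + 1 => (Submodule.fg_span_singleton 1).sup (Submodule.fg_iSup _ fun i => (polyPart_fg u N).map _)

theorem polyPart_le_adjoin {m : ℕ} (u : Fin m → A) : ∀ N, polyPart (k := k) u N ≤ (Algebra.adjoin k (Set.range u)).toSubmodule
  | 0 => bot_le
  | N + 1 => sup_le (Submodule.span_le.2 (Set.singleton_subset_iff.2 (one_mem (Algebra.adjoin k (Set.range u)))))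
      (iSup_le fun i => Submodule.map_le_iff_le_comap.2 fun _ hx =>
        mul_mem (Algebra.subset_adjoin (Set.mem_range_self i)) (polyPart_le_adjoin u N hx))

theorem exists_polyPart_sub_mem (hk : Function.Surjective (IsLocalRing.residue A ∘ algebraMap k A)) {m : ℕ} (u : Fin m → A)
    (hu : Ideal.span (Set.range u) = maximalIdeal A) :
    ∀ (N : ℕ) (a : A), ∃ s ∈ polyPart (k := k) u N, a - s ∈ maximalIdeal A ^ N
  | 0, a => ⟨0, zero_mem _, by simp⟩
  | N + 1, a => by
    obtain ⟨c, hc⟩ := hk (residue A a)
    have hac : a - algebraMap k A c ∈ maximalIdeal A := by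
      rw [← IsLocalRing.residue_eq_zero_iff, map_sub, ← hc]; exact sub_self _
    rw [← hu, Ideal.span, Submodule.mem_span_range_iff_exists_fun] at hac
    obtain ⟨b, hb⟩ := hac
    choose s hs hbs using fun i => exists_polyPart_sub_mem hk u hu N (b i)
    refine ⟨algebraMap k A c + ∑ i, u i * s i, ?_, ?_⟩
    · refine add_mem (Submodule.mem_sup_left (Submodule.mem_span_singleton.2 ⟨c, ?_⟩))
        (Submodule.mem_sup_right (sum_mem fun i _ => ?_))
      · rw [Algebra.smul_def, mul_one]
      · exact Submodule.mem_iSup_of_mem i ⟨s i, hs i, rfl⟩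
    · rw [← sub_sub, ← hb, ← Finset.sum_sub_distrib]
      refine sum_mem fun i _ => ?_
      rw [smul_eq_mul, mul_comm (u i), ← sub_mul, pow_succ]
      exact Ideal.mul_mem_mul (hbs i) (hu ▸ Ideal.subset_span (Set.mem_range_self i))

end approx

section finite

variable {k : Type v} [Field k] {n : ℕ} {A : Type u} [CommRing A] [IsLocalRing A] [IsNoetherianRing A] [Algebra k A]

theorem map_varIdeal_eq (φ : MvPowerSeries (Fin n) k →ₐ[k] A) (x : Fin n → A) (hφ : ∀ i, φ (MvPowerSeries.X i) = x i) :
    (Groth.L01.PowSerReg.varIdeal k n).map φ.toRingHom = Ideal.span (Set.range x) := by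
  rw [Groth.L01.PowSerReg.varIdeal, Ideal.map_span, ← Set.range_comp]
  congr 2
  funext i
  exact hφ i

/-- `A` is finite over a power series ring given by an `m`-primary family -/
theorem finite_powerSeries (hk : Function.Surjective (IsLocalRing.residue A ∘ algebraMap k A)) (x : Fin n → A)
    (hx : (Ideal.span (Set.range x)).radical = maximalIdeal A) (φ : MvPowerSeries (Fin n) k →ₐ[k] A)
    (hφ : ∀ i, φ (MvPowerSeries.X i) = x i) : φ.toRingHom.Finite := by
  letI := φ.toRingHom.toAlgebra
  obtain ⟨N, hN⟩ := Ideal.exists_pow_le_of_le_radical_of_fg hx.ge (IsNoetherian.noetherian _)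
  obtain ⟨m, u, hu⟩ := Submodule.fg_iff_exists_fin_generating_family.1 (IsNoetherian.noetherian (maximalIdeal A))
  obtain ⟨d, w, hw⟩ := Submodule.fg_iff_exists_fin_generating_family.1 (polyPart_fg (k := k) u N)
  have hmap : (Groth.L01.PowSerReg.varIdeal k n).map (algebraMap (MvPowerSeries (Fin n) k) A) = Ideal.span (Set.range x) :=
    map_varIdeal_eq φ x hφ
  have hJ : Ideal.span (Set.range x) ≠ ⊤ := fun h => (maximalIdeal.isMaximal A).ne_top (by rw [← hx, h, Ideal.radical_top])
  have hh : IsHausdorff (Groth.L01.PowSerReg.varIdeal k n) A := by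
    have : IsHausdorff ((Groth.L01.PowSerReg.varIdeal k n).map (algebraMap (MvPowerSeries (Fin n) k) A)) A :=
      IsHausdorff.of_le_jacobson _ _ (by
        rw [hmap, IsLocalRing.jacobson_eq_maximalIdeal ⊥ bot_ne_top]; exact le_maximalIdeal hJ)
    exact IsHausdorff.map_algebraMap_iff.1 this
  have hc : IsAdicComplete (Groth.L01.PowSerReg.varIdeal k n) (MvPowerSeries (Fin n) k) := by
    rw [Groth.L01.PowSerReg.varIdeal]; infer_instance
  have := isAdicComplete_of_basis (Pi.basisFun (MvPowerSeries (Fin n) k) (Fin d)) (Groth.L01.PowSerReg.varIdeal k n)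
  refine Module.Finite.of_surjective (Fintype.linearCombination (MvPowerSeries (Fin n) k) w)
    (surjective_of_mkQ_comp_surjective (I := Groth.L01.PowSerReg.varIdeal k n) fun y => ?_)
  obtain ⟨a, rfl⟩ := Submodule.mkQ_surjective _ y
  obtain ⟨s, hs, has⟩ := exists_polyPart_sub_mem hk u hu N a
  rw [← hw, Submodule.mem_span_range_iff_exists_fun] at hs
  obtain ⟨c, hcs⟩ := hs
  refine ⟨fun i => MvPowerSeries.C (c i), ?_⟩
  rw [LinearMap.comp_apply, Submodule.mkQ_apply, Submodule.mkQ_apply, Submodule.Quotient.eq, ← neg_mem_iff, neg_sub,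
    Ideal.smul_top_eq_map, Submodule.restrictScalars_mem, hmap]
  have e : Fintype.linearCombination (MvPowerSeries (Fin n) k) w (fun i => MvPowerSeries.C (c i)) = s := by
    rw [Fintype.linearCombination_apply, ← hcs]
    refine Finset.sum_congr rfl fun i _ => ?_
    rw [Algebra.smul_def, Algebra.smul_def]
    congr 1
    exact φ.commutes (c i)
  rw [e]
  exact hN has

theorem injective_powerSeries (φ : MvPowerSeries (Fin n) k →ₐ[k] A) (hfin : φ.toRingHom.Finite)
    (hn : ringKrullDim A = n) : Function.Injective φ := by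
  by_contra h
  obtain ⟨f, hf, hf0⟩ : ∃ f, φ f = 0 ∧ f ≠ 0 := by
    rw [injective_iff_map_eq_zero] at h
    push Not at h
    exact h
  have := Groth.L01.isDomain_of_regular (MvPowerSeries (Fin n) k)
  let g : MvPowerSeries (Fin n) k ⧸ Ideal.span {f} →+* A := Ideal.Quotient.lift _ φ.toRingHom fun a ha => by
    obtain ⟨b, rfl⟩ := Ideal.mem_span_singleton'.1 ha
    show φ (b * f) = 0
    rw [map_mul, hf, mul_zero]
  have hg : g.Finite := RingHom.Finite.of_comp_finite (f := Ideal.Quotient.mk _) (by
    rw [Ideal.Quotient.lift_comp_mk]; exact hfin)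
  letI := g.toAlgebra
  have : Module.Finite (MvPowerSeries (Fin n) k ⧸ Ideal.span {f}) A := hg
  have h1 : ringKrullDim A ≤ ringKrullDim (MvPowerSeries (Fin n) k ⧸ Ideal.span {f}) :=
    Order.krullDim_le_of_strictMono (PrimeSpectrum.comap g)
      fun I J h => Ideal.IsIntegral.comap_lt_comap (I := I.asIdeal) (J := J.asIdeal) h
  have h2 := ringKrullDim_quotient_succ_le_of_nonZeroDivisor (mem_nonZeroDivisors_of_ne_zero hf0)
  rw [Groth.L01.PowSerReg.ringKrullDim_eq] at h2
  rw [hn] at h1
  have h3 := (add_le_add h1 (le_refl (1 : WithBot ℕ∞))).trans h2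
  have h4 : n + 1 ≤ n := by exact_mod_cast h3
  omega

end finite

theorem exists_basis_powerSeries {k : Type v} [Field k] {n : ℕ} {A : Type u} [CommRing A] [IsRegularLocalRing A] [Algebra k A]
    (hn : ringKrullDim A = n) (hk : Function.Surjective (IsLocalRing.residue A ∘ algebraMap k A)) (x : Fin n → A)
    (hx : (Ideal.span (Set.range x)).radical = maximalIdeal A) (φ : MvPowerSeries (Fin n) k →ₐ[k] A)
    (hφ : ∀ i, φ (MvPowerSeries.X i) = x i) :
    ∃ (d : ℕ) (b : Fin d → A), (d : ℕ∞) = Module.length A (A ⧸ Ideal.span (Set.range x)) ∧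
      Function.Bijective (fun r : Fin d → MvPowerSeries (Fin n) k => ∑ i, φ (r i) * b i) := by
  have hfin := finite_powerSeries hk x hx φ hφ
  have hinj := injective_powerSeries φ hfin hn
  letI := φ.toRingHom.toAlgebra
  have : Module.Finite (MvPowerSeries (Fin n) k) A := hfin
  have := free_of_regular (MvPowerSeries (Fin n) k) A hinj
  let b := Module.finBasis (MvPowerSeries (Fin n) k) A
  refine ⟨_, b, ?_, ?_⟩
  · have hmap : (maximalIdeal (MvPowerSeries (Fin n) k)).map (algebraMap (MvPowerSeries (Fin n) k) A) = Ideal.span (Set.range x) := by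
      rw [Groth.L01.PowSerReg.maximalIdeal_eq]; exact map_varIdeal_eq φ x hφ
    have : IsLocalHom (algebraMap (MvPowerSeries (Fin n) k) A) := by
      have : FaithfulSMul (MvPowerSeries (Fin n) k) A := (faithfulSMul_iff_algebraMap_injective _ _).2 hinj
      exact Algebra.IsIntegral.isLocalHom _ A
    have h1 : Module.length (ResidueField (MvPowerSeries (Fin n) k)) (ResidueField A) = 1 := by
      have hs : Function.Surjective (algebraMap (ResidueField (MvPowerSeries (Fin n) k)) (ResidueField A)) := by
        intro y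
        obtain ⟨c, hc⟩ := hk y
        refine ⟨residue _ (MvPowerSeries.C c), ?_⟩
        rw [IsLocalRing.ResidueField.algebraMap_residue, ← hc]
        exact congrArg (residue A) (φ.commutes c)
      rw [Module.length_eq_of_surjective (R := ResidueField A) hs, Module.length_eq_one_iff]
      infer_instance
    have h2 := IsLocalRing.length_restrictScalars (MvPowerSeries (Fin n) k) A (A ⧸ Ideal.span (Set.range x))
    rw [h1, mul_one] at h2
    rw [← h2]
    let π : A →ₗ[MvPowerSeries (Fin n) k] (Fin (Module.finrank (MvPowerSeries (Fin n) k) A) →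
        MvPowerSeries (Fin n) k ⧸ maximalIdeal (MvPowerSeries (Fin n) k)) :=
      LinearMap.pi fun e => (maximalIdeal (MvPowerSeries (Fin n) k)).mkQ.comp ((Finsupp.lapply e).comp b.repr.toLinearMap)
    have hπ : Function.Surjective π := fun z => by
      choose c hc using fun e => Submodule.Quotient.mk_surjective (maximalIdeal (MvPowerSeries (Fin n) k)) (z e)
      refine ⟨∑ e, c e • b e, funext fun e => ?_⟩
      show Submodule.Quotient.mk (b.repr _ e) = z e
      rw [Module.Basis.repr_sum_self, hc]
    have hker : LinearMap.ker π = (Ideal.span (Set.range x)).restrictScalars (MvPowerSeries (Fin n) k) := by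
      rw [← hmap, ← Ideal.smul_top_eq_map]
      ext t
      rw [LinearMap.mem_ker, mem_smul_top_iff_repr b, funext_iff]
      exact forall_congr' fun e => Submodule.Quotient.mk_eq_zero _
    rw [← (Submodule.Quotient.restrictScalarsEquiv (MvPowerSeries (Fin n) k) (Ideal.span (Set.range x))).length_eq,
      ((Submodule.quotEquivOfEq _ _ hker.symm).trans (π.quotKerEquivOfSurjective hπ)).length_eq,
      Module.length_pi_of_fintype]
    have hone : Module.length (MvPowerSeries (Fin n) k) (MvPowerSeries (Fin n) k ⧸ maximalIdeal (MvPowerSeries (Fin n) k)) = 1 :=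
      Module.length_eq_one_iff.2 (isSimpleModule_iff_isCoatom.2 (Ideal.isMaximal_def.1 inferInstance))
    simp [hone]
  · have e : (fun r : Fin _ → MvPowerSeries (Fin n) k => ∑ i, φ (r i) * b i) = b.equivFun.symm := funext fun r => by
      rw [Module.Basis.equivFun_symm_apply]
      exact Finset.sum_congr rfl fun i _ => (Algebra.smul_def (R := MvPowerSeries (Fin n) k) (r i) (b i)).symm
    rw [e]
    exact b.equivFun.symm.bijective

end Groth.L13.Wild
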