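import Mathlib.RingTheory.LocalRing.Module
import Mathlib.LinearAlgebra.Dimension.RankNullity
import Mathlib.LinearAlgebra.Dimension.Torsion.Basic
import Mathlib.LinearAlgebra.FreeModule.StrongRankCondition
import Mathlib.Tactic

/-! Freeness from the generic and special rank. -/

set_option autoImplicit false

universe u v

namespace Groth.L13.Wild

open TensorProduct IsLocalRing

variable {R : Type u} [CommRing R] [IsDomain R] [IsNoetherianRing R] {M : Type v} [AddCommGroup M] [Module R M]

/-- a spanning family of cardinality the rank is a basis -/
theorem linearIndependent_of_span_eq_top_of_card_le {ι : Type*} [Fintype ι] {w : ι → M}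
    (h : Submodule.span R (Set.range w) = ⊤) (hr : Fintype.card ι ≤ Module.finrank R M) : LinearIndependent R w := by
  let Φ : (ι → R) →ₗ[R] M := Fintype.linearCombination R w
  have hs : Function.Surjective Φ := by
    rw [← LinearMap.range_eq_top, Fintype.range_linearCombination, h]
  have h2 := (Φ.quotKerEquivOfSurjective hs).finrank_eq
  have h3 := Submodule.finrank_quotient_add_finrank (LinearMap.ker Φ)
  rw [Module.finrank_pi] at h3
  have h4 : Module.finrank R (LinearMap.ker Φ) = 0 := by omega
  exact (Fintype.linearIndependent_iff).2 fun g hg => by
    have : g ∈ LinearMap.ker Φ := by rw [LinearMap.mem_ker, Fintype.linearCombination_apply]; exact hg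
    rw [Submodule.finrank_eq_zero.1 h4, Submodule.mem_bot] at this
    exact fun i => congrFun this i

theorem free_of_span_eq_top_of_card_le {ι : Type*} [Fintype ι] {w : ι → M}
    (h : Submodule.span R (Set.range w) = ⊤) (hr : Fintype.card ι ≤ Module.finrank R M) : Module.Free R M :=
  Module.Free.of_basis (Module.Basis.mk (linearIndependent_of_span_eq_top_of_card_le h hr) h.ge)

theorem rank_le_and_free [IsLocalRing R] [Module.Finite R M] :
    Module.finrank R M ≤ Module.finrank (ResidueField R) (ResidueField R ⊗[R] M) ∧
      (Module.finrank (ResidueField R) (ResidueField R ⊗[R] M) ≤ Module.finrank R M → Module.Free R M) := by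
  let b := Module.finBasis (ResidueField R) (ResidueField R ⊗[R] M)
  choose f hf using fun i => TensorProduct.mk_surjective R M (ResidueField R) IsLocalRing.residue_surjective (b i)
  have hspan := span_eq_top_of_tmul_eq_basis f b hf
  refine ⟨?_, fun h => free_of_span_eq_top_of_card_le hspan (by simpa using h)⟩
  let Φ : (Fin (Module.finrank (ResidueField R) (ResidueField R ⊗[R] M)) → R) →ₗ[R] M :=
    Fintype.linearCombination R f
  have hs : Function.Surjective Φ := by
    rw [← LinearMap.range_eq_top, Fintype.range_linearCombination, hspan]
  simpa using LinearMap.finrank_le_finrank_of_surjective hs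

end Groth.L13.Wild
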