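import Groth.Agent.L13.Wild.ProductInv
import Groth.Agent.L13.Wild.RankCriterion
import Groth.Agent.L13.Wild.FreeRegular
import Groth.Agent.S0565
import Groth.Agent.L01.Regular
import Mathlib.RingTheory.PiTensorProduct
import Mathlib.LinearAlgebra.PiTensorProduct.Basis
import Mathlib.RingTheory.TensorProduct.Finite
import Mathlib.RingTheory.Flat.FaithfullyFlat.Algebra

/-! A regular ring which is the coproduct of invariant rings. -/

set_option autoImplicit false
set_option linter.unusedSectionVars false

universe u v w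

namespace Groth.L13.Wild.Inv

open scoped TensorProduct PiTensorProduct
open IsLocalRing

variable {R : Type u} [CommRing R] [IsRegularLocalRing R] {A : Type v} [CommRing A] [IsRegularLocalRing A]
  [Algebra R A] [Module.Finite R A]

theorem finrank_residue_eq_of_coprod (hinj : Function.Injective (algebraMap R A)) {n p : ℕ} (hp : 0 < p)
    (B : Fin n → Subalgebra R A) (hrank : ∀ i, Module.finrank R (B i) = p) (hA : Module.finrank R A = p ^ n)
    (hex : ∀ (C : Type (max u v)) [CommRing C] [Algebra R C] (φ : ∀ i, B i →ₐ[R] C),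
      ∃ ψ : A →ₐ[R] C, ∀ i (x : B i), ψ x = φ i x) :
    ∀ i, Module.Free R (B i) := by
  classical
  have := Groth.L01.isDomain_of_regular R
  have := free_of_regular R A hinj
  have : IsNoetherian R A := isNoetherian_of_isNoetherianRing_of_finite R A
  have : ∀ i, Module.Finite R (B i) := fun i =>
    Module.Finite.of_injective (B i).val.toLinearMap Subtype.val_injective
  let k := ResidueField R
  let Q : Fin n → Type (max u v) := fun i => k ⊗[R] B i
  let T : Type (max u v) := ⨂[k] i, Q i
  have : IsScalarTower R k T := inferInstance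
  let φ : ∀ i, B i →ₐ[R] T := fun i =>
    ((PiTensorProduct.singleAlgHom (R := k) (A := Q) i).restrictScalars R).comp Algebra.TensorProduct.includeRight
  obtain ⟨ψ, hψ⟩ := hex T φ
  let F : k ⊗[R] A →ₗ[k] T := ψ.toLinearMap.liftBaseChange k
  have hF : Function.Surjective F := by
    have hone : ∀ a : A, F (1 ⊗ₜ a) = ψ a := fun a => by simp [F]
    have h1 : ∀ (i : Fin n) (y : Q i), ∃ (c : k ⊗[R] A), F c = PiTensorProduct.singleAlgHom (R := k) (A := Q) i y := by
      intro i y
      obtain ⟨b, rfl⟩ := TensorProduct.mk_surjective R (B i) k IsLocalRing.residue_surjective y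
      exact ⟨1 ⊗ₜ (b : A), by rw [hone, hψ]; rfl⟩
    have h2 : ∀ (s : Finset (Fin n)) (x : ∀ i, Q i), ∃ a : A,
        ψ a = ∏ i ∈ s, PiTensorProduct.singleAlgHom (R := k) (A := Q) i (x i) := by
      intro s x
      induction s using Finset.induction_on with
      | empty => exact ⟨1, by rw [Finset.prod_empty]; exact ψ.toRingHom.map_one⟩
      | insert i s hi ih =>
        obtain ⟨a, ha⟩ := ih
        obtain ⟨b, hb⟩ := TensorProduct.mk_surjective R (B i) k IsLocalRing.residue_surjective (x i)
        refine ⟨(b : A) * a, ?_⟩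
        rw [map_mul, hψ, ha, Finset.prod_insert hi, ← hb]
        rfl
    rw [← LinearMap.range_eq_top, eq_top_iff, ← (PiTensorProduct.span_tprod_eq_top (R := k) (s := Q)), Submodule.span_le]
    rintro _ ⟨x, rfl⟩
    obtain ⟨a, ha⟩ := h2 Finset.univ x
    refine ⟨1 ⊗ₜ a, ?_⟩
    rw [hone, ha]
    have hx : x = ∏ i, Pi.mulSingle i (x i) := (Finset.univ_prod_mulSingle x).symm
    conv_rhs => rw [hx]
    rw [PiTensorProduct.tprod_prod]
    rfl
  have hb : ∀ i, Module.finrank R (B i) ≤ Module.finrank k (k ⊗[R] B i) ∧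
      (Module.finrank k (k ⊗[R] B i) ≤ Module.finrank R (B i) → Module.Free R (B i)) :=
    fun i => rank_le_and_free
  have hT : Module.finrank k T = ∏ i, Module.finrank k (k ⊗[R] B i) := by
    rw [Module.finrank_eq_card_basis (Basis.piTensorProduct fun i => Module.finBasis k (Q i))]
    simp [Q]
  have hle : Module.finrank k T ≤ p ^ n := by
    refine (LinearMap.finrank_le_finrank_of_surjective hF).trans_eq ?_
    rw [Module.finrank_baseChange, hA]
  intro i
  refine (hb i).2 ?_
  by_contra hlt
  rw [hrank i, not_le] at hlt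
  have : p ^ n < ∏ j, Module.finrank k (k ⊗[R] B j) := by
    rw [show p ^ n = ∏ _j : Fin n, p by simp]
    exact Finset.prod_lt_prod (fun j _ => hp) (fun j _ => by rw [← hrank j]; exact (hb j).1) ⟨i, Finset.mem_univ i, hlt⟩
  omega

theorem iSup_eq_top_of_coprod {n : ℕ} (B : Fin n → Subalgebra R A)
    (hcoprod : ∀ (C : Type (max u v)) [CommRing C] [Algebra R C] (φ : ∀ i, B i →ₐ[R] C),
      ∃! ψ : A →ₐ[R] C, ∀ i (x : B i), ψ x = φ i x) : (⨆ i, B i) = ⊤ := by
  set C : Subalgebra R A := ⨆ i, B i
  let e : A ≃ₐ[R] ULift.{u} A := ULift.algEquiv.symm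
  obtain ⟨ψ, hψ, -⟩ := hcoprod (ULift.{u} C) fun i =>
    (ULift.algEquiv.symm.toAlgHom).comp (Subalgebra.inclusion (le_iSup B i))
  obtain ⟨ψ₀, -, huniq⟩ := hcoprod (ULift.{u} A) fun i => e.toAlgHom.comp (B i).val
  have h1 := huniq e.toAlgHom fun i x => rfl
  have h2 := huniq (e.toAlgHom.comp (C.val.comp ((ULift.algEquiv (R := R) (A := C)).toAlgHom.comp ψ))) fun i x => by
    show e _ = e _
    refine congrArg e ?_
    show ((ULift.algEquiv (R := R) (A := C) (ψ x) : C) : A) = x
    rw [hψ]
    rfl
  rw [eq_top_iff]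
  intro a _
  have h3 := e.injective (AlgHom.congr_fun (h1.trans h2.symm) a)
  rw [h3]
  exact (ULift.algEquiv (R := R) (A := C) (ψ a)).2

variable {H : Type w} [Group H] [Finite H] [MulSemiringAction H A] [SMulCommClass H R A] [FaithfulSMul H A]

theorem isRegularLocalRing_fixed (hinj : Function.Injective (algebraMap R A))
    (hfix : ∀ a : A, (∀ h : H, h • a = a) → a ∈ Set.range (algebraMap R A)) {n p : ℕ} (hp : 0 < p)
    (Kf : Fin n → Subgroup H) (hK : ∀ i, Nat.card (Kf i) * p = p ^ n) (hH : Nat.card H = p ^ n)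
    (hgen : (⨆ i, FixedPoints.subalgebra R A ↥(Kf i)) = ⊤)
    (hfree : ∀ i, Module.Free R (FixedPoints.subalgebra R A ↥(Kf i))) (i : Fin n) :
    IsRegularLocalRing (FixedPoints.subalgebra R A ↥(Kf i)) := by
  classical
  have := Groth.L01.isDomain_of_regular R
  have := Groth.L01.isDomain_of_regular A
  have : IsNoetherian R A := isNoetherian_of_isNoetherianRing_of_finite R A
  let B : Fin n → Subalgebra R A := fun i => FixedPoints.subalgebra R A ↥(Kf i)
  have hrank : ∀ i, Module.finrank R (B i) = p := fun i => by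
    refine Nat.eq_of_mul_eq_mul_right (Nat.card_pos (α := Kf i)) ?_
    rw [finrank_fixed_mul_card hinj hfix (Kf i), hH, ← hK i, mul_comm]
  have : ∀ i, Module.Free R (B i) := hfree
  have : ∀ i, Module.Finite R (B i) := fun i =>
    Module.Finite.of_injective (B i).val.toLinearMap Subtype.val_injective
  let b : ∀ j, Module.Basis (Fin p) R (B j) := fun j => Module.finBasisOfFinrankEq R (B j) (hrank j)
  have : Module.Finite (B i) A := Module.Finite.of_restrictScalars_finite R (B i) A
  have : IsNoetherianRing (B i) := IsNoetherianRing.of_finite R (B i)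
  have : Algebra.IsIntegral (B i) A := Algebra.IsIntegral.of_finite (B i) A
  have hBinj : Function.Injective (algebraMap (B i) A) := Subtype.val_injective
  have : IsLocalRing (B i) := by
    refine IsLocalRing.of_nonunits_add fun {x y} hx hy hxy => ?_
    have : FaithfulSMul (B i) A := (faithfulSMul_iff_algebraMap_injective _ _).2 hBinj
    have hloc : IsLocalHom (algebraMap (B i) A) := Algebra.IsIntegral.isLocalHom (B i) A
    have h1 : ¬ IsUnit (algebraMap (B i) A x) := fun h => hx (hloc.map_nonunit x h)
    have h2 : ¬ IsUnit (algebraMap (B i) A y) := fun h => hy (hloc.map_nonunit y h)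
    exact IsLocalRing.nonunits_add h1 h2 ((map_add (algebraMap (B i) A) x y) ▸ hxy.map (algebraMap (B i) A))
  have : FaithfulSMul (B i) A := (faithfulSMul_iff_algebraMap_injective _ _).2 hBinj
  have : IsLocalHom (algebraMap (B i) A) := Algebra.IsIntegral.isLocalHom (B i) A
  -- `A` is free over `B i`
  let wrest : ({j // j ≠ i} → Fin p) → A := fun e => ∏ j, (b j.1 (e j) : A)
  have hspan : Submodule.span (B i) (Set.range wrest) = ⊤ := by
    rw [eq_top_iff]
    intro a _
    have ha : a ∈ (⨆ j, B j : Subalgebra R A) := by rw [show (⨆ j, B j) = ⊤ from hgen]; trivial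
    have hle : Submodule.span R (Set.range fun e : Fin n → Fin p => ∏ j, (b j (e j) : A)) ≤
        (Submodule.span (B i) (Set.range wrest)).restrictScalars R := by
      rw [Submodule.span_le]
      rintro _ ⟨e, rfl⟩
      have : ∏ j, (b j (e j) : A) = b i (e i) • wrest (fun j => e j.1) := by
        rw [← Finset.mul_prod_erase _ _ (Finset.mem_univ i), Subalgebra.smul_def, smul_eq_mul]
        congr 1
        exact Finset.prod_subtype _ (fun j => by simp) _
      show ∏ j, (b j (e j) : A) ∈ Submodule.span (B i) (Set.range wrest)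
      rw [this]
      exact Submodule.smul_mem _ _ (Submodule.subset_span (Set.mem_range_self _))
    exact hle (le_span_prod B b ha)
  have hrA : Module.finrank (B i) A = Nat.card (Kf i) :=
    @finrank_eq_card (B i) _ _ A _ _ _ _ (Kf i) _ _ _
      ⟨fun k c a => by rw [Subalgebra.smul_def, Subalgebra.smul_def, smul_eq_mul, smul_eq_mul, smul_mul', c.2 k]⟩
      _ hBinj fun a ha => ⟨⟨a, ha⟩, rfl⟩
  have hcard : Fintype.card ({j // j ≠ i} → Fin p) ≤ Module.finrank (B i) A := by
    rw [hrA, Fintype.card_fun, Fintype.card_fin, Fintype.card_subtype_compl, Fintype.card_fin,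
      Fintype.card_subtype_eq]
    have h := hK i
    obtain ⟨m, rfl⟩ : ∃ m, n = m + 1 := ⟨n - 1, (Nat.sub_add_cancel i.pos).symm⟩
    rw [pow_succ] at h
    rw [Nat.add_sub_cancel, Nat.eq_of_mul_eq_mul_right hp h]
  have : Module.Free (B i) A := free_of_span_eq_top_of_card_le hspan hcard
  exact Groth.Agent.S0565.result (B i) A

end Groth.L13.Wild.Inv
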