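import Mathlib.RingTheory.IntegralClosure.IntegrallyClosed
import Mathlib.RingTheory.Localization.Away.Basic
import Mathlib.Tactic

/-! The fixed ring of a normal domain is normal. -/

set_option autoImplicit false

namespace Groth.L13.Wild

variable {A : Type*} [CommRing A] [IsDomain A] [IsIntegrallyClosed A]

theorem isIntegrallyClosed_fixed (σ : A →+* A) (C : Subring A) (hC : ∀ x, x ∈ C ↔ σ x = x) :
    IsIntegrallyClosed C := by
  rw [isIntegrallyClosed_iff (FractionRing C)]
  intro x hx
  obtain ⟨a, s, hs, rfl⟩ := IsFractionRing.div_surjective (A := C) x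
  let g : FractionRing C →+* FractionRing A :=
    IsFractionRing.map (A := C) (K := FractionRing C) (L := FractionRing A) (j := C.subtype) Subtype.val_injective
  have hg : ∀ c : C, g (algebraMap C (FractionRing C) c) = algebraMap A (FractionRing A) c := fun c =>
    IsLocalization.map_eq _ c
  have hs0 : (s : A) ≠ 0 := fun h => nonZeroDivisors.ne_zero hs (Subtype.ext h)
  obtain ⟨P, hm, hP⟩ := hx
  have hint : IsIntegral A (g (algebraMap C _ a / algebraMap C _ s)) := by
    refine ⟨P.map C.subtype, hm.map _, ?_⟩
    have h2 := congrArg g hP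
    rw [Polynomial.hom_eval₂, map_zero] at h2
    rw [Polynomial.eval₂_map, ← h2]
    congr 1
    exact (RingHom.ext hg).symm
  obtain ⟨t, ht⟩ := (isIntegrallyClosed_iff (FractionRing A)).1 inferInstance hint
  rw [map_div₀, hg, hg, eq_div_iff (fun h => hs0 (IsFractionRing.injective A (FractionRing A) (h.trans (map_zero _).symm))),
    ← map_mul] at ht
  have hta := IsFractionRing.injective A (FractionRing A) ht
  have htC : t ∈ C := by
    rw [hC]
    refine mul_right_cancel₀ hs0 ?_
    have h3 := congrArg σ hta
    rw [map_mul, (hC _).1 s.2, (hC _).1 a.2] at h3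
    rw [h3, hta]
  refine ⟨⟨t, htC⟩, ?_⟩
  rw [eq_div_iff (fun h => nonZeroDivisors.ne_zero hs (IsFractionRing.injective C (FractionRing C) (h.trans (map_zero _).symm))),
    ← map_mul]
  exact congrArg _ (Subtype.ext hta)

theorem isIntegrallyClosed_away {B : Type*} [CommRing B] [IsDomain B] (f : B →+* A) (hf : Function.Injective f)
    (σ : A →+* A) (hσ : ∀ b, σ (f b) = f b) {β : B} (hβ : β ≠ 0)
    (hclear : ∀ c, σ c = c → ∃ (b : B) (N : ℕ), f b = f β ^ N * c) :
    IsIntegrallyClosed (Localization.Away β) := by
  let C : Subring A := RingHom.eqLocus σ (RingHom.id A)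
  have : IsIntegrallyClosed C := isIntegrallyClosed_fixed σ C fun x => Iff.rfl
  let f' : B →+* C := f.codRestrict C hσ
  have hC : IsIntegrallyClosed (Localization.Away (f' β)) := by
    refine isIntegrallyClosed_of_isLocalization _ (Submonoid.powers (f' β)) ?_
    exact powers_le_nonZeroDivisors_of_noZeroDivisors fun h => hβ (hf ((congrArg Subtype.val h).trans (map_zero f).symm))
  have hbij : Function.Bijective (Localization.awayMap f' β) := by
    refine ⟨Localization.awayMap_injective_iff.2 fun a ha =>
      ⟨0, by rw [pow_zero, one_mul]; exact hf ((congrArg Subtype.val ha).trans (map_zero f).symm)⟩,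
      Localization.awayMap_surjective_iff.2 fun c => ?_⟩
    obtain ⟨b, N, h⟩ := hclear c c.2
    exact ⟨b, N, Subtype.ext h⟩
  exact IsIntegrallyClosed.of_equiv (RingEquiv.ofBijective _ hbij).symm

end Groth.L13.Wild
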