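import Groth.Agent.L01.Regular
import Mathlib.Algebra.Ring.Action.Basic
import Mathlib.GroupTheory.PGroup
import Mathlib.RingTheory.Ideal.Cotangent
import Mathlib.Algebra.CharP.Quotient
import Mathlib.LinearAlgebra.FiniteDimensional.Basic
import Mathlib.Algebra.Module.ZMod
import Mathlib.RingTheory.Nakayama

/-! Parameters triangular for a unipotent action. -/

set_option autoImplicit false

noncomputable section

universe u v

namespace Groth.L13.Wild

open IsLocalRing

variable {A : Type u} [CommRing A] {G : Type v} [Group G] [MulSemiringAction G A]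

theorem smul_maximalIdeal_sq [IsLocalRing A] (σ : G) {x : A} (hx : x ∈ maximalIdeal A ^ 2) :
    σ • x ∈ maximalIdeal A ^ 2 := by
  have h1 : ∀ y ∈ maximalIdeal A, σ • y ∈ maximalIdeal A := fun y hy => by
    rw [mem_maximalIdeal, mem_nonunits_iff] at hy ⊢
    intro hu
    exact hy (by simpa using hu.map (MulSemiringAction.toRingHom G A σ⁻¹))
  rw [sq] at hx ⊢
  induction hx using Submodule.mul_induction_on' with
  | mem_mul_mem a ha b hb => rw [smul_mul']; exact Ideal.mul_mem_mul (h1 a ha) (h1 b hb)
  | add a _ b _ ha hb => rw [smul_add]; exact add_mem ha hb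

theorem smul_sup_sq_mem [IsLocalRing A] (s : Set A) (σ : G)
    (h : ∀ a ∈ s, σ • a ∈ Ideal.span s ⊔ maximalIdeal A ^ 2) {x : A}
    (hx : x ∈ Ideal.span s ⊔ maximalIdeal A ^ 2) : σ • x ∈ Ideal.span s ⊔ maximalIdeal A ^ 2 := by
  obtain ⟨a, ha, b, hb, rfl⟩ := Submodule.mem_sup.1 hx
  rw [smul_add]
  refine add_mem ?_ (Submodule.mem_sup_right (smul_maximalIdeal_sq σ hb))
  clear hx
  induction ha using Submodule.span_induction with
  | mem a ha => exact h a ha
  | zero => rw [smul_zero]; exact zero_mem _
  | add a c _ _ ha hc => rw [smul_add]; exact add_mem ha hc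
  | smul t a _ ha => rw [smul_eq_mul, smul_mul']; exact Ideal.mul_mem_left _ _ ha

theorem span_sup_mono (K : Ideal A) {s t : Set A} (h : s ⊆ t) : Ideal.span s ⊔ K ≤ Ideal.span t ⊔ K :=
  sup_le_sup_right (Ideal.span_mono h) K

theorem span_twist_eq [IsRegularLocalRing A] {n : ℕ} (u : Fin n → A)
    (hu : Ideal.span (Set.range u) = maximalIdeal A)
    (htri : ∀ (σ : G) (i : Fin n), σ • u i ∈ Ideal.span (u '' {j | j ≤ i}) ⊔ maximalIdeal A ^ 2)
    (τ : Fin n → G) : Ideal.span (Set.range fun i => τ i • u i) = maximalIdeal A := by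
  set T := Ideal.span (Set.range fun i => τ i • u i) ⊔ maximalIdeal A ^ 2 with hT
  have hmem : ∀ i, τ i • u i ∈ maximalIdeal A := fun i => by
    have := htri (τ i) i
    refine (sup_le ((Ideal.span_mono (Set.image_subset_range _ _)).trans hu.le) ?_ : _ ≤ maximalIdeal A) this
    rw [sq]; exact Ideal.mul_le_left
  have key : ∀ (d : ℕ) (i : Fin n), i.val < d → u i ∈ T := by
    intro d
    induction d with
    | zero => intro i hi; omega
    | succ d ih =>
      intro i hi
      have hlow : ∀ l, l < i → u l ∈ T := fun l hl => ih l (by omega)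
      have hfix : ∀ x ∈ Ideal.span (u '' {j | j ≤ i}) ⊔ maximalIdeal A ^ 2, ∀ σ : G,
          σ • x ∈ Ideal.span (u '' {j | j ≤ i}) ⊔ maximalIdeal A ^ 2 := by
        intro x hx σ
        refine smul_sup_sq_mem _ σ ?_ hx
        rintro _ ⟨l, hl, rfl⟩
        have hl' : l ≤ i := hl
        have hsub : u '' {j : Fin n | j ≤ l} ⊆ u '' {j : Fin n | j ≤ i} :=
          Set.image_mono fun j hj => (show j ≤ l from hj).trans hl'
        exact span_sup_mono _ hsub (htri σ l)
      -- `u i = τ • x`, with `x` in the span up to `i`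
      have hx := hfix (u i) (Submodule.mem_sup_left (Ideal.subset_span (show u i ∈ u '' {j : Fin n | j ≤ i} from ⟨i, le_refl i, rfl⟩))) (τ i)⁻¹
      obtain ⟨a, ha, b, hb, hab⟩ := Submodule.mem_sup.1 hx
      have hle : ∀ y ∈ Ideal.span (u '' {j | j ≤ i}), τ i • y ∈ T := by
        intro y hy
        induction hy using Submodule.span_induction with
        | mem y hy =>
          obtain ⟨l, hl, rfl⟩ := hy
          rcases lt_or_eq_of_le (show l ≤ i from hl) with h | h
          · have h2 := htri (τ i) l
            refine (sup_le (Ideal.span_le.2 ?_) le_sup_right : _ ≤ T) h2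
            rintro _ ⟨l', hl', rfl⟩
            exact hlow l' (lt_of_le_of_lt hl' h)
          · subst h
            exact Submodule.mem_sup_left (Ideal.subset_span ⟨l, rfl⟩)
        | zero => rw [smul_zero]; exact zero_mem _
        | add a c _ _ ha hc => rw [smul_add]; exact add_mem ha hc
        | smul t a _ ha => rw [smul_eq_mul, smul_mul']; exact Ideal.mul_mem_left _ _ ha
      have := congrArg (fun z => τ i • z) hab
      simp only [smul_add, smul_inv_smul] at this
      rw [← this]
      exact add_mem (hle a ha) (Submodule.mem_sup_right (smul_maximalIdeal_sq _ hb))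
  refine le_antisymm (Ideal.span_le.2 (by rintro _ ⟨i, rfl⟩; exact hmem i)) ?_
  refine Submodule.le_of_le_smul_of_le_jacobson_bot (Ideal.fg_of_isNoetherianRing _)
    (IsLocalRing.jacobson_eq_maximalIdeal ⊥ bot_ne_top).ge ?_
  rw [smul_eq_mul, ← sq, ← hT]
  conv_lhs => rw [← hu]
  exact Ideal.span_le.2 (by rintro _ ⟨i, rfl⟩; exact key (i + 1) i (Nat.lt_succ_self _))

theorem exists_almost_fixed {p : ℕ} [Fact p.Prime] [IsLocalRing A] [CharP A p] [Finite G] (hG : IsPGroup p G)
    (J : Ideal A) (hJ : ∀ σ : G, ∀ x ∈ J, σ • x ∈ J) {y : A} (hy : y ∈ maximalIdeal A) (hyJ : y ∉ J) :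
    ∃ x ∈ maximalIdeal A, x ∉ J ∧ ∀ σ : G, σ • x - x ∈ J := by
  classical
  haveI : CharP (Polynomial A) p := inferInstance
  -- the finite set of `ZMod p`-combinations of the orbit
  have _ := Fintype.ofFinite G
  let φ : (G → ZMod p) → A ⧸ J := fun c => Ideal.Quotient.mk J (∑ g, ((c g).val : A) * (g • y))
  have hcast : ∀ a b : ZMod p, (((a + b).val : ℕ) : A) = (a.val : A) + (b.val : A) := fun a b => by
    rw [ZMod.val_add, ← Nat.cast_add]
    exact (CharP.natCast_eq_natCast A p).2 (Nat.mod_modEq _ _)
  let φh : (G → ZMod p) →+ A ⧸ J := AddMonoidHom.mk' φ fun a b => by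
    show Ideal.Quotient.mk J _ = Ideal.Quotient.mk J _ + Ideal.Quotient.mk J _
    rw [← map_add, ← Finset.sum_add_distrib]
    simp only [Pi.add_apply, hcast, add_mul]
  let act : G → (A ⧸ J) → (A ⧸ J) := fun σ => Quotient.lift (fun x => Ideal.Quotient.mk J (σ • x)) fun a b hab => by
    have hab2 : a - b ∈ J := Ideal.Quotient.eq.1 (Quotient.sound hab)
    exact Ideal.Quotient.eq.2 (by rw [← smul_sub]; exact hJ σ _ hab2)
  have hact : ∀ σ x, act σ (Ideal.Quotient.mk J x) = Ideal.Quotient.mk J (σ • x) := fun σ x => rfl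
  have hstab : ∀ σ c, act σ (φh c) = φh (fun g => c (σ⁻¹ * g)) := by
    intro σ c
    show act σ (Ideal.Quotient.mk J _) = Ideal.Quotient.mk J _
    rw [hact, Finset.smul_sum]
    congr 1
    refine Fintype.sum_equiv (Equiv.mulLeft σ) _ _ fun g => ?_
    simp only [Equiv.coe_mulLeft, inv_mul_cancel_left, smul_mul', mul_smul]
    congr 1
    exact map_natCast (MulSemiringAction.toRingHom G A σ) _
  let V := φh.range
  letI : MulAction G V :=
    { smul := fun σ v => ⟨act σ v.1, by obtain ⟨c, hc⟩ := v.2; exact ⟨_, (by rw [← hc, hstab] : _ = _).symm⟩⟩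
      one_smul := fun v => Subtype.ext (by
        obtain ⟨x, hx⟩ := Ideal.Quotient.mk_surjective v.1
        show act 1 v.1 = v.1
        rw [← hx, hact, one_smul])
      mul_smul := fun σ σ' v => Subtype.ext (by
        obtain ⟨x, hx⟩ := Ideal.Quotient.mk_surjective v.1
        show act (σ * σ') v.1 = act σ (act σ' v.1)
        rw [← hx, hact, hact, hact, mul_smul]) }
  haveI : Finite V := Finite.of_surjective φh.rangeRestrict φh.rangeRestrict_surjective
  have hyV : Ideal.Quotient.mk J y ∈ V := by
    refine ⟨Pi.single 1 1, ?_⟩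
    show Ideal.Quotient.mk J _ = _
    congr 1
    rw [Finset.sum_eq_single 1]
    · simp [ZMod.val_one p]
    · intro g _ hg; rw [Pi.single_eq_of_ne hg]; simp
    · intro h; exact absurd (Finset.mem_univ _) h
  have hdvd : p ∣ Nat.card V := by
    have hne : (⟨_, hyV⟩ : V) ≠ 0 := fun h => hyJ (Ideal.Quotient.eq_zero_iff_mem.1 (congrArg Subtype.val h))
    have hord : addOrderOf (⟨_, hyV⟩ : V) = p := by
      refine addOrderOf_eq_prime (Subtype.ext ?_) hne
      simp only [AddSubmonoidClass.coe_nsmul, ZeroMemClass.coe_zero]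
      rw [← map_nsmul, nsmul_eq_mul, CharP.cast_eq_zero, zero_mul, map_zero]
    exact hord ▸ addOrderOf_dvd_natCard _
  have h0 : (0 : V) ∈ MulAction.fixedPoints G V := fun σ => Subtype.ext (by
    show act σ 0 = 0
    rw [← map_zero (Ideal.Quotient.mk J), hact, smul_zero])
  obtain ⟨b, hb, hb0⟩ := hG.exists_fixed_point_of_prime_dvd_card_of_fixed_point V hdvd h0
  obtain ⟨c, hc⟩ := b.2
  refine ⟨∑ g, ((c g).val : A) * (g • y), Submodule.sum_mem _ fun g _ => Ideal.mul_mem_left _ _ ?_, ?_, fun σ => ?_⟩
  · rw [mem_maximalIdeal, mem_nonunits_iff] at hy ⊢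
    intro hu
    exact hy (by simpa using hu.map (MulSemiringAction.toRingHom G A g⁻¹))
  · intro h
    exact hb0 (Subtype.ext (by rw [← hc]; exact (Ideal.Quotient.eq_zero_iff_mem.2 h).symm))
  · rw [← Ideal.Quotient.eq_zero_iff_mem, map_sub, sub_eq_zero, ← hact]
    have h1 := congrArg Subtype.val (hb σ)
    change act σ b.1 = b.1 at h1
    rwa [← hc] at h1

theorem exists_params {p : ℕ} [Fact p.Prime] [IsRegularLocalRing A] [CharP A p] [Finite G] (hG : IsPGroup p G)
    {n : ℕ} (hn : ringKrullDim A = n) :
    ∃ u : Fin n → A, Ideal.span (Set.range u) = maximalIdeal A ∧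
      ∀ (σ : G) (i : Fin n), σ • u i ∈ Ideal.span (u '' {j | j ≤ i}) ⊔ maximalIdeal A ^ 2 := by
  have hdim : Module.finrank (ResidueField A) (CotangentSpace A) = n := by
    have := (IsRegularLocalRing.iff_finrank_cotangentSpace A).1 inferInstance
    rw [hn] at this
    exact_mod_cast this
  suffices H : ∀ t, t ≤ n → ∃ u : Fin t → maximalIdeal A,
      LinearIndependent (ResidueField A) (fun i => (maximalIdeal A).toCotangent (u i) : Fin t → CotangentSpace A) ∧
        ∀ (σ : G) (i : Fin t), σ • (u i : A) ∈ Ideal.span ((fun l => (u l : A)) '' {j | j ≤ i}) ⊔ maximalIdeal A ^ 2 by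
    obtain ⟨u, hli, htri⟩ := H n le_rfl
    refine ⟨fun i => u i, ?_, htri⟩
    have htop := hli.span_eq_top_of_card_eq_finrank' (by rw [Fintype.card_fin, hdim])
    have h2 : Submodule.span A (Set.range u) = ⊤ :=
      (IsLocalRing.CotangentSpace.span_image_eq_top_iff (s := Set.range u)).1 (by rw [← Set.range_comp]; exact htop)
    have h3 := congrArg (Submodule.map (maximalIdeal A).subtype) h2
    rw [Submodule.map_span, Submodule.map_top, Submodule.range_subtype, ← Set.range_comp] at h3
    exact h3
  intro t
  induction t with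
  | zero => exact fun _ => ⟨Fin.elim0, linearIndependent_empty_type, fun _ i => i.elim0⟩
  | succ t ih =>
    intro ht
    obtain ⟨u, hli, htri⟩ := ih (by omega)
    set J := Ideal.span (Set.range fun i => (u i : A)) ⊔ maximalIdeal A ^ 2 with hJ
    have hJst : ∀ σ : G, ∀ x ∈ J, σ • x ∈ J := fun σ x hx => by
      refine smul_sup_sq_mem _ σ ?_ hx
      rintro _ ⟨i, rfl⟩
      exact span_sup_mono _ (Set.image_subset_range _ _) (htri σ i)
    have hker : ∀ z : maximalIdeal A, ((maximalIdeal A).toCotangent z : CotangentSpace A) ∈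
        Submodule.span (ResidueField A) (Set.range fun i => ((maximalIdeal A).toCotangent (u i) : CotangentSpace A)) ↔
        (z : A) ∈ J := by
      intro z
      have e : (Submodule.span (ResidueField A) (Set.range fun i => ((maximalIdeal A).toCotangent (u i) : CotangentSpace A))).restrictScalars A =
          (Submodule.span A (Set.range u)).map (maximalIdeal A).toCotangent := by
        rw [Submodule.map_span, ← Set.range_comp]
        exact Submodule.restrictScalars_span A (ResidueField A) Ideal.Quotient.mk_surjective _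
      rw [← Submodule.restrictScalars_mem A, e, Submodule.mem_map, hJ]
      constructor
      · rintro ⟨w, hw, hwz⟩
        rw [Ideal.toCotangent_eq] at hwz
        have h1 : (w : A) ∈ Ideal.span (Set.range fun i => (u i : A)) := by
          have := Submodule.mem_map_of_mem (f := (maximalIdeal A).subtype) hw
          rw [Submodule.map_span, ← Set.range_comp] at this
          exact this
        rw [show (z : A) = w + -((w : A) - z) by ring]
        exact Submodule.add_mem_sup h1 (Submodule.neg_mem _ hwz)
      · intro hz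
        obtain ⟨a, ha, b, hb, hab⟩ := Submodule.mem_sup.1 hz
        have ha' : a ∈ (Submodule.span A (Set.range u)).map (maximalIdeal A).subtype := by
          rw [Submodule.map_span, ← Set.range_comp]; exact ha
        obtain ⟨w, hw, rfl⟩ := ha'
        refine ⟨w, hw, (maximalIdeal A).toCotangent_eq.2 ?_⟩
        rw [← hab, Submodule.subtype_apply, sub_add_cancel_left]
        exact neg_mem hb
    obtain ⟨z, hz⟩ : ∃ z : maximalIdeal A, ((maximalIdeal A).toCotangent z : CotangentSpace A) ∉
        Submodule.span (ResidueField A) (Set.range fun i => ((maximalIdeal A).toCotangent (u i) : CotangentSpace A)) := by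
      by_contra hall
      push Not at hall
      have htop : Submodule.span (ResidueField A) (Set.range fun i => ((maximalIdeal A).toCotangent (u i) : CotangentSpace A)) = ⊤ :=
        eq_top_iff.2 fun w _ => by
          obtain ⟨z, rfl⟩ := (maximalIdeal A).toCotangent_surjective w
          exact hall z
      have := finrank_range_le_card (R := ResidueField A) (fun i => ((maximalIdeal A).toCotangent (u i) : CotangentSpace A))
      rw [Set.finrank, htop, finrank_top, hdim, Fintype.card_fin] at this
      omega
    obtain ⟨x, hx, hxJ, hxfix⟩ := exists_almost_fixed hG J hJst z.2 (fun h => hz ((hker z).2 h))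
    refine ⟨Fin.snoc u ⟨x, hx⟩, ?_, fun σ i => ?_⟩
    · have e : (fun i => ((maximalIdeal A).toCotangent ((Fin.snoc u ⟨x, hx⟩ : Fin (t + 1) → maximalIdeal A) i) : CotangentSpace A)) =
          Fin.snoc (fun i => ((maximalIdeal A).toCotangent (u i) : CotangentSpace A)) ((maximalIdeal A).toCotangent ⟨x, hx⟩) := by
        funext i
        refine Fin.lastCases ?_ (fun i => ?_) i <;> simp
      rw [e]
      exact linearIndependent_finSnoc.2 ⟨hli, fun h => hxJ ((hker _).1 h)⟩
    · refine Fin.lastCases ?_ (fun i => ?_) i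
      · rw [Fin.snoc_last]
        show σ • x ∈ _
        rw [show σ • x = (σ • x - x) + x by ring]
        refine add_mem (span_sup_mono _ ?_ (hxfix σ))
          (Submodule.mem_sup_left (Ideal.subset_span ⟨Fin.last t, by simp, by simp⟩))
        rintro _ ⟨l, rfl⟩
        exact ⟨l.castSucc, Fin.le_last _, by simp⟩
      · rw [Fin.snoc_castSucc]
        refine span_sup_mono _ ?_ (htri σ i)
        rintro _ ⟨l, hl, rfl⟩
        exact ⟨l.castSucc, Fin.castSucc_le_castSucc_iff.2 hl, by simp⟩

end Groth.L13.Wild
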