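import Groth.Agent.L13.Wild.InvTools
import Groth.Agent.L01.Regular
import Mathlib.RingTheory.MvPowerSeries.Expand
import Mathlib.RingTheory.Ideal.Height

/-! Frobenius-fixed classes in local cohomology vanish; trace values; heights of parameters. -/

set_option autoImplicit false
set_option linter.unusedSectionVars false

universe u v w

namespace Groth.L13.Wild.FrobDescent

open MvPowerSeries in
/-- a class in `H²` of two parameters fixed by Frobenius is zero -/
theorem mem_of_frobenius {k : Type v} [Field k] {σ : Type*} [DecidableEq σ] {p : ℕ} (hp : p.Prime) [CharP k p]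
    {i j : σ} (hij : i ≠ j) (M : ℕ) (r s t : MvPowerSeries σ k)
    (h : r ^ p - (X i ^ M * X j ^ M) ^ (p - 1) * r = (X i ^ M) ^ p * s + (X j ^ M) ^ p * t) :
    r ∈ Ideal.span {(X i : MvPowerSeries σ k) ^ M, X j ^ M} := by
  classical
  have : ExpChar k p := ExpChar.prime hp
  have key : ∀ N, ∀ α : σ →₀ ℕ, α i + α j = N → α i < M → α j < M → coeff α r = 0 := by
    intro N
    induction N using Nat.strong_induction_on with
    | _ N IH =>
      intro α hN hi hj
      have hc := congrArg (coeff (p • α)) h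
      have hpi : (p • α) i < M * p := by
        rw [Finsupp.smul_apply, smul_eq_mul, Nat.mul_comm]; exact Nat.mul_lt_mul_of_pos_right hi hp.pos
      have hpj : (p • α) j < M * p := by
        rw [Finsupp.smul_apply, smul_eq_mul, Nat.mul_comm]; exact Nat.mul_lt_mul_of_pos_right hj hp.pos
      have z1 : coeff (p • α) ((X i ^ M) ^ p * s) = 0 :=
        X_pow_dvd_iff.1 (by rw [← pow_mul]; exact dvd_mul_right _ _) _ hpi
      have z2 : coeff (p • α) ((X j ^ M) ^ p * t) = 0 :=
        X_pow_dvd_iff.1 (by rw [← pow_mul]; exact dvd_mul_right _ _) _ hpj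
      rw [map_sub, map_add, z1, z2, zero_add] at hc
      have z3 : coeff (p • α) ((X i ^ M * X j ^ M) ^ (p - 1) * r) = 0 := by
        rw [mul_pow, ← pow_mul, ← pow_mul, X_pow_eq, X_pow_eq, monomial_mul_monomial, one_mul, coeff_monomial_mul, one_mul]
        split_ifs with hle
        · have e1 : (p • α - (Finsupp.single i (M * (p - 1)) + Finsupp.single j (M * (p - 1)))) i = p * α i - M * (p - 1) := by
            simp [hij.symm]
          have e2 : (p • α - (Finsupp.single i (M * (p - 1)) + Finsupp.single j (M * (p - 1)))) j = p * α j - M * (p - 1) := by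
            simp [hij]
          have l1 := hle i
          have l2 := hle j
          simp [hij, hij.symm] at l1 l2
          obtain ⟨m, rfl⟩ : ∃ m, p = m + 2 := ⟨p - 2, by have := hp.two_le; omega⟩
          simp only [show m + 2 - 1 = m + 1 by omega] at *
          have b1 : (m + 1) * α i < (m + 1) * M := Nat.mul_lt_mul_of_pos_left hi (Nat.succ_pos _)
          have b2 : (m + 1) * α j < (m + 1) * M := Nat.mul_lt_mul_of_pos_left hj (Nat.succ_pos _)
          have c1 : (m + 2) * α i = (m + 1) * α i + α i := by ring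
          have c2 : (m + 2) * α j = (m + 1) * α j + α j := by ring
          have c3 : M * (m + 1) = (m + 1) * M := by ring
          refine IH _ ?_ _ rfl (by omega) (by omega)
          omega
        · rfl
      rw [z3, sub_zero] at hc
      rw [← map_frobenius_expand p hp.ne_zero, coeff_map, coeff_expand_smul, frobenius_def] at hc
      exact eq_zero_of_pow_eq_zero hc
  let r1 : MvPowerSeries σ k := fun α => if M ≤ α i then coeff α r else 0
  have hr1 : ∀ α, coeff α r1 = if M ≤ α i then coeff α r else 0 := fun α => rfl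
  obtain ⟨c1, hc1⟩ : (X i : MvPowerSeries σ k) ^ M ∣ r1 := X_pow_dvd_iff.2 fun α hα => by
    rw [hr1, if_neg (not_le.2 hα)]
  obtain ⟨c2, hc2⟩ : (X j : MvPowerSeries σ k) ^ M ∣ r - r1 := X_pow_dvd_iff.2 fun α hα => by
    rw [map_sub, hr1]
    split_ifs with hle
    · exact sub_self _
    · rw [sub_zero]; exact key _ α rfl (not_le.1 hle) hα
  exact Ideal.mem_span_pair.2 ⟨c1, c2, by rw [mul_comm c1, ← hc1, mul_comm c2, ← hc2]; ring⟩

section trace

open Groth.L13.Wild.Inv

variable {R : Type u} [CommRing R] {A : Type v} [CommRing A] [Algebra R A]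
  {H : Type w} [Group H] [Fintype H] [MulSemiringAction H A] [SMulCommClass H R A]

/-- where there is no inertia some trace does not vanish -/
theorem exists_trace_notMem [Module.Finite R A] (hcomm : ∀ g h : H, g * h = h * g)
    (hinj : Function.Injective (algebraMap R A)) (q : Ideal R) [q.IsPrime]
    (hI : ∀ P : Ideal A, P.IsPrime → P.comap (algebraMap R A) = q → P.inertia H = ⊥)
    (Q : Ideal A) [Q.IsPrime] (hQ : Q.comap (algebraMap R A) = q) :
    ∃ y : A, ∑ τ : H, τ • y ∉ Q := by
  classical
  by_contra hall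
  push Not at hall
  have key : ∀ σ : H, ∃ f : H → A, Tr (⊤ : Subalgebra R A) f ∧ (σ ≠ 1 → f σ = 0) ∧
      ∃ c ∉ q, f 1 = algebraMap R A c := by
    intro σ
    by_cases hσ : σ = 1
    · exact ⟨fun _ => 1, Tr.const trivial, fun h => absurd hσ h, 1,
        fun h => (inferInstance : q.IsPrime).ne_top ((Ideal.eq_top_iff_one q).2 h), (map_one _).symm⟩
    obtain ⟨f, hf, hfσ, c, hc, hf1⟩ := exists_tr (C := (⊤ : Subalgebra R A)) hcomm ⊥ ⊤
      (fun y => ⟨fun _ k hk => by rw [Subgroup.mem_bot.1 hk, one_smul], fun _ => trivial⟩) le_rfl q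
      ((RingHom.injective_iff_ker_eq_bot _).1 hinj) (fun P hP hPq => (hI P hP hPq).le) σ
      (fun h => hσ (Subgroup.mem_bot.1 h))
    exact ⟨f, hf, fun _ => hfσ, c, hc, hf1⟩
  choose f hf hf0 c hc hf1 using key
  have hsum : ∀ g : H → A, Tr (⊤ : Subalgebra R A) g → ∑ τ, g τ ∈ Q := by
    intro g hg
    induction hg with
    | @pair x y _ _ => rw [← Finset.mul_sum]; exact Q.mul_mem_left _ (hall y)
    | @add g g' _ _ h1 h2 =>
      simp only [Pi.add_apply, Finset.sum_add_distrib]
      exact add_mem h1 h2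
  have h1 := hsum _ (Tr.prod Finset.univ fun σ _ => hf σ)
  rw [Finset.sum_eq_single (1 : H), Finset.prod_apply, Finset.prod_congr rfl (fun σ _ => hf1 σ), ← map_prod,
    ← Ideal.mem_comap, hQ] at h1
  · obtain ⟨σ, -, hσ⟩ := (inferInstance : q.IsPrime).prod_mem_iff.1 h1
    exact hc σ hσ
  · intro τ _ hτ
    rw [Finset.prod_apply, Finset.prod_eq_zero (f := fun i => f i τ) (Finset.mem_univ τ) (hf0 τ hτ)]
  · intro h; exact absurd (Finset.mem_univ _) h

end trace

open IsLocalRing in
/-- two members of a regular system of parameters lie in no prime of height one -/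
theorem two_le_height {A : Type u} [CommRing A] [IsRegularLocalRing A] {n : ℕ} (hn : ringKrullDim A = n)
    (v : Fin n → A) (hv : Ideal.span (Set.range v) = maximalIdeal A) {i j : Fin n} (hij : i ≠ j)
    (q : Ideal A) [q.IsPrime] (hi : v i ∈ q) (hj : v j ∈ q) : 2 ≤ q.height := by
  classical
  have := Groth.L01.isDomain_of_regular A
  have hmem : ∀ l, v l ∈ maximalIdeal A := fun l => hv.le (Ideal.subset_span ⟨l, rfl⟩)
  have small : ∀ i, ¬ maximalIdeal A ≤ Ideal.span (v '' ({i}ᶜ : Set (Fin n))) := fun i h => by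
    have heq : maximalIdeal A = Ideal.span (v '' ({i}ᶜ : Set (Fin n))) := by
      refine le_antisymm h ?_
      rw [Ideal.span_le]
      rintro x ⟨l, -, rfl⟩
      exact hmem l
    have h2 := (isRegularLocalRing_iff A).1 ‹_›
    rw [hn] at h2
    have h3 : (maximalIdeal A).spanFinrank ≤ ({i}ᶜ : Set (Fin n)).ncard := by
      rw [heq]
      exact (Submodule.spanFinrank_span_le_ncard_of_finite ((Set.toFinite _).image v)).trans
        (Set.ncard_image_le (Set.toFinite _))
    rw [Set.ncard_compl, Set.ncard_singleton, Nat.card_eq_fintype_card, Fintype.card_fin] at h3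
    have h5 : (maximalIdeal A).spanFinrank = n := by exact_mod_cast h2
    have := i.pos
    omega
  have hsplit : ∀ i, maximalIdeal A ≤ Ideal.span (v '' ({i}ᶜ : Set (Fin n))) ⊔ Ideal.span {v i} := fun i => by
    rw [← hv, Ideal.span_le]
    rintro _ ⟨l, rfl⟩
    by_cases hl : l = i
    · exact le_sup_right (a := Ideal.span (v '' ({i}ᶜ : Set (Fin n)))) (hl ▸ Ideal.mem_span_singleton_self _)
    · exact le_sup_left (b := Ideal.span {v i}) (Ideal.subset_span ⟨l, hl, rfl⟩)
  have hi2 : v i ∉ maximalIdeal A ^ 2 := fun h => small i <| Groth.L01.maximalIdeal_le_of_le_sup_sq <|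
    (hsplit i).trans (sup_le_sup_left ((Ideal.span_singleton_le_iff_mem _).2 h) _)
  have := (Groth.L01.regular_quotient_of_notMem_sq (hmem i) hi2).1
  have := Groth.L01.isDomain_of_regular (A ⧸ Ideal.span {v i})
  have hP : (Ideal.span {v i}).IsPrime := (Ideal.Quotient.isDomain_iff_prime _).1 ‹_›
  have hlt : Ideal.span {v i} < q := by
    refine lt_of_le_of_ne ((Ideal.span_singleton_le_iff_mem _).2 hi) fun h => ?_
    refine small j ((hsplit j).trans (sup_le le_rfl ?_))
    rw [Ideal.span_singleton_le_iff_mem]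
    have hvj : v j ∈ Ideal.span {v i} := h ▸ hj
    exact Ideal.span_mono (s := {v i}) (t := v '' ({j}ᶜ : Set (Fin n))) (Set.singleton_subset_iff.2 ⟨i, hij, rfl⟩) hvj
  have hlt0 : (⊥ : Ideal A) < Ideal.span {v i} := bot_lt_iff_ne_bot.2 fun h => by
    rw [Ideal.span_singleton_eq_bot] at h
    exact hi2 (h ▸ zero_mem _)
  have : (⊥ : Ideal A).IsPrime := Ideal.isPrime_bot
  have h1 := Ideal.height_strict_mono_of_isPrime hlt0
  have h2 := Ideal.height_strict_mono_of_isPrime hlt
  rw [Ideal.height_bot] at h1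
  have h3 : 1 ≤ (Ideal.span {v i}).height := Order.one_le_iff_pos.2 h1
  exact (le_of_eq (by norm_num)).trans ((add_le_add h3 le_rfl).trans (Order.add_one_le_of_lt h2))

end Groth.L13.Wild.FrobDescent
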