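import Mathlib.GroupTheory.NoncommPiCoprod
import Mathlib.GroupTheory.Index
import Mathlib.SetTheory.Cardinal.Finite

/-! A commutative group of order `p^n` generated by `n` subgroups of order `p`. -/

set_option autoImplicit false

universe w

namespace Groth.L13.Wild.GroupCoord

variable {H : Type w} [Group H] [Finite H] {n p : ℕ}

theorem main (hcomm : ∀ g h : H, g * h = h * g) (hcard : Nat.card H = p ^ n) (Gi : Fin n → Subgroup H)
    (hGi : ∀ i, Nat.card (Gi i) = p) (hsup : (⨆ i, Gi i) = ⊤) :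
    (∀ i, Nat.card (⨆ j ∈ (Finset.univ.erase i : Finset (Fin n)), Gi j : Subgroup H) * p = p ^ n) ∧
    ∀ τ : H, (∀ i, τ ∈ (⨆ j ∈ (Finset.univ.erase i : Finset (Fin n)), Gi j : Subgroup H)) → τ = 1 := by
  classical
  have hc : Pairwise fun i j => ∀ x y : H, x ∈ Gi i → y ∈ Gi j → Commute x y := fun i j _ x y _ _ => hcomm x y
  let φ := Subgroup.noncommPiCoprod hc
  have hsurj : Function.Surjective φ := by
    rw [← MonoidHom.range_eq_top, Subgroup.noncommPiCoprod_range, hsup]
  have hbij : Function.Bijective φ := (Nat.bijective_iff_surjective_and_card φ).2 ⟨hsurj, by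
    rw [Nat.card_pi, hcard, Finset.prod_congr rfl (fun i _ => hGi i), Finset.prod_const, Finset.card_univ, Fintype.card_fin]⟩
  let e := MulEquiv.ofBijective φ hbij
  let π : ∀ i, H →* Gi i := fun i => (Pi.evalMonoidHom (fun j => Gi j) i).comp e.symm.toMonoidHom
  have hπ : ∀ i, (⨆ j ∈ (Finset.univ.erase i : Finset (Fin n)), Gi j : Subgroup H) ≤ (π i).ker := fun i => by
    refine iSup₂_le fun j hj x hx => ?_
    rw [MonoidHom.mem_ker]
    have h : e.symm x = Pi.mulSingle j ⟨x, hx⟩ := by
      rw [MulEquiv.symm_apply_eq]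
      exact (Subgroup.noncommPiCoprod_mulSingle (hcomm := hc) j ⟨x, hx⟩).symm
    show e.symm x i = 1
    rw [h, Pi.mulSingle_eq_of_ne (Finset.ne_of_mem_erase hj).symm]
  have hge : ∀ i, (π i).ker ≤ (⨆ j ∈ (Finset.univ.erase i : Finset (Fin n)), Gi j : Subgroup H) := fun i x hx => by
    have hx' : e.symm x i = 1 := hx
    rw [← e.apply_symm_apply x]
    show φ (e.symm x) ∈ _
    generalize e.symm x = g at hx'
    rw [show φ g = _ from Subgroup.noncommPiCoprod_apply hc g]
    refine Subgroup.noncommProd_mem _ _ fun j _ => ?_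
    by_cases hj : j = i
    · subst hj; rw [hx']; exact one_mem _
    · exact (le_iSup₂_of_le j (Finset.mem_erase.2 ⟨hj, Finset.mem_univ j⟩) le_rfl : Gi j ≤ _) (g j).2
  refine ⟨fun i => ?_, fun τ hτ => ?_⟩
  · rw [le_antisymm (hπ i) (hge i), ← hcard, ← hGi i]
    have hs : Function.Surjective (π i) := fun y => ⟨e (Pi.mulSingle i y), by
      show e.symm (e (Pi.mulSingle i y)) i = y
      rw [e.symm_apply_apply, Pi.mulSingle_eq_same]⟩
    have h := (π i).ker.card_mul_index
    rw [Subgroup.index_ker, MonoidHom.range_eq_top.2 hs, Subgroup.card_top] at h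
    exact h
  · apply e.symm.injective
    rw [map_one]
    funext i
    exact hπ i (hτ i)

end Groth.L13.Wild.GroupCoord
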