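import Groth.Agent.L07.OrderValuation
import Mathlib.RingTheory.Length
import Mathlib.Data.Nat.Choose.Cast
import Mathlib.Data.Sym.Card
import Mathlib.Algebra.Order.Antidiag.Pi
import Mathlib.Tactic

/-! Lengths modulo powers and products. -/

set_option autoImplicit false

noncomputable section

universe u

namespace Groth.L13.Wild

open MvPolynomial IsLocalRing

variable {A : Type u} [CommRing A]

theorem length_quot_antitone {I J : Ideal A} (h : I ≤ J) : Module.length A (A ⧸ J) ≤ Module.length A (A ⧸ I) :=
  Module.length_le_of_surjective (Submodule.factor h) (Submodule.factor_surjective h)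

theorem length_quot_mul_le (J : Ideal A) (a b : A) :
    Module.length A (A ⧸ (J ⊔ Ideal.span {a * b})) ≤
      Module.length A (A ⧸ (J ⊔ Ideal.span {a})) + Module.length A (A ⧸ (J ⊔ Ideal.span {b})) := by
  set K := J ⊔ Ideal.span {a * b} with hK
  have hle : K ≤ J ⊔ Ideal.span {a} :=
    sup_le_sup_left (Ideal.span_singleton_le_span_singleton.2 (dvd_mul_right a b)) J
  let π := Submodule.factor (R := A) hle
  have hπ : Function.Surjective π := Submodule.factor_surjective hle
  have h := Module.length_eq_add_of_exact (LinearMap.ker π).subtype π (Submodule.subtype_injective _) hπ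
    (LinearMap.exact_subtype_ker_map π)
  rw [h, add_comm]
  refine add_le_add le_rfl ?_
  -- multiplication by `a`
  let f : (A ⧸ (J ⊔ Ideal.span {b})) →ₗ[A] LinearMap.ker π :=
    LinearMap.codRestrict _ (Submodule.liftQ _ (K.mkQ.comp (LinearMap.mulLeft A a)) (by
      intro x hx
      obtain ⟨j, hj, s, hs, rfl⟩ := Submodule.mem_sup.1 hx
      obtain ⟨t, rfl⟩ := Ideal.mem_span_singleton'.1 hs
      rw [LinearMap.mem_ker, LinearMap.comp_apply, Submodule.mkQ_apply, Submodule.Quotient.mk_eq_zero,
        LinearMap.mulLeft_apply, mul_add]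
      exact Submodule.add_mem_sup (J.mul_mem_left a hj) (Ideal.mem_span_singleton'.2 ⟨t, by ring⟩))) fun x => by
      obtain ⟨x, rfl⟩ := Submodule.Quotient.mk_surjective _ x
      rw [LinearMap.mem_ker, Submodule.liftQ_apply, LinearMap.comp_apply, Submodule.mkQ_apply, LinearMap.mulLeft_apply]
      exact (Submodule.Quotient.mk_eq_zero _).2 (Submodule.mem_sup_right (Ideal.mem_span_singleton'.2 ⟨x, mul_comm _ _⟩))
  refine Module.length_le_of_surjective f ?_
  rintro ⟨y, hy⟩
  obtain ⟨x, rfl⟩ := Submodule.Quotient.mk_surjective _ y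
  rw [LinearMap.mem_ker] at hy
  have hx : x ∈ J ⊔ Ideal.span {a} := (Submodule.Quotient.mk_eq_zero _).1 hy
  obtain ⟨j, hj, s, hs, rfl⟩ := Submodule.mem_sup.1 hx
  obtain ⟨t, rfl⟩ := Ideal.mem_span_singleton'.1 hs
  refine ⟨Submodule.Quotient.mk t, Subtype.ext ?_⟩
  show K.mkQ (a * t) = Submodule.Quotient.mk (j + t * a)
  rw [Submodule.mkQ_apply, Submodule.Quotient.eq]
  exact Submodule.mem_sup_left (by rw [show a * t - (j + t * a) = -j by ring]; exact J.neg_mem hj)

theorem length_quot_prod_le (J : Ideal A) {ι : Type*} (s : Finset ι) (a : ι → A) {L : ℕ∞}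
    (h : ∀ i ∈ s, Module.length A (A ⧸ (J ⊔ Ideal.span {a i})) ≤ L) :
    Module.length A (A ⧸ (J ⊔ Ideal.span {∏ i ∈ s, a i})) ≤ s.card * L := by
  classical
  induction s using Finset.induction_on with
  | empty =>
    have htop : J ⊔ Ideal.span {(1 : A)} = ⊤ := by rw [Ideal.span_singleton_one, sup_top_eq]
    rw [Finset.prod_empty, htop]
    simp [Module.length_eq_zero]
  | insert i s hi ih =>
    rw [Finset.prod_insert hi, Finset.card_insert_of_notMem hi]
    refine (length_quot_mul_le J (a i) _).trans ?_
    rw [Nat.cast_succ, add_mul, one_mul, add_comm]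
    exact add_le_add (ih fun j hj => h j (Finset.mem_insert_of_mem hj)) (h i (Finset.mem_insert_self _ _))

theorem length_prod_le {G : Type*} [Fintype G] : ∀ (n : ℕ) (J : Ideal A) (a : Fin n → G → A) (L : ℕ∞),
    (∀ τ : Fin n → G, Module.length A (A ⧸ (J ⊔ Ideal.span (Set.range fun i => a i (τ i)))) ≤ L) →
      Module.length A (A ⧸ (J ⊔ Ideal.span (Set.range fun i => ∏ g, a i g))) ≤ (Fintype.card G ^ n : ℕ) * L
  | 0, J, a, L, h => by
    have := h Fin.elim0
    rw [Set.range_eq_empty] at this ⊢
    simpa using this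
  | n + 1, J, a, L, h => by
    have hr : ∀ f : Fin (n + 1) → A, Ideal.span (Set.range f) = Ideal.span {f 0} ⊔ Ideal.span (Set.range (f ∘ Fin.succ)) := by
      intro f
      rw [← Ideal.span_union]
      congr 1
      ext x
      simp [Fin.exists_fin_succ, eq_comm]
    rw [hr, ← sup_assoc, sup_right_comm, pow_succ', Nat.cast_mul, mul_assoc]
    refine (length_quot_prod_le _ Finset.univ (fun g => a 0 g) fun g _ => ?_).trans (by rw [Finset.card_univ])
    rw [sup_right_comm]
    refine length_prod_le n _ (fun i => a i.succ) L fun τ => ?_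
    have := h (Fin.cons g τ : Fin (n + 1) → G)
    rw [hr, ← sup_assoc] at this
    have e : (fun i => a i ((Fin.cons g τ : Fin (n + 1) → G) i)) ∘ Fin.succ = fun i => a i.succ (τ i) := funext fun i => by simp
    rw [e, Fin.cons_zero] at this
    exact this

instance antidiagFintype (n j : ℕ) : Fintype {d : Fin n → ℕ // ∑ i, d i = j} :=
  Fintype.ofEquiv (Sym (Fin n) j) (Sym.equivNatSumOfFintype (Fin n) j)

theorem finsupp_antidiag_card (n j : ℕ) :
    Fintype.card {d : Fin n → ℕ // ∑ i, d i = j} = (n + j - 1).choose j := by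
  rw [Fintype.card_congr (Sym.equivNatSumOfFintype (Fin n) j).symm, Sym.card_sym_eq_choose, Fintype.card_fin]

theorem span_pow_eq {n : ℕ} (x : Fin n → A) (j : ℕ) :
    Ideal.span (Set.range x) ^ j = Ideal.span (Set.range fun d : {d : Fin n → ℕ // ∑ i, d i = j} => ∏ i, x i ^ d.1 i) := by
  induction j with
  | zero =>
    rw [pow_zero, Ideal.one_eq_top, eq_comm, Ideal.eq_top_iff_one]
    exact Ideal.subset_span ⟨⟨0, by simp⟩, by simp⟩
  | succ j ih =>
    refine le_antisymm ?_ (Ideal.span_le.2 ?_)
    · rw [pow_succ, ih, Ideal.span_mul_span', Ideal.span_le]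
      rintro _ ⟨_, ⟨d, rfl⟩, _, ⟨l, rfl⟩, rfl⟩
      refine Ideal.subset_span ⟨⟨Function.update d.1 l (d.1 l + 1), ?_⟩, ?_⟩
      · rw [Finset.sum_update_of_mem (Finset.mem_univ l)]
        have := d.2
        rw [Finset.sum_eq_add_sum_sdiff_singleton_of_mem (Finset.mem_univ l) d.1] at this
        omega
      · simp only
        rw [← Finset.mul_prod_erase _ _ (Finset.mem_univ l), Function.update_self, pow_succ,
          ← Finset.mul_prod_erase _ (fun i => x i ^ d.1 i) (Finset.mem_univ l)]
        have : ∀ i ∈ Finset.univ.erase l, x i ^ Function.update d.1 l (d.1 l + 1) i = x i ^ d.1 i := fun i hi => by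
          rw [Function.update_of_ne (Finset.ne_of_mem_erase hi)]
        rw [Finset.prod_congr rfl this]
        ring
    · rintro _ ⟨d, rfl⟩
      have : ∀ (s : Finset (Fin n)), ∏ i ∈ s, x i ^ d.1 i ∈ Ideal.span (Set.range x) ^ ∑ i ∈ s, d.1 i := by
        intro s
        classical
        induction s using Finset.induction_on with
        | empty => simp
        | insert i s hi ih' =>
          rw [Finset.prod_insert hi, Finset.sum_insert hi, pow_add]
          exact Ideal.mul_mem_mul (Ideal.pow_mem_pow (Ideal.subset_span (Set.mem_range_self i)) _) ih'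
      have h := this Finset.univ
      rwa [d.2] at h

theorem length_quot_pow_le {n : ℕ} (x : Fin n → A) (j : ℕ) :
    Module.length A (A ⧸ Ideal.span (Set.range x) ^ j) ≤
      (∑ t ∈ Finset.range j, (n + t - 1).choose t : ℕ) * Module.length A (A ⧸ Ideal.span (Set.range x)) := by
  set I := Ideal.span (Set.range x) with hI
  induction j with
  | zero => simp [Module.length_eq_zero_iff, Ideal.one_eq_top, Submodule.Quotient.subsingleton_iff]
  | succ j ih =>
    have hle : I ^ (j + 1) ≤ I ^ j := Ideal.pow_le_pow_right (Nat.le_succ j)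
    let π := Submodule.factor (R := A) hle
    rw [Module.length_eq_add_of_exact (LinearMap.ker π).subtype π (Submodule.subtype_injective _)
      (Submodule.factor_surjective hle) (LinearMap.exact_subtype_ker_map π), Finset.sum_range_succ, Nat.cast_add,
      add_mul, add_comm]
    refine add_le_add ih ?_
    let M := {d : Fin n → ℕ // ∑ i, d i = j}
    let e : M → A := fun d => ∏ i, x i ^ d.1 i
    have hker : ∀ d : M, I ≤ LinearMap.ker ((I ^ (j + 1)).mkQ.comp (LinearMap.mulLeft A (e d))) := fun d y hy => by
      rw [LinearMap.mem_ker, LinearMap.comp_apply, Submodule.mkQ_apply, Submodule.Quotient.mk_eq_zero,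
        LinearMap.mulLeft_apply, pow_succ]
      refine Ideal.mul_mem_mul ?_ hy
      rw [hI, span_pow_eq]
      exact Ideal.subset_span ⟨d, rfl⟩
    let g : M → ((A ⧸ I) →ₗ[A] (A ⧸ I ^ (j + 1))) := fun d => Submodule.liftQ _ _ (hker d)
    have hg : ∀ (d : M) (c : A), g d (Submodule.Quotient.mk c) = Submodule.Quotient.mk (e d * c) := fun d c => rfl
    let f : (M → A ⧸ I) →ₗ[A] LinearMap.ker π := LinearMap.codRestrict _ (∑ d, (g d).comp (LinearMap.proj d)) fun y => by
      rw [LinearMap.mem_ker, LinearMap.sum_apply, map_sum]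
      refine Finset.sum_eq_zero fun d _ => ?_
      obtain ⟨c, hc⟩ := Submodule.Quotient.mk_surjective I (y d)
      rw [LinearMap.comp_apply, LinearMap.proj_apply, ← hc, hg]
      refine (Submodule.Quotient.mk_eq_zero _).2 (Ideal.mul_mem_right _ _ ?_)
      rw [hI, span_pow_eq]
      exact Ideal.subset_span ⟨d, rfl⟩
    refine (Module.length_le_of_surjective f ?_).trans (le_of_eq ?_)
    · rintro ⟨y, hy⟩
      obtain ⟨a, rfl⟩ := Submodule.Quotient.mk_surjective _ y
      have ha : a ∈ I ^ j := (Submodule.Quotient.mk_eq_zero _).1 (LinearMap.mem_ker.1 hy)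
      rw [hI, span_pow_eq, Ideal.span, Submodule.mem_span_range_iff_exists_fun] at ha
      obtain ⟨c, hc⟩ := ha
      refine ⟨fun d => Submodule.Quotient.mk (c d), Subtype.ext ?_⟩
      show (∑ d, (g d).comp (LinearMap.proj d)) (fun d => Submodule.Quotient.mk (c d)) = (Submodule.Quotient.mk a : A ⧸ I ^ (j + 1))
      rw [LinearMap.sum_apply, ← hc, ← Submodule.mkQ_apply, map_sum]
      refine Finset.sum_congr rfl fun d _ => ?_
      rw [LinearMap.comp_apply, LinearMap.proj_apply, hg, Submodule.mkQ_apply, smul_eq_mul, mul_comm]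
    · rw [Module.length_pi_of_fintype, Finset.sum_const, Finset.card_univ, finsupp_antidiag_card, nsmul_eq_mul]

theorem sum_choose (n j : ℕ) (hn : 0 < n) : ∑ t ∈ Finset.range (j + 1), (n + t - 1).choose t = (n + j).choose n := by
  induction j with
  | zero => simp
  | succ j ih =>
    obtain ⟨n, rfl⟩ : ∃ m, n = m + 1 := ⟨n - 1, by omega⟩
    rw [Finset.sum_range_succ, ih, show n + 1 + (j + 1) = (n + 1 + j) + 1 by ring, Nat.choose_succ_succ' (n + 1 + j) n,
      show n + 1 + j + 1 - 1 = n + (j + 1) by omega, add_comm, show n + (j + 1) = n + 1 + j by ring]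
    congr 1
    exact Nat.choose_symm_of_eq_add (by ring)

theorem length_quot_maximalIdeal_pow [IsRegularLocalRing A] {n : ℕ} (hn : ringKrullDim A = n) (j : ℕ) :
    (∑ t ∈ Finset.range j, (n + t - 1).choose t : ℕ) ≤ Module.length A (A ⧸ maximalIdeal A ^ j) := by
  obtain ⟨d, x, hd, hx, hq⟩ := Groth.L07.Order.exists_regular_parameters A
  obtain rfl : d = n := by exact_mod_cast hd.symm.trans hn
  induction j with
  | zero => simp
  | succ j ih =>
    have hle : maximalIdeal A ^ (j + 1) ≤ maximalIdeal A ^ j := Ideal.pow_le_pow_right (Nat.le_succ j)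
    let π := Submodule.factor (R := A) hle
    rw [Module.length_eq_add_of_exact (LinearMap.ker π).subtype π (Submodule.subtype_injective _)
      (Submodule.factor_surjective hle) (LinearMap.exact_subtype_ker_map π), Finset.sum_range_succ, Nat.cast_add,
      add_comm (Module.length A (LinearMap.ker π))]
    refine add_le_add ih ?_
    let M := {e : Fin d → ℕ // ∑ i, e i = j}
    have hmem : ∀ e : M, ∏ i, x i ^ e.1 i ∈ maximalIdeal A ^ j := fun e => by
      rw [← hx, span_pow_eq]; exact Ideal.subset_span ⟨e, rfl⟩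
    let f : (M → A) →ₗ[A] LinearMap.ker π :=
      LinearMap.codRestrict _ ((maximalIdeal A ^ (j + 1)).mkQ.comp (Fintype.linearCombination A fun e : M => ∏ i, x i ^ e.1 i)) fun y => by
        rw [LinearMap.mem_ker, LinearMap.comp_apply, Fintype.linearCombination_apply]
        exact (Submodule.Quotient.mk_eq_zero _).2 (sum_mem fun e _ => Ideal.mul_mem_left _ _ (hmem e))
    let q : (M → A) →ₗ[A] (M → A ⧸ maximalIdeal A) := LinearMap.pi fun e => (maximalIdeal A).mkQ.comp (LinearMap.proj e)
    have hkq : LinearMap.ker f ≤ LinearMap.ker q := by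
      intro y hy
      rw [LinearMap.mem_ker] at hy ⊢
      have hy' : ∑ e : M, y e * ∏ i, x i ^ e.1 i ∈ maximalIdeal A ^ (j + 1) :=
        (Submodule.Quotient.mk_eq_zero _).1 (congrArg Subtype.val hy)
      classical
      let P : MvPolynomial (Fin d) A := ∑ e : M, monomial (Finsupp.equivFunOnFinite.symm e.1) (y e)
      have hP : P.IsHomogeneous j := IsHomogeneous.sum _ _ _ fun e _ => isHomogeneous_monomial _ (by
        rw [Finsupp.degree_eq_sum]; simpa using e.2)
      have hev : eval x P = ∑ e : M, y e * ∏ i, x i ^ e.1 i := by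
        simp only [P, map_sum, eval_monomial]
        refine Finset.sum_congr rfl fun e _ => ?_
        rw [Finsupp.prod_fintype _ _ (fun i => pow_zero _)]
        simp
      funext e
      have hc : P.coeff (Finsupp.equivFunOnFinite.symm e.1) ∈ Ideal.span (Set.range x) :=
        hq j P hP (by rw [hev, hx]; exact hy') _
      have hco : P.coeff (Finsupp.equivFunOnFinite.symm e.1) = y e := by
        simp only [P, coeff_sum, coeff_monomial]
        rw [Finset.sum_eq_single e]
        · simp
        · intro b _ hb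
          rw [if_neg]
          exact fun h => hb (Subtype.ext (Finsupp.equivFunOnFinite.symm.injective h))
        · intro h; exact absurd (Finset.mem_univ e) h
      show Submodule.Quotient.mk (y e) = 0
      rw [Submodule.Quotient.mk_eq_zero, ← hco, ← hx]
      exact hc
    have hqs : Function.Surjective q := fun z => by
      choose c hc using fun e => Submodule.Quotient.mk_surjective (maximalIdeal A) (z e)
      exact ⟨c, funext hc⟩
    have hsimp : Module.length A (A ⧸ maximalIdeal A) = 1 := by
      rw [Module.length_eq_one_iff]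
      exact isSimpleModule_iff_isCoatom.2 (Ideal.isMaximal_def.1 (maximalIdeal.isMaximal A))
    calc (((d + j - 1).choose j : ℕ) : ℕ∞) = Module.length A (M → A ⧸ maximalIdeal A) := by
          rw [Module.length_pi_of_fintype, hsimp, Finset.sum_const, Finset.card_univ, finsupp_antidiag_card, nsmul_eq_mul,
            mul_one]
      _ ≤ Module.length A (LinearMap.range f) :=
        Module.length_le_of_surjective ((LinearMap.ker f).liftQ q hkq ∘ₗ f.quotKerEquivRange.symm.toLinearMap) (by
          intro z
          obtain ⟨c, rfl⟩ := hqs z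
          exact ⟨f.quotKerEquivRange (Submodule.Quotient.mk c), by simp⟩)
      _ ≤ _ := Module.length_le_of_injective _ (Submodule.subtype_injective _)

theorem pow_le_of_choose_le {n g L : ℕ} (hg : 0 < g) (h : ∀ j, (n + g * j).choose n ≤ L * (n + j).choose n) : g ^ n ≤ L := by
  by_contra hlt
  push Not at hlt
  set j := (L + 1) * (n + 1) * (n + 1) with hj
  have h1 := h j
  have lo : (g * j) ^ n ≤ n.factorial * (n + g * j).choose n := by
    have h2 := Nat.ascFactorial_eq_factorial_mul_choose (g * j) n
    rw [show n + g * j = g * j + n by ring, ← h2]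
    exact (Nat.pow_le_pow_left (Nat.le_succ _) n).trans (Nat.pow_succ_le_ascFactorial _ _)
  have hi : n.factorial * (n + j).choose n ≤ (j + n) ^ n := by
    rw [show n + j = j + n by ring, ← Nat.ascFactorial_eq_factorial_mul_choose j n]
    exact Nat.ascFactorial_le_pow_add _ _
  have h3 : (L + 1) * j ^ n ≤ L * (j + n) ^ n := by
    calc (L + 1) * j ^ n ≤ g ^ n * j ^ n := Nat.mul_le_mul_right _ hlt
      _ = (g * j) ^ n := (mul_pow g j n).symm
      _ ≤ n.factorial * (L * (n + j).choose n) := lo.trans (Nat.mul_le_mul_left _ h1)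
      _ = L * (n.factorial * (n + j).choose n) := by ring
      _ ≤ L * (j + n) ^ n := Nat.mul_le_mul_left _ hi
  have hjR : (0 : ℝ) < (j : ℝ) + n := by positivity
  have h4 : 1 - (n : ℝ) * n / (j + n) ≤ ((j : ℝ) / (j + n)) ^ n := by
    have hb := one_add_mul_le_pow (a := -((n : ℝ) / (j + n))) (by
      have : (n : ℝ) / (j + n) ≤ 1 := (div_le_one hjR).2 (by simp)
      linarith) n
    have e : 1 + -((n : ℝ) / (j + n)) = (j : ℝ) / (j + n) := by field_simp; ring
    rw [e] at hb
    rw [mul_div_assoc]
    linarith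
  have h5 : ((L : ℝ) + 1) * ((j : ℝ) / (j + n)) ^ n ≤ L := by
    rw [div_pow, mul_div_assoc', div_le_iff₀ (by positivity)]
    exact_mod_cast h3
  have h6 : ((L : ℝ) + 1) * (n * n) / (j + n) < 1 := by
    rw [div_lt_one hjR, hj]
    push_cast
    nlinarith
  have h7 : ((L : ℝ) + 1) * (1 - (n : ℝ) * n / (j + n)) ≤ L :=
    (mul_le_mul_of_nonneg_left h4 (by positivity)).trans h5
  rw [mul_sub, mul_div_assoc'] at h7
  linarith

theorem pow_le_length [IsRegularLocalRing A] {n : ℕ} (hn : ringKrullDim A = n) {g : ℕ} (hg : 0 < g) (a : Fin n → A)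
    (ha : Ideal.span (Set.range a) ≤ maximalIdeal A ^ g) :
    ((g ^ n : ℕ) : ℕ∞) ≤ Module.length A (A ⧸ Ideal.span (Set.range a)) := by
  rcases Nat.eq_zero_or_pos n with rfl | hn0
  · rw [pow_zero, Nat.cast_one, ENat.one_le_iff_ne_zero, Ne, Module.length_eq_zero_iff]
    intro h
    rw [Submodule.Quotient.subsingleton_iff, Set.range_eq_empty, Ideal.span_empty] at h
    exact bot_ne_top h
  generalize hL : Module.length A (A ⧸ Ideal.span (Set.range a)) = L
  cases L with
  | top => exact le_top
  | coe L =>
    rw [Nat.cast_le]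
    refine pow_le_of_choose_le hg fun j => ?_
    have h1 := (length_quot_maximalIdeal_pow hn (g * j + 1)).trans
      ((length_quot_antitone ((pow_le_pow_left' ha (j + 1)).trans (by
        rw [← pow_mul]; exact Ideal.pow_le_pow_right (by rw [mul_add, mul_one]; omega)))).trans
        (length_quot_pow_le a (j + 1)))
    rw [hL, sum_choose n _ hn0, sum_choose n _ hn0, ← Nat.cast_mul, Nat.cast_le] at h1
    linarith

end Groth.L13.Wild
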