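import Groth.Agent.L13.Wild.MRBasis
import Mathlib.RingTheory.Finiteness.Basic
import Mathlib.RingTheory.MvPolynomial.Tower
import Mathlib.Algebra.CharP.Lemmas
import Mathlib.FieldTheory.Finite.Basic

/-! The algebra `R[u_i]/(u_i^p - b_i^(p-1) u_i - c_i)`. -/

set_option autoImplicit false
set_option linter.unusedSectionVars false

noncomputable section

namespace Groth.L13.Wild.MR

open MvPolynomial

variable {R : Type*} [CommRing R] {ι : Type*}

/-- the relations -/
abbrev rels (p : ℕ) (b c : ι → R) : Ideal (MvPolynomial ι R) :=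
  Ideal.span (Set.range fun i => X i ^ p - C (b i ^ (p - 1)) * X i - C (c i))

abbrev Alg (p : ℕ) (b c : ι → R) := MvPolynomial ι R ⧸ rels p b c

def poly (p : ℕ) (b c : ι → R) (i : ι) : Polynomial R :=
  Polynomial.X ^ p - Polynomial.C (b i ^ (p - 1)) * Polynomial.X - Polynomial.C (c i)

variable {p : ℕ} (b c : ι → R)

abbrev U (i : ι) : Alg p b c := Ideal.Quotient.mk _ (X i)

theorem poly_monic [Nontrivial R] (hp : 1 < p) (i : ι) : (poly p b c i).Monic := by
  rw [poly, sub_sub]
  refine Polynomial.monic_X_pow_sub (lt_of_le_of_lt (Polynomial.degree_linear_le) ?_)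
  exact_mod_cast hp

theorem poly_natDegree [Nontrivial R] (hp : 1 < p) (i : ι) : (poly p b c i).natDegree = p := by
  refine Polynomial.natDegree_eq_of_degree_eq_some ?_
  rw [poly, sub_sub, Polynomial.degree_sub_eq_left_of_degree_lt, Polynomial.degree_X_pow]
  rw [Polynomial.degree_X_pow]
  refine lt_of_le_of_lt (Polynomial.degree_linear_le) ?_
  exact_mod_cast hp

theorem aeval_poly {A : Type*} [CommRing A] [Algebra R A] (i : ι) (a : A) :
    Polynomial.aeval a (poly p b c i) = a ^ p - algebraMap R A (b i ^ (p - 1)) * a - algebraMap R A (c i) := by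
  simp [poly]

theorem relIdeal_poly : relIdeal (poly p b c) = rels p b c := by
  rw [relIdeal]
  simp only [aeval_poly, algebraMap_eq]

theorem U_pow (i : ι) :
    U b c i ^ p = algebraMap R (Alg p b c) (b i ^ (p - 1)) * U b c i + algebraMap R (Alg p b c) (c i) := by
  have h : Ideal.Quotient.mk (rels p b c) (X i ^ p - C (b i ^ (p - 1)) * X i - C (c i)) = 0 :=
    Ideal.Quotient.eq_zero_iff_mem.2 (Ideal.subset_span ⟨i, rfl⟩)
  rw [map_sub, map_sub, map_mul, map_pow, sub_sub, sub_eq_zero] at h
  exact h

theorem adjoin_U : Algebra.adjoin R (Set.range (U (p := p) b c)) = ⊤ := by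
  have hr : Set.range (U (p := p) b c) = Ideal.Quotient.mkₐ R (rels p b c) '' Set.range X := by
    rw [← Set.range_comp]; rfl
  rw [hr, ← AlgHom.map_adjoin, adjoin_range_X, Algebra.map_top, AlgHom.range_eq_top]
  exact Ideal.Quotient.mkₐ_surjective R _

theorem hom_ext {A : Type*} [CommRing A] [Algebra R A] {f g : Alg p b c →ₐ[R] A}
    (h : ∀ i, f (U b c i) = g (U b c i)) : f = g :=
  Ideal.Quotient.algHom_ext R (MvPolynomial.algHom_ext h)

theorem sub_mem_of_shift (σ : Alg p b c →ₐ[R] Alg p b c) (K : Ideal R) {d : ι → R} (hd : ∀ i, d i ∈ K)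
    (hσ : ∀ i, σ (U b c i) = U b c i + algebraMap R (Alg p b c) (d i)) (t : Alg p b c) :
    σ t - t ∈ K.map (algebraMap R (Alg p b c)) := by
  have h : (Ideal.Quotient.mkₐ R (K.map (algebraMap R (Alg p b c)))).comp σ =
      Ideal.Quotient.mkₐ R (K.map (algebraMap R (Alg p b c))) := by
    refine hom_ext (A := Alg p b c ⧸ K.map (algebraMap R (Alg p b c))) b c fun i => ?_
    rw [AlgHom.comp_apply, hσ, map_add, add_eq_left, Ideal.Quotient.mkₐ_eq_mk]
    exact Ideal.Quotient.eq_zero_iff_mem.2 (Ideal.mem_map_of_mem _ (hd i))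
  exact (Ideal.Quotient.mk_eq_mk_iff_sub_mem _ _).1 (AlgHom.congr_fun h t)

section lift
variable {A : Type*} [CommRing A] [Algebra R A] (v : ι → A)
  (h : ∀ i, v i ^ p = algebraMap R A (b i ^ (p - 1)) * v i + algebraMap R A (c i))

def lift : Alg p b c →ₐ[R] A :=
  Ideal.Quotient.liftₐ _ (aeval v) (by
    intro t ht
    refine (RingHom.mem_ker (f := (aeval v : MvPolynomial ι R →ₐ[R] A))).1 (Ideal.span_le.2 ?_ ht)
    rintro _ ⟨i, rfl⟩
    rw [SetLike.mem_coe, RingHom.mem_ker]
    simp only [map_sub, map_pow, map_mul, aeval_X, aeval_C]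
    rw [h i, map_pow]; ring)

theorem lift_U (i : ι) : lift b c v h (U b c i) = v i := by
  show (aeval v : MvPolynomial ι R →ₐ[R] A) (X i) = v i
  exact aeval_X _ _

end lift

variable [Fintype ι] [DecidableEq ι] [Nontrivial R] [hp : Fact p.Prime]

/-- the monomial basis -/
def basis : Module.Basis (ι → Fin p) R (Alg p b c) :=
  (Wild.basis (poly p b c) (poly_monic b c hp.out.one_lt) (poly_natDegree b c hp.out.one_lt) hp.out.pos).map
    (Ideal.quotientEquivAlgOfEq R (relIdeal_poly b c)).toLinearEquiv

theorem basis_apply (e : ι → Fin p) : basis b c e = ∏ i, U b c i ^ (e i : ℕ) := by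
  rw [basis, Module.Basis.map_apply, Wild.basis_apply]
  show Ideal.quotientEquivAlgOfEq R (relIdeal_poly b c) _ = _
  rw [map_prod]
  simp [uu]

theorem basis_zero : basis b c (0 : ι → Fin p) = 1 := by simp [basis_apply]

theorem moduleFree : Module.Free R (Alg p b c) := Module.Free.of_basis (basis b c)

theorem moduleFinite : Module.Finite R (Alg p b c) := Module.Finite.of_basis (basis b c)

theorem finrank_eq : Module.finrank R (Alg p b c) = p ^ Fintype.card ι := by
  rw [Module.finrank_eq_card_basis (basis b c)]; simp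

theorem algebraMap_injective : Function.Injective (algebraMap R (Alg p b c)) := by
  intro r s h
  have h2 := congrArg (fun t => (basis b c).repr t 0) h
  simp only [Algebra.algebraMap_eq_smul_one, ← basis_zero, map_smul, Module.Basis.repr_self] at h2
  simpa using h2

instance nontrivial : Nontrivial (Alg p b c) := (algebraMap_injective b c).nontrivial

instance charP [CharP R p] : CharP (Alg p b c) p := charP_of_injective_algebraMap (algebraMap_injective b c) p

/-- coordinates of a product of polynomials in the separate variables -/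
theorem repr_prod_aeval (g : ι → Polynomial R) (e : ι → Fin p) :
    (basis b c).repr (∏ i, Polynomial.aeval (U b c i) (g i)) e = ∏ i, (g i %ₘ poly p b c i).coeff (e i) := by
  have key : ∀ i, Polynomial.aeval (U (p := p) b c i) (g i) =
      ∑ k : Fin p, (g i %ₘ poly p b c i).coeff k • U b c i ^ (k : ℕ) := fun i => by
    rw [← sum_coeff_smul _ (natDegree_modByMonic_lt' _ (poly_monic b c hp.out.one_lt) (poly_natDegree b c hp.out.one_lt) hp.out.pos i _),
      Polynomial.aeval_modByMonic_eq_self_of_root]
    rw [aeval_poly, sub_sub, sub_eq_zero]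
    exact U_pow b c i
  rw [Finset.prod_congr rfl (fun i _ => key i), Fintype.prod_sum]
  have h2 : ∀ x : ι → Fin p, (∏ i, (g i %ₘ poly p b c i).coeff (x i) • U (p := p) b c i ^ (x i : ℕ)) =
      (∏ i, (g i %ₘ poly p b c i).coeff (x i)) • basis b c x := fun x => by
    rw [basis_apply]
    refine Eq.trans ?_ (Algebra.smul_def (R := R) (A := Alg p b c) _ _).symm
    rw [map_prod, ← Finset.prod_mul_distrib]
    exact Finset.prod_congr rfl fun i _ => (Algebra.smul_def (R := R) (A := Alg p b c) _ _)
  rw [Finset.sum_congr rfl (fun x _ => h2 x), map_sum, Finsupp.finsetSum_apply, Finset.sum_eq_single e]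
  · simp
  · intro x _ hx
    simp [hx]
  · intro h; exact absurd (Finset.mem_univ e) h

end Groth.L13.Wild.MR

namespace Groth.L13.Wild

open Polynomial

variable {A : Type*} [CommRing A] [IsDomain A] (p : ℕ) [hp : Fact p.Prime] [CharP A p]

/-- If `Q(u + jβ)` is constant in `j ∈ F_p` and `deg Q < p`, then `Q` is constant. -/
theorem eq_C_of_shift (β : A) (hβ : β ≠ 0) (u t : A) (Q : Polynomial A) (hQ : Q.natDegree < p)
    (h : ∀ j : ℕ, Q.eval (u + j * β) = t) : Q = C t := by
  rw [← sub_eq_zero]
  refine Polynomial.eq_zero_of_natDegree_lt_card_of_eval_eq_zero _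
    (f := fun j : Fin p => u + (j : ℕ) * β) ?_ (fun j => by simp [h]) ?_
  · intro i j hij
    simp only [add_right_inj] at hij
    exact Fin.ext (CharP.natCast_injOn_Iio A p i.2 j.2 (mul_right_cancel₀ hβ hij))
  · rw [Polynomial.natDegree_sub_C, Fintype.card_fin]
    exact hQ

theorem pow_map_shift {σ : A →+* A} {u β : A} (hu : σ u = u + β) (hβ : σ β = β) (j : ℕ) :
    σ^[j] u = u + j * β := by
  induction j with
  | zero => simp
  | succ j ih =>
    rw [Function.iterate_succ_apply', ih, map_add, map_mul, map_natCast, hu, hβ]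
    push_cast
    ring

end Groth.L13.Wild
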