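import Groth.Agent.L13.Wild.MR
import Mathlib.LinearAlgebra.Determinant
import Mathlib.LinearAlgebra.Matrix.Nondegenerate

/-! Shifts, invariants and minor elements of the algebra `R[u_i]/(u_i^p - b_i^(p-1) u_i - c_i)`. -/

set_option autoImplicit false
set_option linter.unusedSectionVars false

noncomputable section

namespace Groth.L13.Wild

section generic

variable {R A : Type*} [CommRing R] [CommRing A] [Algebra R A]

theorem exists_poly_of_mem_adjoin_insert {S : Set A} {u t : A} (ht : t ∈ Algebra.adjoin R (insert u S)) :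
    ∃ P : Polynomial (Algebra.adjoin R S), Polynomial.aeval u P = t := by
  induction ht using Algebra.adjoin_induction with
  | mem x hx =>
    rcases hx with rfl | hx
    · exact ⟨Polynomial.X, Polynomial.aeval_X _⟩
    · exact ⟨Polynomial.C ⟨x, Algebra.subset_adjoin hx⟩, Polynomial.aeval_C _ _⟩
  | algebraMap r => exact ⟨Polynomial.C ⟨algebraMap R A r, Subalgebra.algebraMap_mem _ r⟩, Polynomial.aeval_C _ _⟩
  | add x y _ _ hx hy =>
    obtain ⟨P, rfl⟩ := hx; obtain ⟨Q, rfl⟩ := hy
    exact ⟨P + Q, map_add _ _ _⟩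
  | mul x y _ _ hx hy =>
    obtain ⟨P, rfl⟩ := hx; obtain ⟨Q, rfl⟩ := hy
    exact ⟨P * Q, map_mul _ _ _⟩

theorem exists_reduced_poly [Nontrivial A] {p : ℕ} (hp : 1 < p) {S : Set A} {u t : A} {g h : R}
    (hrel : u ^ p = algebraMap R A g * u + algebraMap R A h) (ht : t ∈ Algebra.adjoin R (insert u S)) :
    ∃ P : Polynomial (Algebra.adjoin R S), P.natDegree < p ∧ Polynomial.aeval u P = t := by
  obtain ⟨P, rfl⟩ := exists_poly_of_mem_adjoin_insert ht
  let g' : Algebra.adjoin R S := algebraMap R _ g
  let h' : Algebra.adjoin R S := algebraMap R _ h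
  have : Nontrivial (Algebra.adjoin R S) := inferInstance
  have hdeg : (Polynomial.C g' * Polynomial.X + Polynomial.C h').degree < (p : WithBot ℕ) :=
    lt_of_le_of_lt Polynomial.degree_linear_le (by exact_mod_cast hp)
  have hm : (Polynomial.X ^ p - (Polynomial.C g' * Polynomial.X + Polynomial.C h')).Monic :=
    Polynomial.monic_X_pow_sub hdeg
  have hnd : (Polynomial.X ^ p - (Polynomial.C g' * Polynomial.X + Polynomial.C h')).natDegree = p := by
    refine Polynomial.natDegree_eq_of_degree_eq_some ?_
    rw [Polynomial.degree_sub_eq_left_of_degree_lt (by rwa [Polynomial.degree_X_pow]), Polynomial.degree_X_pow]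
  refine ⟨P %ₘ (Polynomial.X ^ p - (Polynomial.C g' * Polynomial.X + Polynomial.C h')), ?_, ?_⟩
  · refine (Polynomial.natDegree_modByMonic_lt _ hm fun h => ?_).trans_eq hnd
    rw [h, Polynomial.natDegree_one] at hnd
    omega
  · refine Polynomial.aeval_modByMonic_eq_self_of_root ?_
    rw [map_sub, map_pow, Polynomial.aeval_X, hrel, map_add, map_mul, Polynomial.aeval_C, Polynomial.aeval_C,
      Polynomial.aeval_X]
    exact sub_self _

theorem mem_adjoin_of_fixed [IsDomain A] (p : ℕ) [hp : Fact p.Prime] [CharP A p] (σ : A →ₐ[R] A) {S : Set A}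
    (hS : ∀ x ∈ S, σ x = x) {u β : A} (hu : σ u = u + β) (hβ : β ≠ 0) (hσβ : σ β = β) {g h : R}
    (hrel : u ^ p = algebraMap R A g * u + algebraMap R A h) {t : A}
    (ht : t ∈ Algebra.adjoin R (insert u S)) (hfix : σ t = t) : t ∈ Algebra.adjoin R S := by
  obtain ⟨P, hP, rfl⟩ := exists_reduced_poly hp.out.one_lt hrel ht
  set Q := P.map (algebraMap (Algebra.adjoin R S) A) with hQ
  have hfixS : ∀ x ∈ Algebra.adjoin R S, σ x = x := fun x hx => by
    induction hx using Algebra.adjoin_induction with
    | mem x hx => exact hS x hx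
    | algebraMap r => exact σ.commutes r
    | add x y _ _ hx hy => rw [map_add, hx, hy]
    | mul x y _ _ hx hy => rw [map_mul, hx, hy]
  have hQσ : Q.map σ.toRingHom = Q := by
    refine Polynomial.ext fun k => ?_
    rw [Polynomial.coeff_map, hQ, Polynomial.coeff_map]
    exact hfixS _ (P.coeff k).2
  have hev : Polynomial.aeval u P = Q.eval u := by rw [hQ, Polynomial.eval_map_algebraMap]
  have hC := eq_C_of_shift p β hβ u (Polynomial.aeval u P) Q
    (lt_of_le_of_lt Polynomial.natDegree_map_le hP) (fun j => by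
      induction j with
      | zero => simp [hev]
      | succ j ih =>
        have h1 := congrArg σ ih
        rw [hfix] at h1
        conv_rhs => rw [← h1]
        show _ = σ.toRingHom (Q.eval (u + j * β))
        rw [← Polynomial.eval_map_apply, hQσ]
        congr 1
        show _ = σ (u + j * β)
        rw [map_add, map_mul, map_natCast, hu, hσβ]
        push_cast
        ring)
  have h0 := congrArg (fun T => Polynomial.coeff T 0) hC
  simp only [hQ, Polynomial.coeff_map, Polynomial.coeff_C_zero] at h0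
  rw [← h0]
  exact (P.coeff 0).2

theorem eq_natCast_mul_of_pow_eq [IsDomain A] (p : ℕ) [hp : Fact p.Prime] [CharP A p] {β d : A} (hβ : β ≠ 0)
    (hd : d ^ p = β ^ (p - 1) * d) : ∃ j : ℕ, d = j * β := by
  by_contra hne
  push Not at hne
  have hdeg : (Polynomial.C (β ^ (p - 1)) * Polynomial.X).degree < (Polynomial.X ^ p : Polynomial A).degree := by
    rw [Polynomial.degree_X_pow]
    exact lt_of_le_of_lt (Polynomial.degree_C_mul_X_le _) (by exact_mod_cast hp.out.one_lt)
  have hβp : β ^ p = β ^ (p - 1) * β := by rw [← pow_succ, Nat.sub_add_cancel hp.out.one_le]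
  have h0 : (Polynomial.X ^ p - Polynomial.C (β ^ (p - 1)) * Polynomial.X : Polynomial A) = 0 := by
    refine Polynomial.eq_zero_of_natDegree_lt_card_of_eval_eq_zero _
      (f := fun j : Option (Fin p) => j.elim d fun j => (j : ℕ) * β) ?_ ?_ ?_
    · rintro (_ | i) (_ | j) h
      · rfl
      · exact absurd h (hne j)
      · exact absurd h.symm (hne i)
      · exact congrArg some (Fin.ext (CharP.natCast_injOn_Iio A p i.2 j.2 (mul_right_cancel₀ hβ h)))
    · rintro (_ | j)
      · simp [hd]
      · simp only [Option.elim_some, Polynomial.eval_sub, Polynomial.eval_pow, Polynomial.eval_X,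
          Polynomial.eval_mul, Polynomial.eval_C, mul_pow, hβp]
        rw [← frobenius_def (R := A) p, map_natCast]
        ring
    · rw [Fintype.card_option, Fintype.card_fin, Nat.lt_succ_iff]
      refine (Polynomial.natDegree_sub_le _ _).trans (max_le (by simp) ?_)
      exact (Polynomial.natDegree_C_mul_le _ _).trans (by simp [hp.out.one_le])
  rw [sub_eq_zero] at h0
  exact hdeg.ne (by rw [h0])

/-- clearing denominators -/
theorem exists_pow_mul_mem {S : Subalgebra R A} (r : R) {G : Set A} (hG : ∀ x ∈ G, algebraMap R A r * x ∈ S)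
    {t : A} (ht : t ∈ Algebra.adjoin R G) : ∃ N : ℕ, algebraMap R A r ^ N * t ∈ S := by
  have hmono : ∀ {x : A} {N M : ℕ}, algebraMap R A r ^ N * x ∈ S → N ≤ M → algebraMap R A r ^ M * x ∈ S :=
    fun {x N M} h hNM => by
      obtain ⟨d, rfl⟩ := Nat.exists_eq_add_of_le hNM
      rw [pow_add, mul_comm _ (algebraMap R A r ^ d), mul_assoc]
      exact mul_mem (pow_mem (Subalgebra.algebraMap_mem _ r) _) h
  induction ht using Algebra.adjoin_induction with
  | mem x hx => exact ⟨1, by simpa using hG x hx⟩
  | algebraMap s => exact ⟨0, by simp⟩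
  | add x y _ _ hx hy =>
    obtain ⟨N, hN⟩ := hx; obtain ⟨M, hM⟩ := hy
    exact ⟨max N M, by rw [mul_add]; exact add_mem (hmono hN (le_max_left _ _)) (hmono hM (le_max_right _ _))⟩
  | mul x y _ _ hx hy =>
    obtain ⟨N, hN⟩ := hx; obtain ⟨M, hM⟩ := hy
    exact ⟨N + M, by rw [pow_add, mul_mul_mul_comm]; exact mul_mem hN hM⟩

theorem injective_of_comp_eq_smul [IsDomain R] {ι : Type*} [Fintype ι] [DecidableEq ι] (B : Module.Basis ι R A)
    (F G : A →ₗ[R] A) {r : R} (hr : r ≠ 0) (h : F ∘ₗ G = r • LinearMap.id) : Function.Injective F := by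
  rw [← LinearMap.ker_eq_bot, LinearMap.ker_eq_bot']
  intro x hx
  have : Module.Free R A := Module.Free.of_basis B
  have hdet : (LinearMap.toMatrix B B F).det ≠ 0 := by
    intro h0
    have := congrArg LinearMap.det h
    rw [LinearMap.det_comp, LinearMap.det_smul, LinearMap.det_id, mul_one, ← LinearMap.det_toMatrix B F, h0, zero_mul] at this
    exact pow_ne_zero _ hr this.symm
  refine B.repr.injective (Finsupp.ext fun i => ?_)
  have h2 : (LinearMap.toMatrix B B F).mulVec (B.repr x) = 0 := by
    rw [LinearMap.toMatrix_mulVec_repr, hx]; simp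
  rw [map_zero, Finsupp.zero_apply]
  exact congrFun (Matrix.eq_zero_of_mulVec_eq_zero hdet h2) i

end generic

namespace MR

variable {R : Type*} [CommRing R] {ι : Type*} [Fintype ι] [DecidableEq ι] {p : ℕ} [hp : Fact p.Prime]
  [Nontrivial R] [CharP R p] (b c : ι → R)

theorem shift_rel (j : ι → ZMod p) (i : ι) :
    (U (p := p) b c i + algebraMap R _ (ZMod.castHom dvd_rfl R (j i) * b i)) ^ p =
      algebraMap R _ (b i ^ (p - 1)) * (U b c i + algebraMap R _ (ZMod.castHom dvd_rfl R (j i) * b i)) +
        algebraMap R _ (c i) := by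
  have hj : (ZMod.castHom dvd_rfl R (j i) * b i) ^ p = b i ^ (p - 1) * (ZMod.castHom dvd_rfl R (j i) * b i) := by
    rw [mul_pow, ← map_pow, ZMod.pow_card, mul_left_comm, ← pow_succ, Nat.sub_add_cancel hp.out.one_le]
  rw [add_pow_char, U_pow, ← map_pow, hj, map_mul]
  ring

/-- the automorphism `u_i ↦ u_i + j_i b_i` -/
def shiftHom (j : ι → ZMod p) : Alg p b c →ₐ[R] Alg p b c := lift b c _ (shift_rel b c j)

theorem shiftHom_U (j : ι → ZMod p) (i : ι) :
    shiftHom b c j (U b c i) = U b c i + algebraMap R _ (ZMod.castHom dvd_rfl R (j i) * b i) := lift_U _ _ _ _ _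

theorem shiftHom_comp (j l : ι → ZMod p) : (shiftHom b c j).comp (shiftHom b c l) = shiftHom b c (j + l) := by
  refine hom_ext b c fun i => ?_
  rw [AlgHom.comp_apply, shiftHom_U, shiftHom_U, map_add, AlgHom.commutes, shiftHom_U, Pi.add_apply, map_add,
    add_mul, map_add, add_assoc]

theorem shiftHom_zero : shiftHom b c (0 : ι → ZMod p) = AlgHom.id R _ := by
  refine hom_ext b c fun i => ?_
  rw [shiftHom_U, Pi.zero_apply, map_zero, zero_mul, map_zero, add_zero]; rfl

def shift (j : ι → ZMod p) : Alg p b c ≃ₐ[R] Alg p b c :=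
  AlgEquiv.ofAlgHom (shiftHom b c j) (shiftHom b c (-j))
    (by rw [shiftHom_comp, add_neg_cancel, shiftHom_zero]) (by rw [shiftHom_comp, neg_add_cancel, shiftHom_zero])

theorem shift_U (j : ι → ZMod p) (i : ι) :
    shift b c j (U b c i) = U b c i + algebraMap R _ (ZMod.castHom dvd_rfl R (j i) * b i) := shiftHom_U b c j i

variable [IsDomain (Alg p b c)]

theorem algEquiv_eq_shift (hb : ∀ i, b i ≠ 0) (σ : Alg p b c ≃ₐ[R] Alg p b c) : ∃ j, σ = shift b c j := by
  have : ∀ i, ∃ m : ℕ, σ (U b c i) - U b c i = (m : Alg p b c) * algebraMap R (Alg p b c) (b i) := fun i => by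
    refine eq_natCast_mul_of_pow_eq p (fun h => hb i (algebraMap_injective b c (h.trans (map_zero _).symm))) ?_
    rw [sub_pow_char, ← map_pow σ, U_pow, map_add, map_mul, AlgEquiv.commutes, AlgEquiv.commutes, map_pow]
    ring
  choose m hm using this
  refine ⟨fun i => m i, AlgEquiv.coe_algHom_injective (hom_ext b c fun i => ?_)⟩
  show σ (U b c i) = shift b c _ (U b c i)
  rw [shift_U, map_natCast, map_mul, map_natCast, ← hm i, add_sub_cancel]

theorem shift_injective (hb : ∀ i, b i ≠ 0) [IsDomain R] : Function.Injective (shift (p := p) b c) := by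
  intro j l h
  funext i
  have := AlgEquiv.congr_fun h (U b c i)
  rw [shift_U, shift_U, add_right_inj] at this
  exact (ZMod.castHom dvd_rfl R).injective (mul_right_cancel₀ (hb i) (algebraMap_injective b c this))

theorem mem_range_of_fixed (hb : ∀ i, b i ≠ 0) (t : Alg p b c)
    (h : ∀ σ : Alg p b c ≃ₐ[R] Alg p b c, σ t = t) : t ∈ Set.range (algebraMap R (Alg p b c)) := by
  suffices ∀ s : Finset ι, t ∈ Algebra.adjoin R (U b c '' (s : Set ι)) → t ∈ Set.range (algebraMap R (Alg p b c)) by
    refine this Finset.univ ?_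
    rw [Finset.coe_univ, Set.image_univ, adjoin_U]; trivial
  intro s
  induction s using Finset.induction_on with
  | empty =>
    intro ht
    rw [Finset.coe_empty, Set.image_empty, Algebra.adjoin_empty] at ht
    exact Algebra.mem_bot.1 ht
  | insert i s hi ih =>
    intro ht
    rw [Finset.coe_insert, Set.image_insert_eq] at ht
    refine ih (mem_adjoin_of_fixed p (shift b c (Pi.single i 1)).toAlgHom ?_ (β := algebraMap R _ (b i)) ?_
      (fun e => hb i (algebraMap_injective b c (e.trans (map_zero _).symm))) (AlgEquiv.commutes _ _)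
      (U_pow b c i) ht (h _))
    · rintro _ ⟨j, hj, rfl⟩
      show shift b c _ (U b c j) = U b c j
      rw [shift_U, Pi.single_eq_of_ne (fun e : j = i => hi (e ▸ hj)), map_zero, zero_mul, map_zero, add_zero]
    · show shift b c _ (U b c i) = _
      rw [shift_U, Pi.single_eq_same, map_one, one_mul]

end MR

end Groth.L13.Wild
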