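/-
Invariants of the corank-one subgroups of the moderately ramified action.
-/
import Groth.Agent.L13.Wild.MRInv
import Mathlib.RingTheory.MvPolynomial.Homogeneous
import Mathlib.RingTheory.UniqueFactorizationDomain.Basic

set_option autoImplicit false
set_option linter.unusedSectionVars false

noncomputable section

namespace Groth.L13.Wild.MR

open MvPolynomial

variable {R : Type*} [CommRing R] {ι : Type*} [Fintype ι] [DecidableEq ι] {p : ℕ} [hp : Fact p.Prime]

theorem coeff_pow_linear (l : ι → R) (i : ι) (j : ℕ) :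
    MvPolynomial.coeff (Finsupp.single i j) ((∑ m, C (l m) * X m) ^ j : MvPolynomial ι R) = l i ^ j := by
  let φ : MvPolynomial ι R →ₐ[R] Polynomial R := aeval fun m => if m = i then Polynomial.X else 0
  have key : ∀ (G : MvPolynomial ι R) (j : ℕ), MvPolynomial.coeff (Finsupp.single i j) G = (φ G).coeff j := by
    intro G j
    induction G using MvPolynomial.induction_on' with
    | add a b ha hb => rw [MvPolynomial.coeff_add, map_add, Polynomial.coeff_add, ha, hb]
    | monomial d r =>
      rw [coeff_monomial, aeval_monomial, Finsupp.prod_fintype _ _ (fun m => pow_zero _),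
        ← Polynomial.C_eq_algebraMap]
      by_cases hd : ∀ m ≠ i, d m = 0
      · have hd' : d = Finsupp.single i (d i) := Finsupp.ext fun m => by
          by_cases hm : m = i
          · subst hm; simp
          · rw [hd m hm, Finsupp.single_apply, if_neg (Ne.symm hm)]
        rw [Finset.prod_eq_single i (fun m _ hm => by rw [hd m hm, pow_zero]) (by simp), if_pos rfl,
          Polynomial.coeff_C_mul_X_pow]
        have : d = Finsupp.single i j ↔ j = d i :=
          ⟨fun h => by rw [h]; simp, fun h => h ▸ hd'⟩
        simp only [this]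
      · push_neg at hd
        obtain ⟨m, hm, hdm⟩ := hd
        rw [Finset.prod_eq_zero (Finset.mem_univ m) (by rw [if_neg hm, zero_pow hdm]), mul_zero,
          Polynomial.coeff_zero, if_neg]
        intro h
        exact hdm (by rw [h, Finsupp.single_apply, if_neg (Ne.symm hm)])
  have hφ : φ (∑ m, C (l m) * X m) = Polynomial.C (l i) * Polynomial.X := by
    rw [map_sum, Finset.sum_eq_single i]
    · simp [φ]
    · intro m _ hm
      simp [φ, hm]
    · simp
  rw [key, map_pow, hφ, mul_pow, ← Polynomial.C_pow, Polynomial.coeff_C_mul_X_pow, if_pos rfl]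

variable [Nontrivial R] (b c : ι → R)

theorem red_eq_coeff {G : MvPolynomial ι R} (hG : G.totalDegree < p) (e : ι → Fin p) :
    red (poly p b c) G e = MvPolynomial.coeff (Finsupp.equivFunOnFinite.symm fun i => (e i : ℕ)) G := by
  conv_lhs => rw [G.as_sum]
  rw [map_sum, Finset.sum_apply]
  have key : ∀ d ∈ G.support, red (poly p b c) (monomial d (MvPolynomial.coeff d G)) e =
      if d = Finsupp.equivFunOnFinite.symm (fun i => (e i : ℕ)) then MvPolynomial.coeff d G else 0 := by
    intro d hd
    rw [red_monomial, Pi.smul_apply, smul_eq_mul, redFun]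
    have hlt : ∀ m, d m < p := fun m => by
      have h := (le_totalDegree hd).trans_lt hG
      have h2 : d m ≤ d.sum fun _ k => k := by
        by_cases hm : m ∈ d.support
        · exact Finset.single_le_sum (f := fun a => d a) (fun a _ => Nat.zero_le _) hm
        · rw [Finsupp.notMem_support_iff.mp hm]; exact Nat.zero_le _
      omega
    have hmod : ∀ m, (Polynomial.X ^ d m) %ₘ poly p b c m = Polynomial.X ^ d m := fun m => by
      rw [Polynomial.modByMonic_eq_self_iff (poly_monic b c hp.out.one_lt m), Polynomial.degree_X_pow,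
        Polynomial.degree_eq_natDegree (poly_monic b c hp.out.one_lt m).ne_zero,
        poly_natDegree b c hp.out.one_lt m]
      exact_mod_cast hlt m
    simp only [hmod, Polynomial.coeff_X_pow]
    split_ifs with h
    · subst h
      rw [Finset.prod_eq_one fun m _ => by simp, mul_one]
    · obtain ⟨m, hm⟩ : ∃ m, d m ≠ (e m : ℕ) := by
        by_contra hc
        push_neg at hc
        exact h (Finsupp.ext fun m => by simpa using hc m)
      rw [Finset.prod_eq_zero (Finset.mem_univ m) (if_neg (Ne.symm hm)), mul_zero]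
  rw [Finset.sum_congr rfl key, Finset.sum_ite_eq']
  split_ifs with h
  · rfl
  · exact (notMem_support_iff.mp h).symm

/-- Coefficients of a low degree polynomial in a linear form. -/
theorem dvd_coeff_of_aeval_linear_eq_smul {π : R} (hπ : Prime π) (l : ι → R) (i : ι) (hli : ¬ π ∣ l i)
    (g : Polynomial R) (hg : g.natDegree < p) (w : Alg p b c)
    (h : Polynomial.aeval (∑ m, algebraMap R (Alg p b c) (l m) * U b c m) g = π • w) (j : ℕ) :
    π ∣ g.coeff j := by
  by_cases hj : j < p
  swap
  · rw [Polynomial.coeff_eq_zero_of_natDegree_lt (by omega)]; exact dvd_zero π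
  let L : MvPolynomial ι R := ∑ m, C (l m) * X m
  let G : MvPolynomial ι R := Polynomial.aeval L g
  have hL : L.IsHomogeneous 1 := by
    refine IsHomogeneous.sum _ _ _ fun m _ => ?_
    exact isHomogeneous_C_mul_X _ _
  have hmk : Ideal.Quotient.mk (rels p b c) G =
      Polynomial.aeval (∑ m, algebraMap R (Alg p b c) (l m) * U b c m) g := by
    rw [← Ideal.Quotient.mkₐ_eq_mk R, ← Polynomial.aeval_algHom_apply]
    congr 1
    simp only [L, map_sum, map_mul, Ideal.Quotient.mkₐ_eq_mk]
    rfl
  have hG : G.totalDegree < p := by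
    refine lt_of_le_of_lt ?_ hg
    rw [show G = ∑ k ∈ Finset.range (g.natDegree + 1), g.coeff k • L ^ k from
      Polynomial.aeval_eq_sum_range L]
    refine (totalDegree_finsetSum_le fun k hk => ?_)
    rw [Finset.mem_range] at hk
    refine (totalDegree_smul_le _ _).trans ?_
    exact (by simpa using (hL.pow k).totalDegree_le : (L ^ k).totalDegree ≤ k).trans (by omega)
  obtain ⟨W, rfl⟩ := Ideal.Quotient.mk_surjective w
  have hmem : G - π • W ∈ rels p b c := by
    have h' : Ideal.Quotient.mk (rels p b c) G = Ideal.Quotient.mk (rels p b c) (π • W) := hmk.trans h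
    exact (Ideal.Quotient.mk_eq_mk_iff_sub_mem _ _).mp h'
  rw [← relIdeal_poly] at hmem
  have h0 := red_eq_zero (p := p) (poly p b c) (fun m => poly_monic b c hp.out.one_lt m) hmem
  rw [map_sub, map_smul, sub_eq_zero] at h0
  let e : ι → Fin p := fun m => if m = i then ⟨j, hj⟩ else ⟨0, hp.out.pos⟩
  have he : (Finsupp.equivFunOnFinite.symm fun m => (e m : ℕ)) = Finsupp.single i j := by
    refine Finsupp.ext fun m => ?_
    by_cases hm : m = i
    · subst hm; simp [e]
    · simp [e, hm, Finsupp.single_apply, Ne.symm hm]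
  have h1 := congrFun h0 e
  rw [red_eq_coeff b c hG e, he, Pi.smul_apply, smul_eq_mul] at h1
  have h2 : MvPolynomial.coeff (Finsupp.single i j) G = g.coeff j * l i ^ j := by
    rw [show G = ∑ k ∈ Finset.range (g.natDegree + 1), g.coeff k • L ^ k from
      Polynomial.aeval_eq_sum_range L, MvPolynomial.coeff_sum, Finset.sum_eq_single j]
    · rw [MvPolynomial.coeff_smul, coeff_pow_linear, smul_eq_mul]
    · intro k _ hk
      rw [MvPolynomial.coeff_smul, (hL.pow k).coeff_eq_zero, smul_zero]
      rw [Finsupp.degree_single]; omega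
    · intro hj'
      rw [Finset.mem_range] at hj'
      rw [Polynomial.coeff_eq_zero_of_natDegree_lt (by omega), zero_smul, MvPolynomial.coeff_zero]
  rw [h2] at h1
  rcases hπ.dvd_or_dvd ⟨_, h1⟩ with h3 | h3
  · exact h3
  · exact absurd (hπ.dvd_of_dvd_pow h3) hli

section Invariants

variable [IsDomain R] [CharP R p] [IsDomain (Alg p b c)]

theorem shift_mul (j l : ι → ZMod p) : shift b c j * shift b c l = shift b c (j + l) :=
  AlgEquiv.coe_algHom_injective (shiftHom_comp b c j l)

theorem shift_pow (j : ι → ZMod p) (m : ℕ) : shift b c j ^ m = shift b c (m • j) := by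
  induction m with
  | zero =>
    rw [pow_zero, zero_smul]
    exact AlgEquiv.coe_algHom_injective (shiftHom_zero b c).symm
  | succ m ih => rw [pow_succ, ih, shift_mul, succ_nsmul]

theorem shift_list_prod (L : List (ι → ZMod p)) : (L.map (shift b c)).prod = shift b c L.sum := by
  induction L with
  | nil => rw [List.map_nil, List.prod_nil, List.sum_nil]; exact AlgEquiv.coe_algHom_injective (shiftHom_zero b c).symm
  | cons a L ih => rw [List.map_cons, List.prod_cons, ih, shift_mul, List.sum_cons]

/-- The invariants of the subgroup orthogonal to `s` are the polynomials in the invariant linear form. -/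
theorem fixed_iff_mem_range [UniqueFactorizationMonoid R] (hb : ∀ i, b i ≠ 0) (s : ι → ZMod p) (l : ι → R)
    (i₀ : ι) (hs : s i₀ ≠ 0) (hl₀ : l i₀ ≠ 0)
    (hinv : ∀ ν : ι → ZMod p, ∑ i, ν i * s i = 0 → ∑ i, l i * (ZMod.castHom dvd_rfl R (ν i) * b i) = 0)
    (hprim : ∀ π : R, Prime π → ∃ i, ¬ π ∣ l i)
    (f : Polynomial R) (hf : f.Monic) (hfd : f.natDegree = p)
    (hfz : Polynomial.aeval (∑ m, algebraMap R (Alg p b c) (l m) * U b c m) f = 0)
    (t : Alg p b c) :
    (∀ ν : ι → ZMod p, ∑ i, ν i * s i = 0 → shift b c ν t = t) ↔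
      t ∈ (Polynomial.aeval (∑ m, algebraMap R (Alg p b c) (l m) * U b c m) : Polynomial R →ₐ[R] Alg p b c).range := by
  set z := ∑ m, algebraMap R (Alg p b c) (l m) * U b c m with hz
  have hzfix : ∀ ν : ι → ZMod p, ∑ i, ν i * s i = 0 → shift b c ν z = z := by
    intro ν hν
    rw [hz, map_sum]
    simp only [map_mul (shift b c ν), AlgEquiv.commutes, shift_U, mul_add, Finset.sum_add_distrib]
    rw [add_eq_left]
    simp only [← map_mul, ← map_sum]
    rw [hinv ν hν, map_zero]
  constructor
  swap
  · rintro ⟨g, rfl⟩ ν hν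
    show (shift b c ν).toAlgHom (Polynomial.aeval z g) = Polynomial.aeval z g
    rw [← Polynomial.aeval_algHom_apply]
    exact congrArg (fun y => Polynomial.aeval y g) (hzfix ν hν)
  intro hfix
  -- clear denominators
  let T : Finset ι → Set (Alg p b c) := fun F => insert z (U b c '' (F : Set ι))
  have hG : ∀ x ∈ Set.range (U (p := p) b c),
      algebraMap R (Alg p b c) (l i₀) * x ∈ Algebra.adjoin R (T (Finset.univ.erase i₀)) := by
    rintro x ⟨m, rfl⟩
    by_cases hm : m = i₀
    · subst hm
      have h1 : algebraMap R (Alg p b c) (l m) * U b c m =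
          z - ∑ j ∈ Finset.univ.erase m, algebraMap R (Alg p b c) (l j) * U b c j := by
        rw [eq_sub_iff_add_eq, hz, add_comm, Finset.sum_erase_add _ _ (Finset.mem_univ m)]
      rw [h1]
      refine sub_mem (Algebra.subset_adjoin (Set.mem_insert _ _)) (Subalgebra.sum_mem _ fun j hj => ?_)
      exact mul_mem (Subalgebra.algebraMap_mem _ _) (Algebra.subset_adjoin (Set.mem_insert_of_mem _ ⟨j, hj, rfl⟩))
    · exact mul_mem (Subalgebra.algebraMap_mem _ _)
        (Algebra.subset_adjoin (Set.mem_insert_of_mem _ ⟨m, by simp [hm], rfl⟩))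
  obtain ⟨N, hN⟩ := exists_pow_mul_mem (l i₀) hG (t := t) (by rw [adjoin_U]; trivial)
  have htt : algebraMap R (Alg p b c) (l i₀) ^ N * t ∈ Algebra.adjoin R {z} := by
    suffices ∀ F : Finset ι, i₀ ∉ F → algebraMap R (Alg p b c) (l i₀) ^ N * t ∈ Algebra.adjoin R (T F) →
        algebraMap R (Alg p b c) (l i₀) ^ N * t ∈ Algebra.adjoin R {z} from
      this _ (Finset.notMem_erase _ _) hN
    intro F
    induction F using Finset.induction_on with
    | empty =>
      intro _ h
      simpa [T] using h
    | insert m F hmF ih =>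
      intro hi₀ h
      rw [Finset.mem_insert, not_or] at hi₀
      refine ih hi₀.2 ?_
      let ν : ι → ZMod p := Pi.single m 1 + Pi.single i₀ (-(s m / s i₀))
      have hν : ∑ i, ν i * s i = 0 := by
        simp only [ν, Pi.add_apply, add_mul, Finset.sum_add_distrib, Pi.single_apply, ite_mul, one_mul,
          zero_mul, Finset.sum_ite_eq', Finset.mem_univ, if_true]
        field_simp
        ring
      have hνm : ν m = 1 := by simp [ν, Pi.single_apply, Ne.symm hi₀.1]
      have hνF : ∀ j ∈ F, ν j = 0 := fun j hj => by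
        have h1 : j ≠ m := fun h => hmF (h ▸ hj)
        have h2 : j ≠ i₀ := fun h => hi₀.2 (h ▸ hj)
        simp [ν, Pi.single_apply, h1, h2]
      refine mem_adjoin_of_fixed p (shift b c ν).toAlgHom (S := T F) ?_ (u := U b c m)
        (β := algebraMap R (Alg p b c) (b m)) ?_ ?_ (AlgEquiv.commutes _ _) (U_pow b c m) ?_ ?_
      · rintro x (rfl | ⟨j, hj, rfl⟩)
        · exact hzfix ν hν
        · show shift b c ν (U b c j) = U b c j
          rw [shift_U, hνF j hj, map_zero, zero_mul, map_zero, add_zero]
      · show shift b c ν (U b c m) = _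
        rw [shift_U, hνm, map_one, one_mul]
      · exact fun h => hb m (algebraMap_injective b c (h.trans (map_zero _).symm))
      · have hT : T (insert m F) = insert (U b c m) (T F) := by
          simp only [T, Finset.coe_insert, Set.image_insert_eq]
          exact Set.insert_comm _ _ _
        rwa [hT] at h
      · show shift b c ν (algebraMap R (Alg p b c) (l i₀) ^ N * t) = _
        rw [map_mul, map_pow, AlgEquiv.commutes, hfix ν hν]
  -- saturation
  suffices key : ∀ r : R, r ≠ 0 → ∀ u : Alg p b c, algebraMap R (Alg p b c) r * u ∈ Algebra.adjoin R {z} →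
      u ∈ (Polynomial.aeval z : Polynomial R →ₐ[R] Alg p b c).range by
    refine key (l i₀ ^ N) (pow_ne_zero _ hl₀) t ?_
    rwa [map_pow]
  intro r
  induction r using UniqueFactorizationMonoid.induction_on_prime with
  | h₁ => exact fun h => absurd rfl h
  | h₂ x hx =>
    intro _ u hu
    obtain ⟨y, rfl⟩ := hx
    rw [← Algebra.adjoin_singleton_eq_range_aeval]
    have h1 := mul_mem (Subalgebra.algebraMap_mem (Algebra.adjoin R {z}) ((y⁻¹ : Rˣ) : R)) hu
    rwa [← mul_assoc, ← map_mul, Units.inv_mul, map_one, one_mul] at h1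
  | h₃ a π ha hπ ih =>
    intro _ u hu
    refine ih ha u ?_
    rw [Algebra.adjoin_singleton_eq_range_aeval] at hu ⊢
    obtain ⟨g, hg⟩ := hu
    change Polynomial.aeval z g = _ at hg
    rw [← Polynomial.aeval_modByMonic_eq_self_of_root hfz] at hg
    set g' := g %ₘ f
    have hdeg : g'.natDegree < p := by
      refine (Polynomial.natDegree_modByMonic_lt g hf ?_).trans_eq hfd
      intro h
      rw [h, Polynomial.natDegree_one] at hfd
      exact hp.out.ne_zero hfd.symm
    obtain ⟨i, hi⟩ := hprim π hπ
    have hdvd : ∀ j, π ∣ g'.coeff j := dvd_coeff_of_aeval_linear_eq_smul b c hπ l i hi g' hdeg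
      (algebraMap R _ a * u) (by rw [hg, map_mul, mul_assoc]; exact (Algebra.smul_def _ _).symm)
    obtain ⟨g'', hg''⟩ := (Polynomial.C_dvd_iff_dvd_coeff π g').mpr hdvd
    refine ⟨g'', ?_⟩
    show Polynomial.aeval z g'' = _
    rw [hg'', map_mul, Polynomial.aeval_C, map_mul, mul_assoc] at hg
    exact mul_left_cancel₀
      (fun h => hπ.ne_zero (algebraMap_injective b c (h.trans (map_zero _).symm))) hg

theorem ker_aeval_eq (hb : ∀ i, b i ≠ 0) (l : ι → R) (ν : ι → ZMod p)
    (hν : ∑ i, l i * (ZMod.castHom dvd_rfl R (ν i) * b i) ≠ 0)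
    (f : Polynomial R) (hf : f.Monic) (hfd : f.natDegree = p)
    (hfz : Polynomial.aeval (∑ m, algebraMap R (Alg p b c) (l m) * U b c m) f = 0) :
    RingHom.ker (Polynomial.aeval (∑ m, algebraMap R (Alg p b c) (l m) * U b c m) :
      Polynomial R →ₐ[R] Alg p b c) = Ideal.span {f} := by
  classical
  set z := ∑ m, algebraMap R (Alg p b c) (l m) * U b c m with hz
  set β := ∑ i, l i * (ZMod.castHom dvd_rfl R (ν i) * b i) with hβ
  refine le_antisymm (fun g hg => ?_) ((Ideal.span_singleton_le_iff_mem _).mpr hfz)
  rw [RingHom.mem_ker] at hg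
  rw [Ideal.mem_span_singleton, ← Polynomial.modByMonic_eq_zero_iff_dvd hf]
  set r := g %ₘ f
  have hr : Polynomial.aeval z r = 0 := by
    rw [Polynomial.aeval_modByMonic_eq_self_of_root hfz]; exact hg
  have hdeg : r.natDegree < p := by
    refine (Polynomial.natDegree_modByMonic_lt g hf ?_).trans_eq hfd
    intro h
    rw [h, Polynomial.natDegree_one] at hfd
    exact hp.out.ne_zero hfd.symm
  have hσz : shift b c ν z = z + algebraMap R (Alg p b c) β := by
    rw [hz, map_sum, hβ, map_sum]
    simp only [map_mul (shift b c ν), AlgEquiv.commutes, shift_U, mul_add, Finset.sum_add_distrib,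
      map_mul]
  have hroot : ∀ j : ℕ, Polynomial.aeval (z + j * algebraMap R (Alg p b c) β) r = 0 := by
    intro j
    induction j with
    | zero => simpa using hr
    | succ j ih =>
      have h := congrArg (shift b c ν).toAlgHom ih
      rw [map_zero, ← Polynomial.aeval_algHom_apply] at h
      refine Eq.trans ?_ h
      refine congrArg (fun y => Polynomial.aeval y r) ?_
      show _ = shift b c ν (z + _)
      rw [map_add, map_mul, map_natCast, hσz, AlgEquiv.commutes]
      push_cast
      ring
  have hinj : Function.Injective (algebraMap R (Alg p b c)) := algebraMap_injective b c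
  have hmap : r.map (algebraMap R (Alg p b c)) = 0 := by
    refine Polynomial.eq_zero_of_natDegree_lt_card_of_eval_eq_zero _
      (f := fun j : Fin p => z + (j : ℕ) * algebraMap R (Alg p b c) β) ?_ ?_ ?_
    · intro i j hij
      have h1 := add_left_cancel hij
      have h2 : ((i : ℕ) : Alg p b c) = (j : ℕ) :=
        mul_right_cancel₀ (fun h => hν (hinj (h.trans (map_zero _).symm))) h1
      exact Fin.ext (CharP.natCast_injOn_Iio (Alg p b c) p i.2 j.2 h2)
    · intro j
      rw [Polynomial.eval_map_algebraMap]
      exact hroot j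
    · rw [Fintype.card_fin]
      exact lt_of_le_of_lt Polynomial.natDegree_map_le hdeg
  exact (Polynomial.map_eq_zero_iff hinj).mp hmap

end Invariants

end Groth.L13.Wild.MR
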