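import Groth.Agent.L13.Wild.MRInv

/-! The minor elements `z_j = a_{i₀} u_j - a_j u_{i₀}`. -/

set_option autoImplicit false
set_option linter.unusedSectionVars false

noncomputable section

namespace Groth.L13.Wild.MR

variable {R : Type*} [CommRing R] {ι : Type*} [Fintype ι] [DecidableEq ι] {p : ℕ} [hp : Fact p.Prime]
  [Nontrivial R] [CharP R p] (μ : R) (a c : ι → R) (i₀ : ι)

/-- coefficients of the complete intersection of the minor elements -/
abbrev mb : {j : ι // j ≠ i₀} → R := fun j => μ * a i₀ * a j.1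
abbrev mc (p : ℕ) : {j : ι // j ≠ i₀} → R := fun j => a i₀ ^ p * c j.1 - a j.1 ^ p * c i₀

abbrev mz (j : {j : ι // j ≠ i₀}) : Alg p (fun i => μ * a i) c :=
  algebraMap R _ (a i₀) * U (fun i => μ * a i) c j.1 - algebraMap R _ (a j.1) * U (fun i => μ * a i) c i₀

theorem mz_rel (j : {j : ι // j ≠ i₀}) :
    mz (p := p) μ a c i₀ j ^ p = algebraMap R _ (mb μ a i₀ j ^ (p - 1)) * mz μ a c i₀ j +
      algebraMap R _ (mc a c i₀ p j) := by
  obtain ⟨q, hq⟩ : ∃ q, p = q + 1 := ⟨p - 1, (Nat.sub_add_cancel hp.out.one_le).symm⟩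
  rw [sub_pow_char, mul_pow, mul_pow, U_pow, U_pow]
  simp only [mb, mc, hq, Nat.add_sub_cancel, map_mul, map_pow, map_sub, mul_pow, pow_succ]
  ring

/-- the map of the complete intersection into the algebra -/
def psi : Alg p (mb μ a i₀) (mc a c i₀ p) →ₐ[R] Alg p (fun i => μ * a i) c :=
  lift _ _ _ (mz_rel μ a c i₀)

theorem psi_U (j : {j : ι // j ≠ i₀}) : psi (p := p) μ a c i₀ (U _ _ j) = mz μ a c i₀ j := lift_U _ _ _ _ _

theorem psi_comp_mk :
    (psi (p := p) μ a c i₀).comp (Ideal.Quotient.mkₐ R _) = MvPolynomial.aeval (mz (p := p) μ a c i₀) :=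
  MvPolynomial.algHom_ext fun j => by
    rw [AlgHom.comp_apply, MvPolynomial.aeval_X]
    exact psi_U μ a c i₀ j

theorem range_psi : (psi (p := p) μ a c i₀).range = Algebra.adjoin R (Set.range (mz (p := p) μ a c i₀)) := by
  rw [← Algebra.map_top, ← adjoin_U, AlgHom.map_adjoin, ← Set.range_comp]
  congr 2
  funext j
  exact psi_U μ a c i₀ j

theorem shift_one_psi (w : Alg p (mb μ a i₀) (mc a c i₀ p)) :
    shift (fun i => μ * a i) c (1 : ι → ZMod p) (psi μ a c i₀ w) = psi μ a c i₀ w := by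
  have : (shift (fun i => μ * a i) c (1 : ι → ZMod p)).toAlgHom.comp (psi μ a c i₀) = psi μ a c i₀ := by
    refine hom_ext _ _ fun j => ?_
    show shift (fun i => μ * a i) c (1 : ι → ZMod p) (psi μ a c i₀ _) = psi μ a c i₀ _
    rw [psi_U, map_sub, map_mul, map_mul, AlgEquiv.commutes, AlgEquiv.commutes, shift_U, shift_U]
    simp only [Pi.one_apply, map_one, one_mul, map_mul]
    ring
  exact AlgHom.congr_fun this w

/-- extend an exponent by `k` at `i₀` -/
def extIdx (e : {j : ι // j ≠ i₀} → Fin p) (k : Fin p) : ι → Fin p :=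
  fun i => if h : i = i₀ then k else e ⟨i, h⟩

theorem extIdx_injective (k : Fin p) : Function.Injective fun e => extIdx (p := p) i₀ e k := by
  intro e e' h
  funext j
  have := congrFun h j.1
  simpa [extIdx, j.2] using this

/-- `U^e ↦ z^(e') u₀^(e i₀)` -/
def bigMap : Alg p (fun i => μ * a i) c →ₗ[R] Alg p (fun i => μ * a i) c :=
  (basis (fun i => μ * a i) c).constr R fun e =>
    psi μ a c i₀ (basis (mb μ a i₀) (mc a c i₀ p) fun j => e j.1) * U (fun i => μ * a i) c i₀ ^ (e i₀ : ℕ)

theorem bigMap_ext (e : {j : ι // j ≠ i₀} → Fin p) (k : Fin p) :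
    bigMap μ a c i₀ (basis (fun i => μ * a i) c (extIdx i₀ e k)) =
      psi μ a c i₀ (basis (mb μ a i₀) (mc a c i₀ p) e) * U (fun i => μ * a i) c i₀ ^ (k : ℕ) := by
  rw [bigMap, Module.Basis.constr_basis]
  congr 3
  · funext j
    simp [extIdx, j.2]
  · simp [extIdx]

theorem adjoin_le_range_bigMap (t : Alg p (fun i => μ * a i) c)
    (ht : t ∈ Algebra.adjoin R (insert (U (fun i => μ * a i) c i₀) (Set.range (mz (p := p) μ a c i₀)))) :
    t ∈ LinearMap.range (bigMap (p := p) μ a c i₀) := by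
  obtain ⟨P, hP, rfl⟩ := exists_reduced_poly hp.out.one_lt (U_pow (fun i => μ * a i) c i₀) ht
  rw [Polynomial.aeval_eq_sum_range' hP, Finset.sum_range]
  refine sum_mem fun k _ => ?_
  obtain ⟨w, hw⟩ : ((P.coeff k : Alg p (fun i => μ * a i) c)) ∈ (psi (p := p) μ a c i₀).range := by
    rw [range_psi]; exact (P.coeff k).2
  change (P.coeff k : Alg p (fun i => μ * a i) c) * _ ∈ _
  rw [← hw, ← (basis (mb μ a i₀) (mc a c i₀ p)).sum_repr w]
  show psi μ a c i₀ _ * _ ∈ _
  rw [map_sum, Finset.sum_mul]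
  refine sum_mem fun e _ => ?_
  rw [map_smul, smul_mul_assoc, ← bigMap_ext]
  exact Submodule.smul_mem _ _ (LinearMap.mem_range_self _ _)

theorem bigMap_injective [IsDomain R] (ha : a i₀ ≠ 0) : Function.Injective (bigMap (p := p) μ a c i₀) := by
  classical
  have hmem : ∀ e : ι → Fin p, ∃ N : ℕ, algebraMap R _ (a i₀) ^ N * basis (fun i => μ * a i) c e ∈
      Algebra.adjoin R (insert (U (fun i => μ * a i) c i₀) (Set.range (mz (p := p) μ a c i₀))) := fun e => by
    refine exists_pow_mul_mem (a i₀) (G := Set.range (U (fun i => μ * a i) c)) ?_ (by rw [adjoin_U]; trivial)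
    rintro _ ⟨j, rfl⟩
    by_cases hj : j = i₀
    · rw [hj]
      exact mul_mem (Subalgebra.algebraMap_mem _ _) (Algebra.subset_adjoin (Set.mem_insert _ _))
    · rw [show algebraMap R _ (a i₀) * U (fun i => μ * a i) c j =
          mz (p := p) μ a c i₀ ⟨j, hj⟩ + algebraMap R _ (a j) * U (fun i => μ * a i) c i₀ by simp [mz]]
      exact add_mem (Algebra.subset_adjoin (Set.mem_insert_of_mem _ ⟨_, rfl⟩))
        (mul_mem (Subalgebra.algebraMap_mem _ _) (Algebra.subset_adjoin (Set.mem_insert _ _)))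
  choose N hN using hmem
  have : ∀ e, ∃ y, bigMap (p := p) μ a c i₀ y = a i₀ ^ (Finset.univ.sup N) • basis (fun i => μ * a i) c e := fun e => by
    refine LinearMap.mem_range.1 (adjoin_le_range_bigMap μ a c i₀ _ ?_)
    obtain ⟨d, hd⟩ := Nat.exists_eq_add_of_le (Finset.le_sup (f := N) (Finset.mem_univ e))
    rw [show a i₀ ^ (Finset.univ.sup N) • basis (fun i => μ * a i) c e =
      algebraMap R _ (a i₀ ^ (Finset.univ.sup N)) * basis (fun i => μ * a i) c e from Algebra.smul_def (R := R) (A := Alg p (fun i => μ * a i) c) _ _]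
    rw [map_pow, hd, pow_add, mul_comm (algebraMap R _ (a i₀) ^ N e), mul_assoc]
    exact mul_mem (pow_mem (Subalgebra.algebraMap_mem _ _) _) (hN e)
  choose y hy using this
  refine injective_of_comp_eq_smul (basis (fun i => μ * a i) c) _ ((basis (fun i => μ * a i) c).constr R y)
    (pow_ne_zero (Finset.univ.sup N) ha) ((basis (fun i => μ * a i) c).ext fun e => ?_)
  simp only [LinearMap.comp_apply, Module.Basis.constr_basis, hy, LinearMap.smul_apply, LinearMap.id_apply]

theorem psi_injective [IsDomain R] (ha : a i₀ ≠ 0) : Function.Injective (psi (p := p) μ a c i₀) := by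
  rw [injective_iff_map_eq_zero]
  intro w hw
  let k : Fin p := ⟨0, hp.out.pos⟩
  have he : (fun e => psi (p := p) μ a c i₀ (basis (mb μ a i₀) (mc a c i₀ p) e)) =
      (fun e => bigMap (p := p) μ a c i₀ (basis (fun i => μ * a i) c (extIdx i₀ e k))) := by
    funext e; rw [bigMap_ext]; simp [k]
  have hli : LinearIndependent R fun e => psi (p := p) μ a c i₀ (basis (mb μ a i₀) (mc a c i₀ p) e) := by
    rw [he]
    exact ((basis (fun i => μ * a i) c).linearIndependent.map' (bigMap (p := p) μ a c i₀)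
      (LinearMap.ker_eq_bot.2 (bigMap_injective μ a c i₀ ha))).comp _ (extIdx_injective i₀ k)
  rw [← (basis (mb μ a i₀) (mc a c i₀ p)).sum_repr w, map_sum] at hw
  simp only [map_smul] at hw
  have h0 := Fintype.linearIndependent_iff.1 hli _ hw
  exact (basis (mb μ a i₀) (mc a c i₀ p)).repr.injective (Finsupp.ext fun e => by simp [h0 e])

end Groth.L13.Wild.MR
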