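import Groth.Agent.L13.Wild.MRLocal
import Groth.Agent.L13.Wild.MRInv

/-! Elementary facts on the hypotheses. -/

set_option autoImplicit false

universe u

namespace Groth.L13.Wild.MR

variable (p : ℕ) {k : Type u} [Field k] {n : ℕ}

instance charP_mvPowerSeries [CharP k p] : CharP (MvPowerSeries (Fin n) k) p :=
  charP_of_injective_ringHom (f := MvPowerSeries.C) MvPowerSeries.C_injective p

theorem ne_zero_of_coprime (hn : 2 ≤ n) {a : Fin n → MvPowerSeries (Fin n) k}
    (ham : ∀ i, MvPowerSeries.constantCoeff (a i) = 0) (hcop : ∀ i j, i ≠ j → IsRelPrime (a i) (a j)) (i : Fin n) :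
    a i ≠ 0 := by
  intro h
  have : Nontrivial (Fin n) := Fin.nontrivial_iff_two_le.2 hn
  obtain ⟨j, hj⟩ := exists_ne i
  have h2 := hcop i j hj.symm
  rw [h, isRelPrime_zero_left] at h2
  have := MvPowerSeries.isUnit_iff_constantCoeff.1 h2
  rw [ham] at this
  exact not_isUnit_zero this

end Groth.L13.Wild.MR
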