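import Groth.Agent.L13.Wild.MR
import Mathlib.Algebra.SkewMonoidAlgebra.Basic

/-! The skew group ring of an invariant Frobenius form is symmetric. -/

set_option autoImplicit false
set_option linter.unusedSectionVars false

noncomputable section

namespace Groth.L13.Wild

section skew

open SkewMonoidAlgebra

variable {R A G : Type*} [CommRing R] [CommRing A] [Algebra R A] [Group G] [MulSemiringAction G A]
  [SMulCommClass G R A]

theorem exists_symmetric_form (ε : A →ₗ[R] R) (hinv : ∀ (h : G) (t : A), ε (h • t) = ε t)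
    (hinj : ∀ y : A, (∀ x, ε (x * y) = 0) → y = 0) (hsurj : ∀ ψ : A →ₗ[R] R, ∃ y, ∀ x, ψ x = ε (x * y))
    [Finite G] :
    ∃ φ : SkewMonoidAlgebra A G →ₗ[R] R,
      (∀ x y : SkewMonoidAlgebra A G, φ (x * y) = φ (y * x)) ∧
      Function.Injective (fun y : SkewMonoidAlgebra A G => fun x : SkewMonoidAlgebra A G => φ (x * y)) ∧
      ∀ ψ : SkewMonoidAlgebra A G →ₗ[R] R, ∃ y : SkewMonoidAlgebra A G, ∀ x, ψ x = φ (x * y) := by
  classical
  let φ : SkewMonoidAlgebra A G →ₗ[R] R :=
    { toFun := fun x => ε (x.coeff 1)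
      map_add' := fun x y => by rw [coeff_add, Finsupp.add_apply, map_add]
      map_smul' := fun r x => by rw [coeff_smul, Finsupp.smul_apply, map_smul, RingHom.id_apply] }
  have hφ : ∀ (h : G) (a : A) (y : SkewMonoidAlgebra A G), φ (single h a * y) = ε (a * h • y.coeff h⁻¹) := fun h a y => by
    show ε ((single h a * y).coeff 1) = _
    rw [coeff_single_mul, mul_one]
  have hφ' : ∀ (h : G) (a : A) (y : SkewMonoidAlgebra A G), φ (y * single h a) = ε (a * h • y.coeff h⁻¹) := fun h a y => by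
    show ε ((y * single h a).coeff 1) = _
    rw [coeff_mul_single, one_mul]
    conv_lhs => rw [← hinv h]
    rw [smul_mul', smul_inv_smul, mul_comm]
  refine ⟨φ, fun x y => ?_, fun y y' hy => ?_, fun ψ => ?_⟩
  · induction x using SkewMonoidAlgebra.induction_on with
    | zero => rw [zero_mul, mul_zero]
    | single h a => rw [hφ, hφ']
    | add u v hu hv => rw [add_mul, mul_add, map_add, map_add, hu, hv]
  · have hy' : ∀ x, φ (x * y) = φ (x * y') := congrFun hy
    refine coeff_injective (Finsupp.ext fun h => ?_)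
    have h3 : h⁻¹ • (y.coeff h - y'.coeff h) = 0 := hinj _ fun a => by
      have h4 := hy' (single h⁻¹ a)
      rw [hφ, hφ, inv_inv] at h4
      rw [smul_sub, mul_sub, map_sub, h4, sub_self]
    rwa [smul_eq_zero_iff_eq, sub_eq_zero] at h3
  · choose z hz using fun h : G => hsurj (ψ.comp (lsingle R h))
    refine ⟨ofCoeff (Finsupp.equivFunOnFinite.symm fun h => h • z h⁻¹), fun x => ?_⟩
    induction x using SkewMonoidAlgebra.induction_on with
    | zero => rw [map_zero, zero_mul, map_zero]
    | single h a =>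
      rw [hφ, show ψ (single h a) = (ψ.comp (lsingle R h)) a from rfl, hz h a]
      simp [smul_inv_smul]
    | add u v hu hv => rw [map_add, add_mul, map_add, hu, hv]

end skew

namespace MR

open Polynomial

variable {R : Type*} [CommRing R] {ι : Type*} [Fintype ι] [DecidableEq ι] {p : ℕ} [hp : Fact p.Prime]
  [Nontrivial R] (b c : ι → R)

/-- the top coefficient -/
def eps : Alg p b c →ₗ[R] R :=
  (Finsupp.lapply fun _ => (⟨p - 1, Nat.sub_lt hp.out.pos one_pos⟩ : Fin p)).comp (basis b c).repr.toLinearMap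

theorem eps_prod_aeval (g : ι → Polynomial R) :
    eps b c (∏ i, aeval (U (p := p) b c i) (g i)) = ∏ i, (g i %ₘ poly p b c i).coeff (p - 1) :=
  repr_prod_aeval b c g _

theorem topCoeff_X_pow (i : ι) {l : ℕ} (hl : l ≤ 2 * p - 2) :
    ((X ^ l : Polynomial R) %ₘ poly p b c i).coeff (p - 1) =
      (if l = p - 1 then 1 else 0) + (if l = 2 * p - 2 then b i ^ (p - 1) else 0) := by
  have hm := poly_monic (p := p) b c hp.out.one_lt i
  have hd := poly_natDegree (p := p) b c hp.out.one_lt i
  have h2 := hp.out.two_le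
  by_cases hlp : l < p
  · rw [(modByMonic_eq_self_iff hm).2 (by
      rw [degree_X_pow, degree_eq_natDegree hm.ne_zero, hd]; exact_mod_cast hlp), coeff_X_pow,
      if_neg (show l ≠ 2 * p - 2 by omega), add_zero]
    simp [eq_comm]
  obtain ⟨d, rfl⟩ := Nat.exists_eq_add_of_le (not_lt.1 hlp)
  have e : (X ^ (p + d) : Polynomial R) = (C (b i ^ (p - 1)) * X ^ (d + 1) + C (c i) * X ^ d) + poly p b c i * X ^ d := by
    rw [poly, pow_add, pow_succ]; ring
  rw [e, add_modByMonic, (modByMonic_eq_zero_iff_dvd hm).2 (dvd_mul_right _ _), add_zero,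
    (modByMonic_eq_self_iff hm).2 ?_, coeff_add, coeff_C_mul, coeff_C_mul, coeff_X_pow, coeff_X_pow,
    if_neg (show p + d ≠ p - 1 by omega), if_neg (show p - 1 ≠ d by omega), zero_add, mul_zero, add_zero]
  · by_cases hd2 : p + d = 2 * p - 2
    · rw [if_pos hd2, if_pos (show p - 1 = d + 1 by omega), mul_one]
    · rw [if_neg hd2, if_neg (show p - 1 ≠ d + 1 by omega), mul_zero]
  · rw [degree_eq_natDegree hm.ne_zero, hd]
    refine lt_of_le_of_lt (degree_add_le _ _) (max_lt ?_ ?_) <;>
      refine lt_of_le_of_lt (degree_C_mul_X_pow_le _ _) ?_ <;> exact_mod_cast (by omega)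

/-- dual polynomials -/
def dualPoly (i : ι) (m : Fin p) : Polynomial R :=
  X ^ (p - 1 - m) - if (m : ℕ) = 0 then C (b i ^ (p - 1)) else 0

theorem topCoeff_dual (i : ι) (m m' : Fin p) :
    ((X ^ (m' : ℕ) * dualPoly b i m) %ₘ poly p b c i).coeff (p - 1) = if m' = m then 1 else 0 := by
  have hm' := m'.2
  have hm := m.2
  have h2 := hp.out.two_le
  rw [dualPoly, mul_sub, sub_modByMonic, coeff_sub, ← pow_add, topCoeff_X_pow b c i (by omega)]
  by_cases h0 : (m : ℕ) = 0
  · rw [if_pos h0, mul_comm (X ^ (m' : ℕ)) (C _), ← smul_eq_C_mul, smul_modByMonic, coeff_smul, smul_eq_mul,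
      topCoeff_X_pow b c i (by omega), if_neg (show (m' : ℕ) ≠ 2 * p - 2 by omega), add_zero]
    by_cases h : m' = m
    · subst h
      rw [if_pos rfl, if_pos (show (m' : ℕ) + (p - 1 - m') = p - 1 by omega), if_neg (show (m' : ℕ) + (p - 1 - m') ≠ 2 * p - 2 by omega),
        if_neg (show (m' : ℕ) ≠ p - 1 by omega)]
      simp
    · have h' : (m' : ℕ) ≠ m := fun e => h (Fin.ext e)
      rw [if_neg h, if_neg (show (m' : ℕ) + (p - 1 - m) ≠ p - 1 by omega), zero_add]
      by_cases h3 : (m' : ℕ) = p - 1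
      · rw [if_pos (show (m' : ℕ) + (p - 1 - m) = 2 * p - 2 by omega), if_pos h3, mul_one, sub_self]
      · rw [if_neg (show (m' : ℕ) + (p - 1 - m) ≠ 2 * p - 2 by omega), if_neg h3, mul_zero, sub_self]
  · rw [if_neg h0, mul_zero, zero_modByMonic, coeff_zero, sub_zero,
      if_neg (show (m' : ℕ) + (p - 1 - m) ≠ 2 * p - 2 by omega), add_zero]
    by_cases h : m' = m
    · subst h
      rw [if_pos rfl, if_pos (show (m' : ℕ) + (p - 1 - m') = p - 1 by omega)]
    · have h' : (m' : ℕ) ≠ m := fun e => h (Fin.ext e)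
      rw [if_neg h, if_neg (show (m' : ℕ) + (p - 1 - m) ≠ p - 1 by omega)]

/-- the dual basis -/
def dualElt (e : ι → Fin p) : Alg p b c := ∏ i, aeval (U b c i) (dualPoly b i (e i))

theorem eps_basis_mul_dual (e e' : ι → Fin p) :
    eps b c (basis b c e' * dualElt b c e) = if e' = e then 1 else 0 := by
  rw [basis_apply, dualElt, ← Finset.prod_mul_distrib]
  have : ∀ i, U (p := p) b c i ^ (e' i : ℕ) * aeval (U b c i) (dualPoly b i (e i)) =
      aeval (U (p := p) b c i) (X ^ (e' i : ℕ) * dualPoly b i (e i)) := fun i => by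
    rw [map_mul, map_pow, aeval_X]
  rw [Finset.prod_congr rfl (fun i _ => this i), eps_prod_aeval, Finset.prod_congr rfl (fun i _ => topCoeff_dual b c i (e i) (e' i)),
    Fintype.prod_boole]
  simp only [funext_iff]

theorem eps_mul_dual (t : Alg p b c) (e : ι → Fin p) : eps b c (t * dualElt b c e) = (basis b c).repr t e := by
  conv_lhs => rw [← (basis b c).sum_repr t, Finset.sum_mul]
  simp only [smul_mul_assoc, map_sum, map_smul, eps_basis_mul_dual, smul_eq_mul, mul_ite, mul_one, mul_zero,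
    Finset.sum_ite_eq', Finset.mem_univ, if_true]

theorem eps_nondeg (y : Alg p b c) (h : ∀ x, eps b c (x * y) = 0) : y = 0 :=
  (basis b c).repr.injective (Finsupp.ext fun e => by
    rw [← eps_mul_dual, mul_comm, h, map_zero, Finsupp.zero_apply])

theorem eps_surj (ψ : Alg p b c →ₗ[R] R) : ∃ y, ∀ x, ψ x = eps b c (x * y) := by
  refine ⟨∑ e, ψ (basis b c e) • dualElt b c e, fun x => ?_⟩
  conv_lhs => rw [← (basis b c).sum_repr x]
  simp only [Finset.mul_sum, mul_smul_comm, map_sum, map_smul, eps_mul_dual, smul_eq_mul]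
  exact Finset.sum_congr rfl fun e _ => mul_comm _ _

theorem eps_prod_low (q : ι → Polynomial R) (hq : ∀ i, (q i).natDegree < p) :
    eps (p := p) b c (∏ i, aeval (U (p := p) b c i) (q i)) = ∏ i, (q i).coeff (p - 1) := by
  rw [eps_prod_aeval]
  refine Finset.prod_congr rfl fun i _ => ?_
  rw [(modByMonic_eq_self_iff (poly_monic b c hp.out.one_lt i)).2]
  rw [degree_eq_natDegree (poly_monic b c hp.out.one_lt i).ne_zero, poly_natDegree b c hp.out.one_lt i]
  exact lt_of_le_of_lt degree_le_natDegree (by exact_mod_cast hq i)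

theorem eps_hom_shift (f : Alg p b c →ₐ[R] Alg p b c) (d : ι → R)
    (hf : ∀ i, f (U b c i) = U b c i + algebraMap R _ (d i)) : (eps b c).comp f.toLinearMap = eps b c := by
  refine (basis b c).ext fun e => ?_
  have h1 : ∏ i, f (U b c i ^ (e i : ℕ)) = ∏ i, aeval (U (p := p) b c i) ((X + C (d i)) ^ (e i : ℕ)) :=
    Finset.prod_congr rfl fun i _ => by rw [map_pow, hf, map_pow, map_add, aeval_X, aeval_C]
  have h2 : ∏ i, U b c i ^ (e i : ℕ) = ∏ i, aeval (U (p := p) b c i) ((X : Polynomial R) ^ (e i : ℕ)) :=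
    Finset.prod_congr rfl fun i _ => by rw [map_pow, aeval_X]
  rw [LinearMap.comp_apply, basis_apply, AlgHom.toLinearMap_apply, map_prod, h1, h2,
    eps_prod_low b c _ (fun i => by rw [natDegree_pow_X_add_C]; exact (e i).2),
    eps_prod_low b c _ (fun i => by rw [natDegree_X_pow]; exact (e i).2)]
  refine Finset.prod_congr rfl fun i _ => ?_
  rw [coeff_X_add_C_pow, coeff_X_pow]
  have := (e i).2
  by_cases h : (e i : ℕ) = p - 1
  · simp [h]
  · rw [if_neg (Ne.symm h), Nat.choose_eq_zero_of_lt (show (e i : ℕ) < p - 1 by omega), Nat.cast_zero, mul_zero]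

end MR

end Groth.L13.Wild
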