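import Groth.Agent.L13.Wild.PurityDimTwo
import Groth.Agent.L13.Wild.CompleteTools
import Groth.Agent.L13.Wild.FixedNormal
import Groth.Agent.L03.RegularNormal
import Groth.Agent.S5763
import Mathlib.RingTheory.Filtration

/-! Invariant rings of actions ramified precisely at the origin. -/

set_option autoImplicit false
set_option linter.unusedSectionVars false

universe u v w

namespace Groth.L13.Wild.Origin

open IsLocalRing

variable {A : Type u} [CommRing A] [IsRegularLocalRing A] [IsAdicComplete (maximalIdeal A) A]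
  {k : Type v} [Field k] [Algebra k A] {G : Type w} [Group G] [Finite G] [MulSemiringAction G A]
  (hk : Function.Surjective (residue A ∘ algebraMap k A))
  (hGk : ∀ (σ : G) (c : k), σ • algebraMap k A c = algebraMap k A c)

local notation "B" => FixedPoints.subring A G

theorem isLocalHom_subtype : IsLocalHom (algebraMap B A) := by
  refine ⟨fun x hx => ?_⟩
  obtain ⟨u, hu⟩ := hx
  have hinv : (↑u⁻¹ : A) ∈ B := fun σ => by
    have h1 : σ • (x : A) = x := x.2 σ
    refine u.isUnit.mul_left_cancel ?_
    rw [Units.mul_inv]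
    calc (u : A) * σ • (↑u⁻¹ : A) = σ • ((u : A) * ↑u⁻¹) := by
          rw [smul_mul', hu, show σ • (algebraMap B A x) = algebraMap B A x from h1]
      _ = 1 := by rw [Units.mul_inv, smul_one]
  exact IsUnit.of_mul_eq_one (⟨_, hinv⟩ : B) (Subtype.ext (by
    show (x : A) * ↑u⁻¹ = 1
    rw [show (x : A) = (u : A) from hu.symm, Units.mul_inv]))

theorem isLocalRing : IsLocalRing B := by
  have := isLocalHom_subtype (A := A) (G := G)
  refine IsLocalRing.of_nonunits_add fun {x y} hx hy hxy => ?_
  exact IsLocalRing.nonunits_add (fun h => hx (isUnit_of_map_unit (algebraMap B A) x h))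
    (fun h => hy (isUnit_of_map_unit (algebraMap B A) y h)) ((map_add (algebraMap B A) x y) ▸ hxy.map (algebraMap B A))

theorem isIntegral : Algebra.IsIntegral B A := by
  have : Algebra.IsInvariant B A G := ⟨fun x hx => ⟨⟨x, hx⟩, rfl⟩⟩
  exact Algebra.IsInvariant.isIntegral B A G

/-- the ideal generated by the invariants in the maximal ideal is primary to it -/
theorem radical_invariant_ideal :
    ((Ideal.comap (algebraMap B A) (maximalIdeal A)).map (algebraMap B A)).radical = maximalIdeal A := by
  have := isIntegral (A := A) (G := G)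
  have := isLocalHom_subtype (A := A) (G := G)
  refine le_antisymm ((maximalIdeal.isMaximal A).isPrime.radical_le_iff.2 Ideal.map_comap_le) ?_
  rw [Ideal.radical_eq_sInf]
  refine le_sInf fun P hP => ?_
  obtain ⟨hle, hPp⟩ := hP
  have hc : (Ideal.comap (algebraMap B A) (maximalIdeal A)).IsMaximal :=
    Ideal.isMaximal_comap_of_isIntegral_of_isMaximal _
  have hc2 : (P.comap (algebraMap B A)).IsMaximal :=
    hc.eq_of_le (Ideal.comap_ne_top _ hPp.ne_top) (Ideal.map_le_iff_le_comap.1 hle) ▸ hc
  exact (eq_maximalIdeal (Ideal.isMaximal_of_isIntegral_of_isMaximal_comap P hc2)).ge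

include hk hGk in
theorem finite_and_noetherian : IsNoetherianRing B ∧ Module.Finite B A := by
  classical
  have : SMulCommClass G k A := ⟨fun σ c a => by rw [Algebra.smul_def, Algebra.smul_def, smul_mul', hGk]⟩
  obtain ⟨s, hs, hs'⟩ := (Submodule.fg_span_iff_fg_span_finset_subset _).1
    (IsNoetherian.noetherian ((Ideal.comap (algebraMap B A) (maximalIdeal A)).map (algebraMap B A)))
  obtain ⟨r, y, hys⟩ : ∃ (r : ℕ) (y : Fin r → A), Set.range y = (s : Set A) :=
    ⟨s.card, fun i => (s.equivFin.symm i).1, by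
      ext z
      exact ⟨fun ⟨i, hi⟩ => hi ▸ (s.equivFin.symm i).2, fun hz => ⟨s.equivFin ⟨z, hz⟩, by simp⟩⟩⟩
  rw [← hys] at hs hs'
  have hy : ∀ i, y i ∈ maximalIdeal A ∧ ∀ σ : G, σ • y i = y i := fun i => by
    obtain ⟨b, hb, hbe⟩ := hs (Set.mem_range_self i)
    exact ⟨hbe ▸ hb, fun σ => hbe ▸ b.2 σ⟩
  have hx : (Ideal.span (Set.range y)).radical = maximalIdeal A := by
    rw [← radical_invariant_ideal (A := A) (G := G), Ideal.map]
    exact congrArg Ideal.radical hs'.symm
  obtain ⟨φ, hφ⟩ := Groth.L12.exists_evalPS (R := k) (maximalIdeal A) y fun i => (hy i).1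
  have hfix : ∀ (σ : G) f, σ • φ f = φ f := fun σ f => by
    have h2 : (MulSemiringAction.toAlgHom k A σ).comp φ = φ :=
      Groth.L12.evalPS_ext (maximalIdeal A) (fun i => by
        show σ • φ (MvPowerSeries.X i) ∈ _
        rw [hφ, (hy i).2]; exact (hy i).1)
        (fun i => by
          show σ • φ (MvPowerSeries.X i) = φ (MvPowerSeries.X i)
          rw [hφ, (hy i).2])
    exact AlgHom.congr_fun h2 f
  have hfin := finite_powerSeries hk y hx φ hφ
  let R0 := MvPowerSeries (Fin r) k
  let ι : R0 →+* B := φ.toRingHom.codRestrict B fun f σ => hfix σ f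
  letI : Algebra R0 B := ι.toAlgebra
  letI : Algebra R0 A := φ.toRingHom.toAlgebra
  have : IsScalarTower R0 B A := IsScalarTower.of_algebraMap_eq' rfl
  have : Module.Finite R0 A := hfin
  have : IsNoetherian R0 A := isNoetherian_of_isNoetherianRing_of_finite R0 A
  have : Module.Finite R0 B :=
    Module.Finite.of_injective (IsScalarTower.toAlgHom R0 B A).toLinearMap Subtype.val_injective
  exact ⟨IsNoetherianRing.of_finite R0 B, Module.Finite.of_restrictScalars_finite R0 B A⟩

include hk hGk in
theorem isAdicComplete : IsAdicComplete (Ideal.comap (algebraMap B A) (maximalIdeal A)) B := by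
  obtain ⟨hN, hfin⟩ := finite_and_noetherian hk hGk
  set n := Ideal.comap (algebraMap B A) (maximalIdeal A)
  obtain ⟨N, hNle⟩ := Ideal.exists_pow_le_of_le_radical_of_fg (radical_invariant_ideal (A := A) (G := G)).ge
    (IsNoetherian.noetherian _)
  obtain ⟨c, hc⟩ := Ideal.exists_pow_inf_eq_pow_smul n (LinearMap.range (Algebra.linearMap B A))
  have key : ∀ (j : ℕ) (b : B), (b : A) ∈ maximalIdeal A ^ (N * (j + c)) → b ∈ n ^ j := by
    intro j b hb
    have h1 : (b : A) ∈ n ^ (j + c) • (⊤ : Submodule B A) := by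
      rw [Ideal.smul_top_eq_map, Submodule.restrictScalars_mem, Ideal.map_pow]
      exact (pow_mul (maximalIdeal A) N (j + c) ▸ pow_le_pow_left' hNle (j + c)) hb
    have h2 : (b : A) ∈ n ^ (j + c) • (⊤ : Submodule B A) ⊓ LinearMap.range (Algebra.linearMap B A) :=
      ⟨h1, ⟨b, rfl⟩⟩
    rw [hc (j + c) (Nat.le_add_left c j), Nat.add_sub_cancel] at h2
    have h3 := Submodule.smul_mono (le_refl (n ^ j))
      (inf_le_right : (n ^ c • (⊤ : Submodule B A) ⊓ LinearMap.range (Algebra.linearMap B A)) ≤ _) h2
    rw [← Submodule.map_top, ← Submodule.map_smul''] at h3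
    obtain ⟨b', hb', e⟩ := h3
    rw [smul_eq_mul, Ideal.mul_top] at hb'
    have : b' = b := Subtype.ext e
    exact this ▸ hb'
  have hmem : ∀ (j : ℕ) (b : B), b ∈ n ^ j → (b : A) ∈ maximalIdeal A ^ j := fun j b hb =>
    (Ideal.map_le_iff_le_comap.1 ((Ideal.map_pow (algebraMap B A) n j).le.trans (Ideal.pow_right_mono Ideal.map_comap_le j))) hb
  refine { haus' := fun x hx => ?_, prec' := fun f hf => ?_ }
  · refine Subtype.ext (IsHausdorff.haus (I := maximalIdeal A) inferInstance (x : A) fun j => ?_)
    have := hx j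
    rw [SModEq.sub_mem, smul_eq_mul, Ideal.mul_top, sub_zero] at this ⊢
    exact hmem j x this
  · obtain ⟨L, hL⟩ := IsPrecomplete.prec (I := maximalIdeal A) inferInstance (f := fun j => (f j : A)) fun {a b} hab => by
      have := hf hab
      rw [SModEq.sub_mem, smul_eq_mul, Ideal.mul_top] at this ⊢
      exact hmem a _ this
    have hL' : ∀ j, (f j : A) - L ∈ maximalIdeal A ^ j := fun j => by
      have := hL j
      rwa [SModEq.sub_mem, smul_eq_mul, Ideal.mul_top] at this
    have hLB : L ∈ B := fun σ => by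
      refine sub_eq_zero.1 (IsHausdorff.haus (I := maximalIdeal A) inferInstance _ fun j => ?_)
      rw [SModEq.sub_mem, smul_eq_mul, Ideal.mul_top, sub_zero]
      have hσ : (maximalIdeal A).map (MulSemiringAction.toRingHom G A σ) ≤ maximalIdeal A := by
        refine Ideal.map_le_iff_le_comap.2 fun y hy => ?_
        rw [Ideal.mem_comap, mem_maximalIdeal, mem_nonunits_iff]
        intro hu'
        have := IsUnit.map (MulSemiringAction.toRingHom G A σ⁻¹) hu'
        rw [MulSemiringAction.toRingHom_apply, MulSemiringAction.toRingHom_apply, inv_smul_smul] at this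
        exact (mem_maximalIdeal _).1 hy this
      have h1 : σ • ((f j : A) - L) ∈ maximalIdeal A ^ j :=
        Ideal.pow_right_mono hσ j (Ideal.map_pow (MulSemiringAction.toRingHom G A σ) _ j ▸ Ideal.mem_map_of_mem _ (hL' j))
      rw [smul_sub, (f j).2 σ] at h1
      have h5 : σ • L - L = ((f j : A) - L) - ((f j : A) - σ • L) := by ring
      rw [h5]
      exact sub_mem (hL' j) h1
    refine ⟨⟨L, hLB⟩, fun j => ?_⟩
    rw [SModEq.sub_mem, smul_eq_mul, Ideal.mul_top]
    have hM : j ≤ max j (N * (j + c)) := le_max_left _ _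
    have h1 : f (max j (N * (j + c))) - ⟨L, hLB⟩ ∈ n ^ j :=
      key j _ (Ideal.pow_le_pow_right (le_max_right _ _) (hL' (max j (N * (j + c)))))
    have h2 := hf hM
    rw [SModEq.sub_mem, smul_eq_mul, Ideal.mul_top] at h2
    have := add_mem h2 h1
    rwa [sub_add_sub_cancel] at this

include hk hGk in
theorem not_free (hdim : 2 ≤ ringKrullDim A) {p : ℕ} (hp : p.Prime) (hcard : Nat.card G = p)
    (hram : ∀ P : Ideal A, P.IsPrime → P ≠ maximalIdeal A → P.inertia G = ⊥) [Module.Free B A] : False := by
  have := Groth.L01.isDomain_of_regular A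
  obtain ⟨hN, hfin⟩ := finite_and_noetherian hk hGk
  have := isLocalRing (A := A) (G := G)
  have : IsIntegrallyClosed A := Groth.L03.RegularNormal.isIntegrallyClosed A
  let σ0 : G → A →+* A := fun σ => MulSemiringAction.toRingHom G A σ
  have : Fact p.Prime := ⟨hp⟩
  have hcyc : IsCyclic G := isCyclic_of_prime_card hcard
  obtain ⟨σ, hσ⟩ := hcyc.exists_generator
  have : IsIntegrallyClosed B := isIntegrallyClosed_fixed (σ0 σ) B fun x =>
    ⟨fun h => h σ, fun h τ => by
      have hst : σ ∈ MulAction.stabilizer G x := h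
      exact (Subgroup.zpowers_le.2 hst : Subgroup.zpowers σ ≤ _) (hσ τ)⟩
  have hne : (⊥ : Ideal A) ≠ maximalIdeal A := fun h => by
    have h1 := IsLocalRing.maximalIdeal_height_eq_ringKrullDim (R := A)
    rw [← h, Ideal.height_bot] at h1
    rw [← h1] at hdim
    exact absurd hdim (by decide)
  have hfaith : FaithfulSMul G A := ⟨fun {g h} hgh => by
    have hmem : g⁻¹ * h ∈ (⊥ : Ideal A).inertia G := fun a => by
      rw [Submodule.mem_toAddSubgroup, Ideal.mem_bot, sub_eq_zero, mul_smul, ← hgh, inv_smul_smul]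
    rw [hram ⊥ Ideal.isPrime_bot hne, Subgroup.mem_bot, inv_mul_eq_one] at hmem
    exact hmem⟩
  have : SMulCommClass G B A := ⟨fun g b a => by
    show g • ((b : A) * a) = (b : A) * g • a
    rw [smul_mul', b.2 g]⟩
  have hinj : Function.Injective (algebraMap B A) := Subtype.val_injective
  have hres : Function.Surjective (IsLocalRing.residue A ∘ algebraMap B A) := fun y => by
    obtain ⟨c, hc⟩ := hk y
    exact ⟨⟨algebraMap k A c, fun g => hGk g c⟩, hc⟩
  have hcomm : ∀ g h : G, g * h = h * g := fun g h => (IsCyclic.commGroup (α := G)).mul_comm g h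
  have hsub := Inv.subsingleton_of_unramified hinj hres (fun a ha => ⟨⟨a, ha⟩, rfl⟩) hcomm fun P hP hht => by
    refine hram P hP fun h => ?_
    subst h
    have h1 := IsLocalRing.maximalIdeal_height_eq_ringKrullDim (R := A)
    rw [hht] at h1
    rw [← h1] at hdim
    exact absurd hdim (by decide)
  have := Nat.card_eq_one_iff_unique.2 ⟨hsub, ⟨1⟩⟩
  rw [hcard] at this
  exact hp.ne_one this

end Groth.L13.Wild.Origin
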