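import Groth.Agent.L13.Wild.InvTools
import Groth.Agent.L13.Wild.GroupCoord
import Groth.Agent.L03.RegularNormal
import Mathlib.LinearAlgebra.Dimension.RankNullity
import Mathlib.LinearAlgebra.Dimension.Torsion.Basic
import Mathlib.LinearAlgebra.FreeModule.Finite.Basic

/-! Products of the invariant rings of complementary subgroups. -/

set_option autoImplicit false
set_option linter.unusedSectionVars false

universe u v w

namespace Groth.L13.Wild.Inv

open scoped Pointwise

variable {R : Type u} [CommRing R] {A : Type v} [CommRing A] [Algebra R A]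
  {H : Type w} [Group H] [MulSemiringAction H A]

theorem inertia_smul_eq (hcomm : ∀ g h : H, g * h = h * g) (g : H) (P : Ideal A) :
    (g • P).inertia H ≤ P.inertia H := by
  intro h hh x
  have h1 := hh (g • x)
  rw [Submodule.mem_toAddSubgroup, ← mul_smul, hcomm, mul_smul, ← smul_sub] at h1
  exact Ideal.smul_mem_pointwise_smul_iff.1 h1

/-- products of bases span the generated subalgebra -/
theorem le_span_prod {ι κ : Type*} [Fintype ι] [DecidableEq ι] [Fintype κ] (B : ι → Subalgebra R A)
    (b : ∀ i, Module.Basis κ R (B i)) :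
    ((⨆ i, B i : Subalgebra R A) : Set A) ⊆
      Submodule.span R (Set.range fun e : ι → κ => ∏ i, (b i (e i) : A)) := by
  set w := fun e : ι → κ => ∏ i, (b i (e i) : A)
  set W := Submodule.span R (Set.range w)
  have hone : (1 : A) ∈ W := by
    have h1 : ∀ i, (1 : A) = ∑ k, (b i).repr 1 k • (b i k : A) := fun i => by
      have := congrArg (B i).val ((b i).sum_repr 1).symm
      simp only [map_sum, map_smul, map_one, Subalgebra.coe_val] at this
      exact this
    have : (1 : A) = ∏ i, ∑ k, (b i).repr 1 k • (b i k : A) := by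
      rw [← Finset.prod_congr rfl (fun i _ => h1 i), Finset.prod_const_one]
    rw [this, Fintype.prod_sum]
    refine sum_mem fun e _ => ?_
    simp only [Algebra.smul_def, Finset.prod_mul_distrib, ← map_prod]
    rw [← Algebra.smul_def]
    exact W.smul_mem _ (Submodule.subset_span ⟨e, rfl⟩)
  let S : Subalgebra R A :=
    { carrier := {a | ∀ x ∈ W, a * x ∈ W}
      mul_mem' := fun {a c} ha hc x hx => by rw [mul_assoc]; exact ha _ (hc x hx)
      add_mem' := fun {a c} ha hc x hx => by rw [add_mul]; exact add_mem (ha x hx) (hc x hx)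
      algebraMap_mem' := fun r x hx => by rw [← Algebra.smul_def]; exact W.smul_mem r hx }
  have hS : ∀ i, B i ≤ S := by
    intro l y hy x hx
    induction hx using Submodule.span_induction with
    | mem x hx =>
      obtain ⟨e, rfl⟩ := hx
      have hexp : y * (b l (e l) : A) = ∑ k, (b l).repr (⟨y, hy⟩ * b l (e l)) k • (b l k : A) := by
        have := congrArg (B l).val ((b l).sum_repr (⟨y, hy⟩ * b l (e l))).symm
        simp only [map_sum, map_smul, map_mul, Subalgebra.coe_val] at this
        exact this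
      simp only [w]
      rw [← Finset.mul_prod_erase _ _ (Finset.mem_univ l), ← mul_assoc, hexp, Finset.sum_mul]
      refine sum_mem fun k _ => ?_
      rw [smul_mul_assoc]
      refine W.smul_mem _ (Submodule.subset_span ⟨Function.update e l k, ?_⟩)
      simp only [w]
      rw [← Finset.mul_prod_erase _ _ (Finset.mem_univ l), Function.update_self]
      congr 1
      exact Finset.prod_congr rfl fun j hj => by rw [Function.update_of_ne (Finset.ne_of_mem_erase hj)]
    | zero => rw [mul_zero]; exact zero_mem _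
    | add a c _ _ ha hc => rw [mul_add]; exact add_mem ha hc
    | smul r a _ ha => rw [mul_smul_comm]; exact W.smul_mem r ha
  intro a ha
  have := (iSup_le hS : (⨆ i, B i) ≤ S) ha 1 hone
  rwa [mul_one] at this

theorem iSup_fixed_eq_top {p : ℕ} (hp : p.Prime) [IsRegularLocalRing R] [IsDomain R] [IsIntegrallyClosed R]
    [IsDomain A] [Module.Finite R A] (hinj : Function.Injective (algebraMap R A))
    [Finite H] [SMulCommClass H R A] [FaithfulSMul H A]
    (hfix : ∀ a : A, (∀ h : H, h • a = a) → a ∈ Set.range (algebraMap R A))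
    (hcomm : ∀ g h : H, g * h = h * g) {n : ℕ} (hcard : Nat.card H = p ^ n) (Gi : Fin n → Subgroup H)
    (hGi : ∀ i, Nat.card (Gi i) = p) (hsup : (⨆ i, Gi i) = ⊤)
    (hMR3 : ∀ P : Ideal A, P.IsPrime → P.height = 1 → P.inertia H ≠ ⊥ → ∃ i, P.inertia H = Gi i)
    (hMR4 : ∀ i, Module.Free R
      (FixedPoints.subalgebra R A ↥(⨆ j ∈ (Finset.univ.erase i : Finset (Fin n)), Gi j : Subgroup H))) :
    (⨆ i, FixedPoints.subalgebra R A ↥(⨆ j ∈ (Finset.univ.erase i : Finset (Fin n)), Gi j : Subgroup H)) = ⊤ := by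
  classical
  let Kf : Fin n → Subgroup H := fun i => ⨆ j ∈ (Finset.univ.erase i : Finset (Fin n)), Gi j
  let B : Fin n → Subalgebra R A := fun i => FixedPoints.subalgebra R A ↥(Kf i)
  show (⨆ i, B i) = ⊤
  set C : Subalgebra R A := ⨆ i, B i with hC
  obtain ⟨hKcard, hKint⟩ := GroupCoord.main hcomm hcard Gi hGi hsup
  rcases Nat.eq_zero_or_pos n with rfl | hn
  · rw [eq_top_iff]
    intro a _
    have : Subsingleton H := (Nat.card_eq_one_iff_unique.1 (by simpa using hcard)).1
    obtain ⟨r, rfl⟩ := hfix a fun h => by rw [Subsingleton.elim h 1, one_smul]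
    exact Subalgebra.algebraMap_mem _ r
  let i₀ : Fin n := ⟨0, hn⟩
  have hker : RingHom.ker (algebraMap R A) = ⊥ := (RingHom.injective_iff_ker_eq_bot _).1 hinj
  have hmemB : ∀ i (a : A), (∀ k ∈ Kf i, k • a = a) → a ∈ C := fun i a ha =>
    (le_iSup B i : B i ≤ C) fun k => ha k k.2
  have hloc : ∀ (q : Ideal R) [q.IsPrime] (i : Fin n),
      (∀ P : Ideal A, P.IsPrime → P.comap (algebraMap R A) = q → P.inertia H ≤ Gi i) →
      ∃ c ∉ q, ∀ a : A, c • a ∈ C := by
    intro q _ i hI
    refine exists_mem_of_separated hcomm (Kf i) (hmemB i) q hker fun τ hτ hτ1 => ?_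
    obtain ⟨j, hj⟩ : ∃ j, τ ∉ Kf j := by
      by_contra hcon
      push Not at hcon
      exact hτ1 (hKint τ hcon)
    have hji : j ≠ i := fun e => hj (e ▸ hτ)
    exact ⟨Kf j, hj, hmemB j, fun P hP hPq => (hI P hP hPq).trans
      (le_iSup₂_of_le i (Finset.mem_erase.2 ⟨hji.symm, Finset.mem_univ i⟩) le_rfl)⟩
  have : Algebra.IsIntegral R A := Algebra.IsIntegral.of_finite R A
  obtain ⟨c₀, hc₀, hC₀⟩ := hloc ⊥ i₀ fun P hP hPq => by
    have hP0 : P = ⊥ := Ideal.eq_bot_of_comap_eq_bot hPq
    intro h hh
    have : h = 1 := FaithfulSMul.eq_of_smul_eq_smul fun a : A => by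
      have h2 := hh a
      rw [hP0, Submodule.mem_toAddSubgroup, Ideal.mem_bot, sub_eq_zero] at h2
      rw [h2, one_smul]
    rw [this]; exact one_mem _
  have hc₀' : c₀ ≠ 0 := fun h => hc₀ (h ▸ zero_mem _)
  have : IsNoetherian R A := isNoetherian_of_isNoetherianRing_of_finite R A
  have hrank : ∀ i, Module.finrank R (B i) = p := fun i => by
    refine Nat.eq_of_mul_eq_mul_right (Nat.card_pos (α := Kf i)) ?_
    rw [finrank_fixed_mul_card hinj hfix (Kf i), hcard, ← hKcard i, mul_comm]
  have : ∀ i, Module.Free R (B i) := hMR4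
  have : ∀ i, Module.Finite R (B i) := fun i =>
    Module.Finite.of_injective (B i).val.toLinearMap Subtype.val_injective
  let b : ∀ i, Module.Basis (Fin p) R (B i) := fun i => Module.finBasisOfFinrankEq R (B i) (hrank i)
  let w : (Fin n → Fin p) → A := fun e => ∏ i, (b i (e i) : A)
  let Φ : ((Fin n → Fin p) → R) →ₗ[R] A := Fintype.linearCombination R w
  have hW : ∀ a ∈ C, ∃ x, Φ x = a := fun a ha => by
    obtain ⟨x, hx⟩ := (Submodule.mem_span_range_iff_exists_fun R).1 (le_span_prod B b ha)
    exact ⟨x, by rw [Fintype.linearCombination_apply]; exact hx⟩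
  have : Module.IsTorsionFree R A := by
    have : FaithfulSMul R A := (faithfulSMul_iff_algebraMap_injective R A).2 hinj
    infer_instance
  have hΦ : Function.Injective Φ := by
    let m : A →ₗ[R] LinearMap.range Φ := LinearMap.codRestrict _ (c₀ • LinearMap.id) fun a => hW _ (hC₀ a)
    have hm : Function.Injective m := fun a a' h =>
      smul_right_injective A hc₀' (congrArg Subtype.val h)
    have h1 := LinearMap.finrank_le_finrank_of_injective hm
    rw [finrank_eq_card hinj hfix, hcard] at h1
    have h2 := Φ.quotKerEquivRange.finrank_eq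
    have h3 := Submodule.finrank_quotient_add_finrank (LinearMap.ker Φ)
    rw [Module.finrank_pi, Fintype.card_fun, Fintype.card_fin, Fintype.card_fin] at h3
    have h4 : Module.finrank R (LinearMap.ker Φ) = 0 := by omega
    exact LinearMap.ker_eq_bot.1 (Submodule.finrank_eq_zero.1 h4)
  rw [eq_top_iff]
  intro a _
  obtain ⟨x, hx⟩ := hW _ (hC₀ a)
  have hdvd : ∀ e, c₀ ∣ x e := fun e => by
    refine mem_range_of_codimOne hc₀' fun q hq hqh => ?_
    obtain ⟨P₀, -, hP₀, hP₀q⟩ := Ideal.exists_ideal_over_prime_of_isIntegral q (⊥ : Ideal A)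
      (by rw [← RingHom.ker_eq_comap_bot, hker]; exact bot_le)
    have hP1 : P₀.height = 1 := by
      refine le_antisymm ?_ ?_
      · rw [← hqh, PrimeSpectrum.height_eq_orderHeight ⟨P₀, hP₀⟩, PrimeSpectrum.height_eq_orderHeight ⟨q, hq⟩]
        refine (Order.height_le_height_apply_of_strictMono (PrimeSpectrum.comap (algebraMap R A))
          (fun I J h => Ideal.IsIntegral.comap_lt_comap (I := I.asIdeal) (J := J.asIdeal) h) ⟨P₀, hP₀⟩).trans_eq ?_
        exact congrArg Order.height (PrimeSpectrum.ext hP₀q)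
      · rw [ENat.one_le_iff_ne_zero]
        intro h0
        have h1 : P₀ = ⊥ := by
          by_contra hne
          have := Ideal.height_add_one_le_of_lt_of_isPrime (I := (⊥ : Ideal A)) (J := P₀) (bot_lt_iff_ne_bot.2 hne)
          rw [h0] at this
          simp at this
        subst h1
        rw [← RingHom.ker_eq_comap_bot, hker] at hP₀q
        rw [← hP₀q, Ideal.height_bot] at hqh
        exact zero_ne_one hqh
    obtain ⟨i, hi⟩ : ∃ i, P₀.inertia H ≤ Gi i := by
      by_cases hI : P₀.inertia H = ⊥
      · exact ⟨i₀, hI ▸ bot_le⟩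
      · exact (hMR3 P₀ hP₀ hP1 hI).imp fun i h => h.le
    obtain ⟨c, hc, hcC⟩ := hloc q i fun P hP hPq => by
      have : Algebra.IsInvariant R A H := ⟨hfix⟩
      obtain ⟨g, rfl⟩ := Algebra.IsInvariant.exists_smul_of_under_eq R A H P₀ P (hP₀q.trans hPq.symm)
      exact (inertia_smul_eq hcomm g P₀).trans hi
    obtain ⟨y, hy⟩ := hW _ (hcC a)
    have hΦeq : Φ (c • x) = Φ (c₀ • y) := by rw [map_smul, map_smul, hx, hy, smul_comm]
    refine ⟨c, hc, y e, ?_⟩
    exact congrFun (hΦ hΦeq) e
  choose g hg using hdvd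
  have hmem : Φ g ∈ C := by
    rw [Fintype.linearCombination_apply]
    refine sum_mem fun e _ => Subalgebra.smul_mem C ?_ _
    exact prod_mem fun i _ => (le_iSup B i : B i ≤ C) (b i (e i)).2
  have : Φ g = a := smul_right_injective A hc₀' (by
    show c₀ • Φ g = c₀ • a
    rw [← map_smul, ← hx]
    exact congrArg Φ (funext fun e => (hg e).symm))
  exact this ▸ hmem

end Groth.L13.Wild.Inv
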