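import Groth.Agent.L13.Wild.InvTools
import Groth.Agent.L13.Wild.FreeRegular
import Groth.Agent.L03.RegularNormal
import Groth.Agent.L01.Regular
import Mathlib.RingTheory.Ideal.KrullsHeightTheorem
import Mathlib.GroupTheory.SpecificGroups.Cyclic
import Mathlib.GroupTheory.PGroup

/-! Purity in dimension two for invariant rings. -/

set_option autoImplicit false
set_option linter.unusedSectionVars false

universe u v w

namespace Groth.L13.Wild.Inv

open scoped Pointwise
open IsLocalRing RingTheory.Sequence

theorem free_of_normal_dim_two (R : Type u) [CommRing R] [IsRegularLocalRing R] (A : Type v) [CommRing A] [IsDomain A]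
    [IsIntegrallyClosed A] [IsLocalRing A] [Algebra R A] [Module.Finite R A]
    (hinj : Function.Injective (algebraMap R A)) (hR : ringKrullDim R = 2) (hA : ringKrullDim A = 2) :
    Module.Free R A := by
  have := Groth.L01.isDomain_of_regular R
  have : IsNoetherianRing A := IsNoetherianRing.of_finite R A
  obtain ⟨s, hs, hs'⟩ := Submodule.FG.exists_span_finset_card_eq_spanFinrank
    (IsNoetherian.noetherian (maximalIdeal R))
  have hlen : s.toList.length = 2 := by
    rw [Finset.length_toList, hs]
    have h := (isRegularLocalRing_iff R).1 ‹_›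
    rw [hR] at h
    exact_mod_cast h
  have hgen : Ideal.ofList s.toList = maximalIdeal R := by
    rw [← hs', Ideal.ofList]; congr 1; ext x; simp
  obtain ⟨x₁, x₂, hl⟩ : ∃ x₁ x₂, s.toList = [x₁, x₂] := List.length_eq_two.1 hlen
  refine free_of_isWeaklyRegular 2 R A s.toList hlen hgen ((isWeaklyRegular_map_algebraMap_iff A A s.toList).1 ?_)
  rw [hl, List.map_cons, List.map_singleton, isWeaklyRegular_cons_iff, isWeaklyRegular_singleton_iff]
  have hx₁ : x₁ ≠ 0 := by
    rintro rfl
    have hle : maximalIdeal R ≤ Ideal.span {x₂} := by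
      rw [← hgen, hl, Ideal.ofList_cons, Ideal.ofList_singleton]
      simp
    have h1 := Submodule.spanFinrank_span_le_ncard_of_finite (R := R) (Set.finite_singleton x₂)
    have heq : maximalIdeal R = Ideal.span {x₂} := le_antisymm hle (by
      rw [← hgen, hl, Ideal.span_singleton_le_iff_mem]; exact Ideal.subset_span (by simp))
    have h2 := (isRegularLocalRing_iff R).1 ‹_›
    rw [hR, heq] at h2
    have : (Ideal.span {x₂}).spanFinrank ≤ 1 := by simpa [Ideal.span] using h1
    have h3 : ((Ideal.span {x₂}).spanFinrank : WithBot ℕ∞) ≤ 1 := by exact_mod_cast this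
    rw [h2] at h3
    exact absurd h3 (by decide)
  have hy₁ : algebraMap R A x₁ ≠ 0 := fun h => hx₁ (hinj (h.trans (map_zero _).symm))
  refine ⟨(IsRegular.of_ne_zero hy₁).left.isSMulRegular, ?_⟩
  rw [isSMulRegular_iff_right_eq_zero_of_smul]
  intro z hz
  by_contra hz0
  obtain ⟨z, rfl⟩ := Submodule.Quotient.mk_surjective _ z
  have he : algebraMap R A x₁ • (⊤ : Submodule A A) = Ideal.span {algebraMap R A x₁} := by
    rw [← Submodule.ideal_span_singleton_smul, smul_eq_mul, Ideal.mul_top]
  rw [← Submodule.Quotient.mk_smul, Submodule.Quotient.mk_eq_zero, he] at hz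
  have hzn : z ∉ Ideal.span {algebraMap R A x₁} := fun h => hz0 ((Submodule.Quotient.mk_eq_zero _).2 (he ▸ h))
  obtain ⟨P, hP, hle⟩ := exists_le_isAssociatedPrime_of_isNoetherianRing A
    (Submodule.Quotient.mk z : A ⧸ Ideal.span {algebraMap R A x₁})
    (fun h => hzn ((Submodule.Quotient.mk_eq_zero _).1 h))
  have hPp : P.IsPrime := hP.isPrime
  have hht := Groth.L01.height_eq_one_of_mem_associatedPrimes hy₁ (p := P) hP
  have hcol : ∀ y : A, y * z ∈ Ideal.span {algebraMap R A x₁} → y ∈ P := fun y hy => hle (by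
    rw [Submodule.mem_colon_singleton, Submodule.mem_bot, ← Submodule.Quotient.mk_smul, Submodule.Quotient.mk_eq_zero]
    exact hy)
  have h1 : algebraMap R A x₁ ∈ P := hcol _ (Ideal.mul_mem_right _ _ (Ideal.mem_span_singleton_self _))
  have h2 : algebraMap R A x₂ ∈ P := hcol _ hz
  have hm : maximalIdeal R ≤ P.comap (algebraMap R A) := by
    rw [← hgen, hl, Ideal.ofList, Ideal.span_le]
    intro y hy
    simp only [List.mem_cons, List.not_mem_nil, or_false, Set.mem_ofPred_eq] at hy
    rcases hy with rfl | rfl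
    · exact h1
    · exact h2
  have hmax : P.IsMaximal := by
    have hc : (P.comap (algebraMap R A)).IsMaximal :=
      (maximalIdeal.isMaximal R).eq_of_le (Ideal.comap_ne_top _ hPp.ne_top) hm ▸ maximalIdeal.isMaximal R
    exact Ideal.isMaximal_of_isIntegral_of_isMaximal_comap P hc
  have := maximalIdeal_height_eq_ringKrullDim (R := A)
  rw [hA, ← eq_maximalIdeal hmax, hht] at this
  exact absurd this (by decide)

variable {R : Type u} [CommRing R] [IsLocalRing R] [IsNoetherianRing R] [IsDomain R] [IsIntegrallyClosed R]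
  {A : Type v} [CommRing A] [IsDomain A] [IsLocalRing A] [Algebra R A] [Module.Finite R A]
  {H : Type w} [Group H] [Finite H] [MulSemiringAction H A] [SMulCommClass H R A] [FaithfulSMul H A]

/-- unramified in codimension one and free implies trivial -/
theorem subsingleton_of_unramified (hinj : Function.Injective (algebraMap R A))
    (hres : Function.Surjective (IsLocalRing.residue A ∘ algebraMap R A)) [Module.Free R A]
    (hfix : ∀ a : A, (∀ h : H, h • a = a) → a ∈ Set.range (algebraMap R A))
    (hcomm : ∀ g h : H, g * h = h * g)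
    (hunr : ∀ P : Ideal A, P.IsPrime → P.height = 1 → P.inertia H = ⊥) : Subsingleton H := by
  classical
  cases nonempty_fintype H
  have hker : RingHom.ker (algebraMap R A) = ⊥ := (RingHom.injective_iff_ker_eq_bot _).1 hinj
  let tr : A →ₗ[R] A := ∑ h : H, (MulSemiringAction.toAlgHom R A h).toLinearMap
  have htr : ∀ a, tr a = ∑ h : H, h • a := fun a => by simp [tr]
  have htrmem : ∀ a, tr a ∈ LinearMap.range (Algebra.linearMap R A) := fun a => hfix _ fun g => by
    rw [htr, Finset.smul_sum]
    exact Fintype.sum_equiv (Equiv.mulLeft g) _ _ fun h => by rw [← mul_smul]; rfl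
  let trR : A →ₗ[R] R := (LinearEquiv.ofInjective (Algebra.linearMap R A) hinj).symm.toLinearMap.comp
    (LinearMap.codRestrict _ tr htrmem)
  have htrR : ∀ a, algebraMap R A (trR a) = ∑ h : H, h • a := fun a => by
    rw [← htr]
    exact congrArg Subtype.val ((LinearEquiv.ofInjective (Algebra.linearMap R A) hinj).apply_symm_apply ⟨tr a, htrmem a⟩)
  let ψ : A →ₗ[R] (A →ₗ[R] R) := (LinearMap.mul R A).compr₂ trR
  have hψ : ∀ z a, ψ z a = trR (z * a) := fun z a => rfl
  have hloc : ∀ q : Ideal R, q.IsPrime →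
      (∀ P : Ideal A, P.IsPrime → P.comap (algebraMap R A) = q → P.inertia H ≤ ⊥) →
      ∃ c ∉ q, (∀ φ : A →ₗ[R] R, ∃ z, c • φ = ψ z) ∧ ∀ z, ψ z = 0 → c • z = 0 := by
    intro q _ hI
    have : ∀ τ : H, ∃ f : H → A, Tr (⊤ : Subalgebra R A) f ∧ (τ ≠ 1 → f τ = 0) ∧ ∃ c ∉ q, f 1 = algebraMap R A c := by
      intro τ
      by_cases hτ : τ = 1
      · exact ⟨fun _ => 1, Tr.const trivial, fun h => absurd hτ h, 1,
          fun h => (inferInstance : q.IsPrime).ne_top ((Ideal.eq_top_iff_one q).2 h), (map_one _).symm⟩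
      · obtain ⟨f, hf, hfτ, c, hc, hf1⟩ := exists_tr (C := (⊤ : Subalgebra R A)) hcomm (⊥ : Subgroup H) ⊤
          (fun y => iff_of_true trivial fun k hk => by rw [Subgroup.mem_bot.1 hk, one_smul]) le_rfl q hker hI τ
          (fun h => hτ (Subgroup.mem_bot.1 h))
        exact ⟨f, hf, fun _ => hfτ, c, hc, hf1⟩
    choose f hf hf0 c hc hf1 using this
    have hF := Tr.prod Finset.univ fun τ _ => hf τ
    have hsum : ∀ a : A, ∑ τ : H, (∏ σ, f σ) τ * τ • a = (∏ σ, c σ) • a := fun a => by
      rw [Finset.sum_eq_single (1 : H)]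
      · rw [one_smul, Finset.prod_apply, Finset.prod_congr rfl (fun σ _ => hf1 σ), ← map_prod, ← Algebra.smul_def]
      · intro τ _ hτ
        rw [Finset.prod_apply]
        exact mul_eq_zero_of_left (Finset.prod_eq_zero (f := fun c => f c τ) (Finset.mem_univ τ) (hf0 τ hτ)) _
      · intro h; exact absurd (Finset.mem_univ _) h
    refine ⟨∏ σ, c σ, fun h => ?_, fun φ => ?_, fun z hz => ?_⟩
    · obtain ⟨τ, -, hτ⟩ := (inferInstance : q.IsPrime).prod_mem_iff.1 h
      exact hc τ hτ
    · suffices ∀ f : H → A, Tr (⊤ : Subalgebra R A) f → ∃ z, ∀ a, φ (∑ τ : H, f τ * τ • a) = ψ z a by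
        obtain ⟨z, hz⟩ := this _ hF
        exact ⟨z, LinearMap.ext fun a => by rw [← hz, hsum, map_smul]; rfl⟩
      intro f hf
      induction hf with
      | @pair x y hx hy =>
        refine ⟨φ x • y, fun a => ?_⟩
        simp only [mul_assoc, ← smul_mul', ← Finset.mul_sum, ← htrR]
        rw [mul_comm x, ← Algebra.smul_def, map_smul, hψ, smul_mul_assoc, map_smul, smul_eq_mul, smul_eq_mul, mul_comm]
      | @add f g _ _ h1 h2 =>
        obtain ⟨z, hz⟩ := h1
        obtain ⟨z', hz'⟩ := h2
        refine ⟨z + z', fun a => ?_⟩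
        simp only [Pi.add_apply, add_mul, Finset.sum_add_distrib, map_add, LinearMap.add_apply, hz, hz']
    · suffices ∀ f : H → A, Tr (⊤ : Subalgebra R A) f → ∑ τ : H, f τ * τ • z = 0 by
        rw [← hsum]; exact this _ hF
      intro f hf
      induction hf with
      | @pair x y hx hy =>
        simp only [mul_assoc, ← smul_mul', ← Finset.mul_sum, ← htrR]
        rw [show trR (y * z) = ψ z y by rw [hψ, mul_comm], hz, LinearMap.zero_apply, map_zero, mul_zero]
      | @add f g _ _ h1 h2 =>
        simp only [Pi.add_apply, add_mul, Finset.sum_add_distrib, h1, h2, add_zero]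
  have : Algebra.IsIntegral R A := Algebra.IsIntegral.of_finite R A
  obtain ⟨c₀, hc₀, hφ₀, hz₀⟩ := hloc ⊥ inferInstance fun P hP hPq => by
    have hP0 : P = ⊥ := Ideal.eq_bot_of_comap_eq_bot hPq
    intro h hh
    rw [Subgroup.mem_bot]
    refine FaithfulSMul.eq_of_smul_eq_smul fun a : A => ?_
    have h2 := hh a
    rw [hP0, Submodule.mem_toAddSubgroup, Ideal.mem_bot, sub_eq_zero] at h2
    rw [h2, one_smul]
  have hc₀' : c₀ ≠ 0 := fun h => hc₀ (h ▸ zero_mem _)
  have hsurj : ∀ φ : A →ₗ[R] R, ∃ z, φ = ψ z := by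
    intro φ
    obtain ⟨z₀, hz₀'⟩ := hφ₀ φ
    let b := Module.Free.chooseBasis R A
    have hdvd : ∀ i, c₀ ∣ b.repr z₀ i := fun i => by
      refine mem_range_of_codimOne hc₀' fun q hq hqh => ?_
      obtain ⟨c, hc, hφc, -⟩ := hloc q hq fun P hP hPq => by
        refine le_of_eq (hunr P hP (le_antisymm ?_ ?_))
        · rw [← hqh, PrimeSpectrum.height_eq_orderHeight ⟨P, hP⟩, PrimeSpectrum.height_eq_orderHeight ⟨q, hq⟩]
          refine (Order.height_le_height_apply_of_strictMono (PrimeSpectrum.comap (algebraMap R A))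
            (fun I J h => Ideal.IsIntegral.comap_lt_comap (I := I.asIdeal) (J := J.asIdeal) h) ⟨P, hP⟩).trans_eq ?_
          exact congrArg Order.height (PrimeSpectrum.ext hPq)
        · rw [ENat.one_le_iff_ne_zero]
          intro h0
          have h1 : P = ⊥ := by
            by_contra hne
            have := Ideal.height_add_one_le_of_lt_of_isPrime (I := (⊥ : Ideal A)) (J := P) (bot_lt_iff_ne_bot.2 hne)
            rw [h0] at this
            simp at this
          subst h1
          rw [← RingHom.ker_eq_comap_bot, hker] at hPq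
          rw [← hPq, Ideal.height_bot] at hqh
          exact zero_ne_one hqh
      obtain ⟨z, hz⟩ := hφc φ
      have h3 : ψ (c • z₀ - c₀ • z) = 0 := by rw [map_sub, map_smul, map_smul, ← hz, ← hz₀', smul_comm, sub_self]
      have h4 := hz₀ _ h3
      rcases smul_eq_zero.1 h4 with h | h
      · exact absurd h hc₀'
      · refine ⟨c, hc, b.repr z i, ?_⟩
        have := congrArg (fun t => b.repr t i) (sub_eq_zero.1 h)
        simpa using this
    choose g hg using hdvd
    refine ⟨∑ i, g i • b i, ?_⟩
    have h5 : c₀ • (∑ i, g i • b i) = z₀ := by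
      conv_rhs => rw [← b.sum_repr z₀]
      rw [Finset.smul_sum]
      exact Finset.sum_congr rfl fun i _ => by rw [hg, smul_smul]
    refine smul_right_injective (A →ₗ[R] R) hc₀' ?_
    show c₀ • φ = c₀ • ψ _
    rw [← map_smul, h5, hz₀']
  -- the maximal ideal of `A` comes from `R`
  let b := Module.Free.chooseBasis R A
  have hloc' : IsLocalHom (algebraMap R A) := by
    have : FaithfulSMul R A := (faithfulSMul_iff_algebraMap_injective R A).2 hinj
    exact Algebra.IsIntegral.isLocalHom R A
  have hm : ∀ t ∈ maximalIdeal A, ∀ i, b.repr t i ∈ maximalIdeal R := by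
    intro t ht i
    obtain ⟨z, hz⟩ := hsurj (b.coord i)
    rw [show b.repr t i = trR (z * t) from LinearMap.congr_fun hz t]
    intro hu
    have h1 := hu.map (algebraMap R A)
    rw [htrR] at h1
    refine (IsLocalRing.mem_maximalIdeal _).1 ?_ h1
    refine sum_mem fun h _ => ?_
    rw [mem_maximalIdeal, mem_nonunits_iff]
    intro hu'
    have := (IsUnit.map (MulSemiringAction.toRingHom H A h⁻¹) hu')
    rw [MulSemiringAction.toRingHom_apply, inv_smul_smul] at this
    exact (mem_maximalIdeal _).1 (Ideal.mul_mem_left _ z ht) this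
  have htop : Submodule.span R ({1} : Set A) = ⊤ := by
    refine top_le_iff.1 (Submodule.le_of_le_smul_of_le_jacobson_bot (Module.finite_def.1 inferInstance)
      (le_of_eq (IsLocalRing.jacobson_eq_maximalIdeal (R := R) ⊥ bot_ne_top).symm) ?_)
    intro a _
    obtain ⟨r, hr⟩ := hres (IsLocalRing.residue A a)
    have ht : a - algebraMap R A r ∈ maximalIdeal A := by
      rw [← IsLocalRing.residue_eq_zero_iff, map_sub, ← hr]; exact sub_self _
    refine Submodule.mem_sup.2 ⟨algebraMap R A r, Submodule.mem_span_singleton.2 ⟨r, by rw [Algebra.smul_def, mul_one]⟩,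
      a - algebraMap R A r, ?_, add_sub_cancel _ _⟩
    rw [← b.sum_repr (a - algebraMap R A r)]
    exact sum_mem fun i _ => Submodule.smul_mem_smul (hm _ ht i) Submodule.mem_top
  refine ⟨fun g h => FaithfulSMul.eq_of_smul_eq_smul fun a : A => ?_⟩
  have ha : a ∈ Submodule.span R ({1} : Set A) := by rw [htop]; trivial
  obtain ⟨r, rfl⟩ := Submodule.mem_span_singleton.1 ha
  simp only [smul_comm _ r, smul_one]

/-- in a cyclic group of order `p^2` two subgroups of order `p` coincide -/
theorem inf_ne_bot_of_isCyclic {G : Type w} [Group G] [Finite G] [IsCyclic G] {p : ℕ} (hp : p.Prime)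
    {I Γ : Subgroup G} (hI : Nat.card I = p) (hΓ : Nat.card Γ = p) : I ⊓ Γ ≠ ⊥ := by
  classical
  intro h
  cases nonempty_fintype G
  have hsub : ∀ (S : Subgroup G), Nat.card S = p → (S : Set G).toFinset ⊆ Finset.univ.filter fun x => x ^ p = 1 := by
    intro S hS x hx
    rw [Set.mem_toFinset] at hx
    rw [Finset.mem_filter]
    refine ⟨Finset.mem_univ _, ?_⟩
    have := pow_card_eq_one' (x := (⟨x, hx⟩ : S))
    rw [hS] at this
    exact congrArg Subtype.val this
  have h1 := Finset.card_le_card (Finset.union_subset (hsub I hI) (hsub Γ hΓ))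
  have h2 := Finset.card_union_add_card_inter (I : Set G).toFinset (Γ : Set G).toFinset
  have h3 : ((I : Set G).toFinset ∩ (Γ : Set G).toFinset).card ≤ 1 := by
    refine Finset.card_le_one.2 fun x hx y hy => ?_
    simp only [Finset.mem_inter, Set.mem_toFinset] at hx hy
    have hx' : x ∈ I ⊓ Γ := hx
    have hy' : y ∈ I ⊓ Γ := hy
    rw [h, Subgroup.mem_bot] at hx' hy'
    rw [hx', hy']
  have h4 : (I : Set G).toFinset.card = p := by
    rw [Set.toFinset_card, ← Nat.card_eq_fintype_card]; exact hI
  have h5 : (Γ : Set G).toFinset.card = p := by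
    rw [Set.toFinset_card, ← Nat.card_eq_fintype_card]; exact hΓ
  have h6 : (Finset.univ.filter fun x : G => x ^ p = 1).card ≤ p := IsCyclic.card_pow_eq_one_le hp.pos
  have := hp.two_le
  omega

end Groth.L13.Wild.Inv
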