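import Mathlib.RingTheory.PowerSeries.Inverse
import Mathlib.RingTheory.PowerSeries.Order
import Mathlib.Algebra.CharP.Lemmas
import Mathlib.RingTheory.Localization.FractionRing
import Mathlib.RingTheory.IntegralClosure.IntegrallyClosed
import Mathlib.RingTheory.Polynomial.RationalRoot
import Mathlib.FieldTheory.Finite.Basic

/-! Automorphisms of order `p` of `k[[X]]` in characteristic `p`. -/

set_option autoImplicit false

noncomputable section

open PowerSeries

universe u

namespace Groth.L13.Wild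

variable {k : Type u} [Field k]

/-- `g` has order exactly `j`. -/
def Ord (g : PowerSeries k) (j : ℕ) : Prop := ∃ u : PowerSeries k, IsUnit u ∧ g = X ^ j * u

theorem exists_ord {g : PowerSeries k} (hg : g ≠ 0) : ∃ j, Ord g j :=
  ⟨_, _, isUnit_iff_constantCoeff.2 (isUnit_iff_ne_zero.2 fun h =>
    hg (constantCoeff_divXPowOrder_eq_zero_iff.1 h)), X_pow_order_mul_divXPowOrder.symm⟩

theorem Ord.ne_zero {g : PowerSeries k} {j : ℕ} (h : Ord g j) : g ≠ 0 := by
  obtain ⟨u, hu, rfl⟩ := h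
  exact mul_ne_zero (pow_ne_zero _ X_ne_zero) hu.ne_zero

theorem Ord.mul {g g' : PowerSeries k} {j j' : ℕ} (h : Ord g j) (h' : Ord g' j') : Ord (g * g') (j + j') := by
  obtain ⟨u, hu, rfl⟩ := h
  obtain ⟨v, hv, rfl⟩ := h'
  exact ⟨u * v, hu.mul hv, by rw [pow_add]; ring⟩

theorem ord_one : Ord (1 : PowerSeries k) 0 := ⟨1, isUnit_one, by simp⟩

theorem Ord.pow {g : PowerSeries k} {j : ℕ} (h : Ord g j) : ∀ n, Ord (g ^ n) (j * n)
  | 0 => by simpa using ord_one
  | n + 1 => by rw [pow_succ, Nat.mul_succ]; exact (h.pow n).mul h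

theorem Ord.dvd_iff {g : PowerSeries k} {j : ℕ} (h : Ord g j) (n : ℕ) : X ^ n ∣ g ↔ n ≤ j := by
  obtain ⟨u, hu, rfl⟩ := h
  constructor
  · intro hd
    by_contra hlt
    push Not at hlt
    have h1 : X ^ j * X ∣ X ^ j * u := (dvd_trans (pow_dvd_pow X (Nat.succ_le_of_lt hlt)) hd).trans dvd_rfl |>.trans dvd_rfl
    have h2 := X_dvd_iff.1 ((mul_dvd_mul_iff_left (pow_ne_zero j X_ne_zero)).1 h1)
    have h3 := isUnit_iff_constantCoeff.1 hu
    rw [h2] at h3
    exact not_isUnit_zero h3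
  · intro hn; exact Dvd.dvd.mul_right (pow_dvd_pow X hn) u

theorem Ord.unique {g : PowerSeries k} {j j' : ℕ} (h : Ord g j) (h' : Ord g j') : j = j' :=
  le_antisymm ((h'.dvd_iff j).1 ((h.dvd_iff j).2 le_rfl)) ((h.dvd_iff j').1 ((h'.dvd_iff j').2 le_rfl))

theorem Ord.order_eq {g : PowerSeries k} {j : ℕ} (h : Ord g j) : g.order = (j : ℕ∞) := by
  obtain ⟨u, hu, rfl⟩ := h
  rw [order_mul, order_pow, order_X, order_zero_of_unit hu]
  simp

theorem ord_of_order_eq {g : PowerSeries k} {j : ℕ} (h : g.order = (j : ℕ∞)) : Ord g j := by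
  have hne : g ≠ 0 := fun h0 => by rw [h0, order_zero] at h; exact ENat.top_ne_coe j h
  obtain ⟨i, hi⟩ := exists_ord hne
  have := hi.order_eq.symm.trans h
  rw [Nat.cast_inj] at this
  exact this ▸ hi

theorem Ord.add_of_dvd {g g' : PowerSeries k} {j : ℕ} (h : Ord g j) (h' : X ^ (j + 1) ∣ g') : Ord (g + g') j := by
  obtain ⟨u, hu, rfl⟩ := h
  obtain ⟨v, rfl⟩ := h'
  refine ⟨u + X * v, isUnit_iff_constantCoeff.2 ?_, by rw [pow_succ]; ring⟩
  simpa using isUnit_iff_constantCoeff.1 hu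

section Auto

variable {p : ℕ} [Fact p.Prime] [CharP k p] (σ : PowerSeries k ≃ₐ[k] PowerSeries k)

omit [Fact p.Prime] [CharP k p] in
theorem exists_X_mul : ∃ w : PowerSeries k, IsUnit w ∧ σ X = X * w := by
  have hne : σ X ≠ 0 := fun h => X_ne_zero (σ.injective (h.trans (map_zero σ).symm))
  obtain ⟨j, u, hu, he⟩ := exists_ord hne
  obtain _ | _ | j := j
  · exfalso
    rw [pow_zero, one_mul] at he
    have h1 : IsUnit (σ X) := he ▸ hu
    have h2 : IsUnit (X : PowerSeries k) := by simpa using h1.map σ.symm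
    have h3 := isUnit_iff_constantCoeff.1 h2
    simp at h3
  · exact ⟨u, hu, by simpa using he⟩
  · exfalso
    have h1 := congrArg σ.symm he
    simp only [AlgEquiv.symm_apply_apply, map_mul, map_pow] at h1
    have h2 : X ∣ σ.symm X := by
      rw [X_dvd_iff]
      by_contra h
      have h3 : IsUnit (σ.symm X) := isUnit_iff_constantCoeff.2 (isUnit_iff_ne_zero.2 h)
      have h4 : IsUnit (X : PowerSeries k) := by simpa using h3.map σ
      have h5 := isUnit_iff_constantCoeff.1 h4
      simp at h5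
    have h6 : (X : PowerSeries k) ^ 2 ∣ X := by
      conv_rhs => rw [h1]
      exact Dvd.dvd.mul_right ((pow_dvd_pow_of_dvd h2 2).trans (pow_dvd_pow _ (by omega))) _
    have h7 := (Ord.dvd_iff (j := 1) (g := (X : PowerSeries k)) ⟨1, isUnit_one, by simp⟩ 2).1 h6
    omega

omit [Fact p.Prime] [CharP k p] in
theorem constantCoeff_sigma (g : PowerSeries k) : constantCoeff (σ g) = constantCoeff g := by
  obtain ⟨w, -, hw⟩ := exists_X_mul σ
  obtain ⟨g', hg'⟩ : X ∣ g - C (constantCoeff g) := X_dvd_iff.2 (by simp)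
  have h := congrArg σ hg'
  rw [map_sub, map_mul, hw, show σ (C (constantCoeff g)) = C (constantCoeff g) from σ.commutes _] at h
  have := congrArg constantCoeff h
  simp at this
  linear_combination this

theorem exists_break (hσp : σ ^ p = 1) {m : ℕ} (hm : (σ X - X).order = ((m + 1 : ℕ) : ℕ∞)) :
    1 ≤ m ∧ ∃ e : PowerSeries k, Ord e m ∧ σ X = X * (1 + e) := by
  obtain ⟨w, hw, hwX⟩ := exists_X_mul σ
  have hiter : ∀ i : ℕ, ∃ u : PowerSeries k, (σ ^ i) X = X * u ∧ constantCoeff u = constantCoeff w ^ i := by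
    intro i
    induction i with
    | zero => exact ⟨1, by simp, by simp⟩
    | succ i ih =>
      obtain ⟨u, hu, hc⟩ := ih
      refine ⟨w * σ u, ?_, by rw [map_mul, constantCoeff_sigma, hc, pow_succ']⟩
      rw [pow_succ', AlgEquiv.mul_apply, hu, map_mul, hwX, mul_assoc]
  obtain ⟨u, hu, hc⟩ := hiter p
  rw [hσp, AlgEquiv.one_apply] at hu
  have hu1 : u = 1 := mul_left_cancel₀ X_ne_zero (hu.symm.trans (mul_one X).symm)
  rw [hu1, map_one] at hc
  have hc1 : constantCoeff w = 1 := by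
    have : (constantCoeff w - 1) ^ p = 0 := by rw [sub_pow_char, one_pow, ← hc, sub_self]
    exact sub_eq_zero.1 (pow_eq_zero_iff'.1 this).1
  have hsub : σ X - X = X * (w - 1) := by rw [hwX]; ring
  have hne : w - 1 ≠ 0 := fun h => by
    have := ord_of_order_eq hm
    exact this.ne_zero (by rw [hsub, h, mul_zero])
  obtain ⟨j, hj⟩ := exists_ord hne
  have hj1 : Ord (σ X - X) (1 + j) := hsub ▸ (Ord.mul ⟨1, isUnit_one, by simp⟩ hj)
  have hjm := hj1.unique (ord_of_order_eq hm)
  refine ⟨?_, w - 1, by rwa [show m = j by omega], by rw [hwX]; ring⟩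
  by_contra hm0
  have h1 : X ^ 1 ∣ w - 1 := by rw [pow_one, X_dvd_iff]; simp [hc1]
  have := (hj.dvd_iff 1).1 h1
  omega

omit [Fact p.Prime] [CharP k p] in
theorem dvd_sub_self {N : ℕ} (h : X ^ N ∣ σ X - X) (g : PowerSeries k) : X ^ N ∣ σ g - g := by
  suffices H : ∀ n, n ≤ N → ∀ g : PowerSeries k, X ^ n ∣ σ g - g from H N le_rfl g
  intro n
  induction n with
  | zero => simp
  | succ n ih =>
    intro hn g
    obtain ⟨g', hg'⟩ : X ∣ g - C (constantCoeff g) := X_dvd_iff.2 (by simp)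
    have h1 := congrArg σ hg'
    rw [map_sub, map_mul, show σ (C (constantCoeff g)) = C (constantCoeff g) from σ.commutes _] at h1
    have e : σ g - g = (σ X - X) * σ g' + X * (σ g' - g') := by linear_combination h1 - hg'
    rw [e]
    refine dvd_add (Dvd.dvd.mul_right ((pow_dvd_pow X hn).trans h) _) ?_
    rw [pow_succ']
    exact mul_dvd_mul_left _ (ih (by omega) g')

theorem ord_sub_self (hσp : σ ^ p = 1) {m : ℕ} (hm : (σ X - X).order = ((m + 1 : ℕ) : ℕ∞))
    {g : PowerSeries k} {j : ℕ} (hg : Ord g j) (hpj : ¬ p ∣ j) : Ord (σ g - g) (j + m) := by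
  obtain ⟨hm1, e, he, heX⟩ := exists_break σ hσp hm
  have hdvd := dvd_sub_self σ (((ord_of_order_eq hm).dvd_iff _).2 le_rfl)
  obtain ⟨u, hu, rfl⟩ := hg
  have hS : Ord (∑ i ∈ Finset.range j, (1 + e) ^ i) 0 := by
    refine ⟨∑ i ∈ Finset.range j, (1 + e) ^ i, ?_, by simp⟩
    rw [PowerSeries.isUnit_iff_constantCoeff, isUnit_iff_ne_zero]
    have he0 : constantCoeff e = 0 := X_dvd_iff.1 (by simpa only [pow_one] using (he.dvd_iff 1).2 hm1)
    simp [he0]
    rwa [CharP.cast_eq_zero_iff k p]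
  have key : Ord (X ^ j * ((e * ∑ i ∈ Finset.range j, (1 + e) ^ i) * σ u)) (j + ((m + 0) + 0)) :=
    Ord.mul ⟨1, isUnit_one, by simp⟩ ((he.mul hS).mul ⟨σ u, hu.map σ, by simp⟩)
  have e1 : σ (X ^ j * u) - X ^ j * u =
      X ^ j * ((e * ∑ i ∈ Finset.range j, (1 + e) ^ i) * σ u) + X ^ j * (σ u - u) := by
    have hgeom := geom_sum_mul (1 + e) j
    rw [map_mul, map_pow, heX, mul_pow]
    linear_combination (-(X ^ j * σ u)) * hgeom
  rw [e1]
  simp only [add_zero] at key
  refine key.add_of_dvd ?_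
  rw [show j + m + 1 = j + (m + 1) by ring, pow_add]
  exact mul_dvd_mul_left _ (hdvd u)

/-- The norm of `X`. -/
def normX (p : ℕ) : PowerSeries k := ∏ i ∈ Finset.range p, (σ ^ i) X

omit [Fact p.Prime] [CharP k p] in
theorem ord_normX (n : ℕ) : Ord (∏ i ∈ Finset.range n, (σ ^ i) X) n := by
  induction n with
  | zero => simpa using ord_one
  | succ n ih =>
    rw [Finset.prod_range_succ]
    refine ih.mul ?_
    obtain ⟨w, hw, hwX⟩ := exists_X_mul (σ ^ n)
    exact ⟨w, hw, by rw [hwX, pow_one]⟩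

theorem sigma_normX (hσp : σ ^ p = 1) : σ (normX σ p) = normX σ p := by
  rw [normX, map_prod]
  simp only [← AlgEquiv.mul_apply, ← pow_succ']
  obtain ⟨q, hq⟩ : ∃ q, p = q + 1 := ⟨p - 1, by have := (Fact.out : p.Prime).pos; omega⟩
  rw [hq] at hσp ⊢
  rw [Finset.prod_range_succ, hσp, Finset.prod_range_succ' (fun i => (σ ^ i) X)]
  simp

theorem conductor (hσp : σ ^ p = 1) {m : ℕ} (hm : (σ X - X).order = ((m + 1 : ℕ) : ℕ∞))
    {f : PowerSeries k} (hfσ : σ f = f) (hf0 : constantCoeff f ≠ 0) {μ : ℕ} (hμ : 0 < μ) (hpμ : ¬ p ∣ μ)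
    {y : PowerSeries k} (hy : y ^ p - normX σ p ^ (μ * (p - 1)) * y = f * normX σ p ^ (μ * (p - 1))) : μ = m := by
  have hp := (Fact.out : p.Prime).two_le
  set P := normX σ p ^ (μ * (p - 1)) with hP
  have hPo : Ord P (p * (μ * (p - 1))) := (ord_normX σ p).pow _
  have hfu : Ord f 0 := ⟨f, isUnit_iff_constantCoeff.2 (isUnit_iff_ne_zero.2 hf0), by simp⟩
  have hR : Ord (f * P) (0 + p * (μ * (p - 1))) := hfu.mul hPo
  rw [zero_add] at hR
  have hy0 : y ≠ 0 := by
    rintro rfl
    rw [zero_pow (by omega), mul_zero, sub_zero] at hy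
    exact hR.ne_zero hy.symm
  obtain ⟨a, ha⟩ := exists_ord hy0
  have haμ : a = μ * (p - 1) := by
    rcases lt_trichotomy a (μ * (p - 1)) with h | h | h
    · exfalso
      have h1 : Ord (y ^ p + -(P * y)) (a * p) := (ha.pow p).add_of_dvd
        (dvd_neg.2 (((hPo.mul ha).dvd_iff _).2 (by nlinarith)))
      rw [← sub_eq_add_neg, hy] at h1
      have := h1.unique hR
      nlinarith
    · exact h
    · exfalso
      have h1 : X ^ (p * (μ * (p - 1)) + 1) ∣ f * P := by
        rw [← hy]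
        exact dvd_sub (((ha.pow p).dvd_iff _).2 (by nlinarith)) (((hPo.mul ha).dvd_iff _).2 (by omega))
      have := (hR.dvd_iff _).1 h1
      omega
  have hpa : ¬ p ∣ a := by
    rw [haμ]
    intro h
    rcases (Fact.out : p.Prime).dvd_mul.1 h with h | h
    · exact hpμ h
    · exact absurd (Nat.le_of_dvd (by omega) h) (by omega)
  have hd := ord_sub_self σ hσp hm ha hpa
  have hPfix : σ P = P := by rw [hP, map_pow, sigma_normX σ hσp]
  have h2 := congrArg σ hy
  rw [map_sub, map_pow, map_mul, map_mul, hPfix, hfσ] at h2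
  haveI : CharP (PowerSeries k) p := charP_of_injective_algebraMap (algebraMap k (PowerSeries k)).injective p
  have h3 : (σ y - y) ^ p = P * (σ y - y) := by
    rw [sub_pow_char]; linear_combination h2 - hy
  have h4 := Ord.unique (hd.pow p) (h3 ▸ hPo.mul hd)
  obtain ⟨q, rfl⟩ : ∃ q, p = q + 1 := ⟨p - 1, by omega⟩
  rw [Nat.add_sub_cancel] at haμ h4
  have h5 : q * (a + m) = q * ((q + 1) * μ) := by nlinarith
  have h6 := Nat.eq_of_mul_eq_mul_left (by omega) h5
  nlinarith

theorem dvd_order_of_fixed (hσp : σ ^ p = 1) {m : ℕ} (hm : (σ X - X).order = ((m + 1 : ℕ) : ℕ∞))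
    {g : PowerSeries k} {j : ℕ} (hg : Ord g j) (hfix : σ g = g) : p ∣ j := by
  by_contra h
  exact (ord_sub_self σ hσp hm hg h).ne_zero (sub_eq_zero.2 hfix)

theorem exists_translation (hσp : σ ^ p = 1) {m : ℕ} (hm : (σ X - X).order = ((m + 1 : ℕ) : ℕ∞))
    (hdvd : p ∣ m + 1) : ∃ s a : PowerSeries k, s.order = 1 ∧ σ a = a ∧ σ s = s + a := by
  have hp := (Fact.out : p.Prime).two_le
  haveI : CharP (PowerSeries k) p := charP_of_injective_algebraMap (algebraMap k (PowerSeries k)).injective p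
  let D : PowerSeries k → PowerSeries k := fun g => σ g - g
  obtain ⟨r, hr⟩ := hdvd
  -- the starting exponent `j ≡ p - 1`
  obtain ⟨l, j, hj, hlj⟩ : ∃ l j, j + (p - 2) * m = p * l + 1 ∧ j % p = p - 1 := by
    refine ⟨(p - 2) * r, 1 + (p - 2), ?_, ?_⟩
    · have : (p - 2) * (m + 1) = (p - 2) * (p * r) := by rw [hr]
      nlinarith
    · rw [show 1 + (p - 2) = p - 1 by omega, Nat.mod_eq_of_lt (by omega)]
  have hiter : ∀ i, i ≤ p - 2 → Ord (D^[i] (X ^ j)) (j + i * m) := by
    intro i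
    induction i with
    | zero => intro _; exact ⟨1, isUnit_one, by simp⟩
    | succ i ih =>
      intro hi
      rw [Function.iterate_succ_apply', show j + (i + 1) * m = j + i * m + m by ring]
      refine ord_sub_self σ hσp hm (ih (by omega)) fun h => ?_
      obtain ⟨c, hc⟩ := h
      have h1 : ((j + i * m : ℕ) : ZMod p) = 0 := by rw [hc]; simp
      have h2 : ((m + 1 : ℕ) : ZMod p) = 0 := by rw [hr]; simp
      have h3 : ((i + 1 : ℕ) : ZMod p) = 0 := by
        have h4 : ((j : ℕ) : ZMod p) = ((p - 1 : ℕ) : ZMod p) := by rw [← hlj, ZMod.natCast_mod]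
        push_cast at h1 h2 ⊢
        rw [h4, Nat.cast_sub (by omega), CharP.cast_eq_zero] at h1
        push_cast at h1
        linear_combination -h1 + (i : ZMod p) * h2
      rw [CharP.cast_eq_zero_iff (ZMod p) p] at h3
      exact absurd (Nat.le_of_dvd (by omega) h3) (by omega)
  set s' := D^[p - 2] (X ^ j) with hs'
  have hs'o : Ord s' (p * l + 1) := hj ▸ hiter (p - 2) le_rfl
  have hDfix : σ (D s') = D s' := by
    have hlin : ∀ (n : ℕ) (g : PowerSeries k), D^[n] g = ((σ.toAlgHom.toLinearMap - 1) ^ n : Module.End k (PowerSeries k)) g := by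
      intro n
      induction n with
      | zero => intro g; rfl
      | succ n ih => intro g; rw [Function.iterate_succ_apply', pow_succ', Module.End.mul_apply, ← ih]; rfl
    have h0 : D^[p] (X ^ j) = 0 := by
      rw [hlin]
      haveI : CharP (Module.End k (PowerSeries k)) p :=
        charP_of_injective_algebraMap (FaithfulSMul.algebraMap_injective k _) p
      rw [sub_pow_char_of_commute p (Commute.one_right _), one_pow]
      have : ∀ n : ℕ, (σ.toAlgHom.toLinearMap ^ n : Module.End k (PowerSeries k)) = (σ ^ n).toAlgHom.toLinearMap := by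
        intro n
        induction n with
        | zero => rfl
        | succ n ih => rw [pow_succ', pow_succ', ih]; rfl
      rw [LinearMap.sub_apply, this, hσp]
      exact sub_self _
    have e : D^[p] (X ^ j) = D (D s') := by
      rw [show p = (p - 2) + 1 + 1 by omega, Function.iterate_succ_apply', Function.iterate_succ_apply']
    rw [e] at h0
    exact sub_eq_zero.1 h0
  have hN := (ord_normX σ p).pow l
  rw [← normX] at hN
  obtain ⟨v, hv, hNe⟩ := hN
  obtain ⟨u, hu, hse⟩ := hs'o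
  obtain ⟨v', hvv'⟩ := hv.exists_right_inv
  set s := X * u * v' with hs
  have hsN : normX σ p ^ l * s = s' := by
    rw [hNe, hse, hs, pow_succ]
    calc X ^ (p * l) * v * (X * u * v') = X ^ (p * l) * X * u * (v * v') := by ring
      _ = _ := by rw [hvv', mul_one]
  refine ⟨s, σ s - s, ?_, ?_, by ring⟩
  · have : Ord s 1 := ⟨u * v', hu.mul (IsUnit.of_mul_eq_one v (by rw [mul_comm]; exact hvv')), by rw [hs, pow_one, mul_assoc]⟩
    exact_mod_cast this.order_eq
  · have hNne : normX σ p ^ l ≠ 0 := by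
      rw [hNe]; exact mul_ne_zero (pow_ne_zero _ X_ne_zero) hv.ne_zero
    refine mul_left_cancel₀ hNne ?_
    have h1 : normX σ p ^ l * (σ s - s) = D s' := by
      rw [mul_sub, hsN]
      show _ = σ s' - s'
      conv_rhs => rw [← hsN, map_mul, map_pow, sigma_normX σ hσp]
      rw [hsN]
    have h2 := congrArg σ h1
    rw [map_mul, map_pow, sigma_normX σ hσp, hDfix, ← h1] at h2
    exact h2

end Auto

end Groth.L13.Wild
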