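import Groth.Agent.L13.Wild.OriginInv
import Groth.Agent.L13.Wild.FrobDescent

/-! Artin–Schreier shifts for actions ramified precisely at the origin. -/

set_option autoImplicit false
set_option linter.unusedSectionVars false

universe u v w

namespace Groth.L13.Wild.Origin

open IsLocalRing

variable {A : Type u} [CommRing A] [IsRegularLocalRing A] [IsAdicComplete (maximalIdeal A) A]
  {k : Type v} [Field k] [Algebra k A] {G : Type w} [Group G] [Finite G] [MulSemiringAction G A]
  (hk : Function.Surjective (residue A ∘ algebraMap k A))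
  (hGk : ∀ (σ : G) (c : k), σ • algebraMap k A c = algebraMap k A c)

theorem fixed_of_generator {σ : G} (hσ : ∀ g, g ∈ Subgroup.zpowers σ) {a : A} (h : σ • a = a) (g : G) : g • a = a := by
  have hst : σ ∈ MulAction.stabilizer G a := h
  exact (Subgroup.zpowers_le.2 hst : Subgroup.zpowers σ ≤ _) (hσ g)

include hk hGk in
/-- high powers of invariant nonunits are traces, hence shifts -/
theorem exists_shift {p : ℕ} [Fact p.Prime] [CharP A p] (hcard : Nat.card G = p)
    (hram : ∀ P : Ideal A, P.IsPrime → P ≠ maximalIdeal A → P.inertia G = ⊥)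
    {σ : G} (hσ : ∀ g, g ∈ Subgroup.zpowers σ) {x : A} (hfx : ∀ g : G, g • x = x) (hxm : x ∈ maximalIdeal A) :
    ∃ N, ∀ N' ≥ N, ∃ z : A, σ • z = z + x ^ N' := by
  classical
  cases nonempty_fintype G
  obtain ⟨hN, hfin⟩ := finite_and_noetherian hk hGk
  have := isIntegral (A := A) (G := G)
  have : SMulCommClass G (FixedPoints.subring A G) A := ⟨fun g b a => by
    show g • ((b : A) * a) = (b : A) * g • a
    rw [smul_mul', b.2 g]⟩
  have hinjB : Function.Injective (algebraMap (FixedPoints.subring A G) A) := Subtype.val_injective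
  have hord : orderOf σ = p := by rw [orderOf_eq_card_of_forall_mem_zpowers hσ, hcard]
  have hcomm : ∀ g h : G, g * h = h * g := fun g h => by
    have hcyc : IsCyclic G := isCyclic_of_prime_card hcard
    exact (IsCyclic.commGroup (α := G)).mul_comm g h
  let T : A →ₗ[FixedPoints.subring A G] A := ∑ τ : G, DistribSMul.toLinearMap (FixedPoints.subring A G) A τ
  have hT : ∀ a, T a = ∑ τ : G, τ • a := fun a => by simp [T]
  let J : Ideal (FixedPoints.subring A G) :=
    Submodule.comap (Algebra.linearMap (FixedPoints.subring A G) A) (LinearMap.range T)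
  let b : FixedPoints.subring A G := ⟨x, hfx⟩
  have hb : b ∈ J.radical := by
    rw [Ideal.radical_eq_sInf, Ideal.mem_sInf]
    intro Q hQ
    obtain ⟨hle, hQp⟩ := hQ
    by_contra hbQ
    obtain ⟨Q', -, hQ', hQQ⟩ := Ideal.exists_ideal_over_prime_of_isIntegral (R := FixedPoints.subring A G) (S := A) Q ⊥ (by
      rw [← RingHom.ker_eq_comap_bot, (RingHom.injective_iff_ker_eq_bot _).1 hinjB]
      exact bot_le)
    have hI : ∀ P : Ideal A, P.IsPrime → P.comap (algebraMap (FixedPoints.subring A G) A) = Q → P.inertia G = ⊥ := by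
      intro P hP hPQ
      refine hram P hP fun h => hbQ ?_
      rw [← hPQ, Ideal.mem_comap, h]
      exact hxm
    obtain ⟨y, hy⟩ := FrobDescent.exists_trace_notMem hcomm hinjB Q hI Q' hQQ
    refine hy ?_
    have hmem : (⟨∑ τ : G, τ • y, fun g => by
        rw [Finset.smul_sum]
        exact Fintype.sum_equiv (Equiv.mulLeft g) _ _ fun τ => by rw [← mul_smul]; rfl⟩ : FixedPoints.subring A G) ∈ J :=
      ⟨y, hT y⟩
    have := hle hmem
    rw [← hQQ, Ideal.mem_comap] at this
    exact this
  obtain ⟨N, y, hy0⟩ := hb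
  have hy : ∑ τ : G, τ • y = x ^ N := by rw [← hT]; exact hy0
  refine ⟨N, fun N' hN' => ?_⟩
  let s : ℕ → A := fun j => σ ^ j • (x ^ (N' - N) * y)
  refine ⟨-∑ j ∈ Finset.range p, (j : A) * s j, ?_⟩
  have hsum : ∑ j ∈ Finset.range p, s j = x ^ N' := by
    have hb : Function.Bijective (fun j : Fin p => σ ^ (j : ℕ)) := by
      rw [Fintype.bijective_iff_injective_and_card, Fintype.card_fin, ← Nat.card_eq_fintype_card, hcard]
      refine ⟨fun a b hab => Fin.ext (pow_injOn_Iio_orderOf ?_ ?_ hab), rfl⟩ <;> simp [hord]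
    rw [Finset.sum_range]
    have hfxp : ∀ τ : G, τ • x ^ (N' - N) = x ^ (N' - N) := fun τ => by rw [smul_pow', hfx]
    show ∑ j : Fin p, σ ^ (j : ℕ) • (x ^ (N' - N) * y) = _
    rw [Fintype.sum_bijective _ hb (fun j : Fin p => σ ^ (j : ℕ) • (x ^ (N' - N) * y))
        (fun τ : G => τ • (x ^ (N' - N) * y)) fun _ => rfl]
    simp only [smul_mul', hfxp]
    rw [← Finset.mul_sum, hy, ← pow_add, Nat.sub_add_cancel hN']
  have hstep : ∀ j : ℕ, σ • ((j : A) * s j) = ((j + 1 : ℕ) : A) * s (j + 1) - s (j + 1) := fun j => by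
    rw [smul_mul', show σ • (j : A) = (j : A) from map_natCast (MulSemiringAction.toRingHom G A σ) j,
      show σ • s j = s (j + 1) by simp only [s]; rw [← mul_smul, pow_succ']]
    push_cast; ring
  have hshift : ∀ f : ℕ → A, f p = f 0 → ∑ j ∈ Finset.range p, f (j + 1) = ∑ j ∈ Finset.range p, f j := fun f hf => by
    have h1 := Finset.sum_range_succ' f p
    rw [Finset.sum_range_succ, hf, add_left_inj] at h1
    exact h1.symm
  rw [smul_neg, Finset.smul_sum, Finset.sum_congr rfl (fun j _ => hstep j), Finset.sum_sub_distrib,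
    hshift (fun j => (j : A) * s j) (by simp [CharP.cast_eq_zero]),
    hshift s (by simp [s, ← hord, pow_orderOf_eq_one]), hsum]
  ring

end Groth.L13.Wild.Origin
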