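import Groth.Agent.L13.Wild.InvTools
import Groth.Agent.S0564
import Groth.Agent.S0565
import Mathlib.RingTheory.Flat.Localization
import Mathlib.RingTheory.Flat.Basic

/-! Where the group acts without inertia, the ring is flat over its invariants. -/

set_option autoImplicit false
set_option linter.unusedSectionVars false

universe u w

namespace Groth.L13.Wild.Unramified

open Groth.L13.Wild.Inv

variable {R : Type u} [CommRing R] {A : Type u} [CommRing A] [Algebra R A]
  {H : Type w} [Group H] [Finite H] [MulSemiringAction H A] [SMulCommClass H R A]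

/-- a trace function gives a factorization through a finite free module -/
theorem exists_factor (hfix : ∀ a : A, (∀ h : H, h • a = a) → a ∈ Set.range (algebraMap R A))
    (hinj : Function.Injective (algebraMap R A)) [Fintype H] {f : H → A}
    (hf : Tr (⊤ : Subalgebra R A) f) :
    ∃ (m : ℕ) (g : A →ₗ[R] Fin m → R) (h : (Fin m → R) →ₗ[R] A),
      ∀ a, h (g a) = ∑ τ : H, f τ * τ • a := by
  classical
  induction hf with
  | @pair x y hx hy =>
    let T : A →ₗ[R] A := ∑ τ : H, (DistribSMul.toLinearMap R A τ) ∘ₗ LinearMap.mulLeft R y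
    have hT : ∀ a, T a = ∑ τ : H, τ • (y * a) := fun a => by simp [T]
    have hmem : ∀ a, T a ∈ LinearMap.range (Algebra.linearMap R A) := fun a => by
      refine hfix _ fun σ => ?_
      rw [hT, Finset.smul_sum]
      exact Fintype.sum_equiv (Equiv.mulLeft σ) _ _ fun τ => by rw [← mul_smul]; rfl
    let e := LinearEquiv.ofInjective (Algebra.linearMap R A) hinj
    refine ⟨1, LinearMap.pi fun _ => e.symm.toLinearMap ∘ₗ T.codRestrict _ hmem,
      (LinearMap.toSpanSingleton R A x) ∘ₗ LinearMap.proj 0, fun a => ?_⟩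
    show e.symm ⟨T a, hmem a⟩ • x = _
    have h1 : algebraMap R A (e.symm ⟨T a, hmem a⟩) = T a := congrArg Subtype.val (e.apply_symm_apply ⟨T a, hmem a⟩)
    rw [Algebra.smul_def, h1, hT, Finset.sum_mul]
    exact Finset.sum_congr rfl fun τ _ => by rw [smul_mul']; ring
  | @add f₁ f₂ _ _ ih₁ ih₂ =>
    obtain ⟨m₁, g₁, h₁, e₁⟩ := ih₁
    obtain ⟨m₂, g₂, h₂, e₂⟩ := ih₂
    let e : (Fin (m₁ + m₂) → R) ≃ₗ[R] (Fin m₁ → R) × (Fin m₂ → R) :=
      (LinearEquiv.funCongrLeft R R finSumFinEquiv) ≪≫ₗ LinearEquiv.sumArrowLequivProdArrow _ _ R R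
    refine ⟨m₁ + m₂, e.symm.toLinearMap ∘ₗ g₁.prod g₂, (h₁.coprod h₂) ∘ₗ e.toLinearMap, fun a => ?_⟩
    simp [e₁, e₂, add_mul, Finset.sum_add_distrib]

theorem flat_localization [Module.Finite R A] (hcomm : ∀ g h : H, g * h = h * g)
    (hfix : ∀ a : A, (∀ h : H, h • a = a) → a ∈ Set.range (algebraMap R A))
    (hinj : Function.Injective (algebraMap R A)) (q : Ideal R) [q.IsPrime]
    (hI : ∀ P : Ideal A, P.IsPrime → P.comap (algebraMap R A) = q → P.inertia H = ⊥)
    (Q : Ideal A) [Q.IsPrime] (hQ : Q.comap (algebraMap R A) = q) :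
    Module.Flat R (Localization.AtPrime Q) := by
  classical
  cases nonempty_fintype H
  have key : ∀ σ : H, ∃ f : H → A, Tr (⊤ : Subalgebra R A) f ∧ (σ ≠ 1 → f σ = 0) ∧
      ∃ c ∉ q, f 1 = algebraMap R A c := by
    intro σ
    by_cases hσ : σ = 1
    · exact ⟨fun _ => 1, Tr.const trivial, fun h => absurd hσ h, 1,
        fun h => (inferInstance : q.IsPrime).ne_top ((Ideal.eq_top_iff_one q).2 h), (map_one _).symm⟩
    obtain ⟨f, hf, hfσ, c, hc, hf1⟩ := exists_tr (C := (⊤ : Subalgebra R A)) hcomm ⊥ ⊤
      (fun y => ⟨fun _ k hk => by rw [Subgroup.mem_bot.1 hk, one_smul], fun _ => trivial⟩) le_rfl q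
      ((RingHom.injective_iff_ker_eq_bot _).1 hinj) (fun P hP hPq => (hI P hP hPq).le) σ
      (fun h => hσ (Subgroup.mem_bot.1 h))
    exact ⟨f, hf, fun _ => hfσ, c, hc, hf1⟩
  choose f hf hf0 c hc hf1 using key
  have hc0 : ∏ σ, c σ ∉ q := fun h => by
    obtain ⟨σ, -, hσ⟩ := (inferInstance : q.IsPrime).prod_mem_iff.1 h
    exact hc σ hσ
  set c0 := ∏ σ, c σ with hc0def
  obtain ⟨m, g, h, hgh⟩ := exists_factor hfix hinj (Tr.prod Finset.univ fun σ _ => hf σ)
  have hid : h ∘ₗ g = c0 • LinearMap.id := LinearMap.ext fun a => by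
    rw [LinearMap.comp_apply, hgh, Finset.sum_eq_single (1 : H)]
    · rw [Finset.prod_apply, one_smul, LinearMap.smul_apply, LinearMap.id_apply, Algebra.smul_def, hc0def, map_prod]
      exact congrArg (· * a) (Finset.prod_congr rfl fun σ _ => hf1 σ)
    · intro τ _ hτ
      rw [Finset.prod_apply, Finset.prod_eq_zero (f := fun i => f i τ) (Finset.mem_univ τ) (hf0 τ hτ), zero_mul]
    · intro h; exact absurd (Finset.mem_univ _) h
  let S : Submonoid R := Submonoid.powers c0
  let S' : Submonoid A := Algebra.algebraMapSubmonoid A S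
  let Ac := Localization S'
  have : IsLocalizedModule S (IsScalarTower.toAlgHom R A Ac).toLinearMap :=
    isLocalizedModule_iff_isLocalization.mpr (inferInstanceAs (IsLocalization S' Ac))
  let fA := (IsScalarTower.toAlgHom R A Ac).toLinearMap
  let fN := LocalizedModule.mkLinearMap S (Fin m → R)
  let g' := IsLocalizedModule.map S fA fN g
  let h' := IsLocalizedModule.map S fN fA h
  have hgh' : ∀ x : Ac, h' (g' x) = c0 • x := by
    have : h' ∘ₗ g' = c0 • LinearMap.id := IsLocalizedModule.ext S fA (IsLocalizedModule.map_units fA) <| by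
      refine LinearMap.ext fun a => ?_
      show h' (g' (fA a)) = c0 • fA a
      rw [IsLocalizedModule.map_apply, IsLocalizedModule.map_apply, ← map_smul]
      exact congrArg fA (LinearMap.congr_fun hid a)
    exact LinearMap.congr_fun this
  have hu : IsUnit (algebraMap R (Module.End R Ac) c0) :=
    IsLocalizedModule.map_units fA ⟨c0, Submonoid.mem_powers c0⟩
  let e : Ac ≃ₗ[R] Ac := LinearEquiv.ofBijective _ ((Module.End.isUnit_iff _).1 hu)
  have : Module.Flat R (LocalizedModule S (Fin m → R)) :=
    have : Module.Flat R (Localization S) := IsLocalization.flat _ S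
    Module.Flat.of_linearEquiv ((IsLocalizedModule.isBaseChange S (Localization S) fN).equiv.symm.restrictScalars R)
  have : Module.Flat R Ac := Module.Flat.of_retract g' (e.symm.toLinearMap ∘ₗ h') <| LinearMap.ext fun x => by
    show e.symm (h' (g' x)) = x
    rw [LinearEquiv.symm_apply_eq, hgh']
    rfl
  have hle : S' ≤ Q.primeCompl := by
    rintro _ ⟨r, hr, rfl⟩
    obtain ⟨n, rfl⟩ := hr
    intro hmem
    have h1 : c0 ^ n ∈ Q.comap (algebraMap R A) := hmem
    rw [hQ] at h1
    exact hc0 ((inferInstance : q.IsPrime).mem_of_pow_mem n h1)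
  letI : Algebra Ac (Localization.AtPrime Q) :=
    IsLocalization.localizationAlgebraOfSubmonoidLe Ac (Localization.AtPrime Q) S' Q.primeCompl hle
  have : IsScalarTower A Ac (Localization.AtPrime Q) :=
    IsLocalization.localization_isScalarTower_of_submonoid_le Ac (Localization.AtPrime Q) S' Q.primeCompl hle
  have : IsScalarTower R Ac (Localization.AtPrime Q) := IsScalarTower.to₁₃₄ R A Ac _
  have := IsLocalization.isLocalization_of_submonoid_le Ac (Localization.AtPrime Q) S' Q.primeCompl hle
  have : Module.Flat Ac (Localization.AtPrime Q) :=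
    IsLocalization.flat _ (Q.primeCompl.map (algebraMap A Ac))
  exact Module.Flat.trans R Ac _

/-- regularity of the invariants at a prime without inertia -/
theorem isRegularLocalRing_atPrime [IsNoetherianRing R] [Module.Finite R A] (hcomm : ∀ g h : H, g * h = h * g)
    (hfix : ∀ a : A, (∀ h : H, h • a = a) → a ∈ Set.range (algebraMap R A))
    (hinj : Function.Injective (algebraMap R A)) (q : Ideal R) [q.IsPrime]
    (hI : ∀ P : Ideal A, P.IsPrime → P.comap (algebraMap R A) = q → P.inertia H = ⊥)
    (Q : Ideal A) [Q.IsPrime] (hQ : Q.comap (algebraMap R A) = q)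
    [IsRegularLocalRing (Localization.AtPrime Q)] :
    IsRegularLocalRing (Localization.AtPrime q) := by
  have hflat := flat_localization hcomm hfix hinj q hI Q hQ
  let φ := Localization.localRingHom q Q (algebraMap R A) hQ.symm
  letI : Algebra (Localization.AtPrime q) (Localization.AtPrime Q) := φ.toAlgebra
  have : IsScalarTower R (Localization.AtPrime q) (Localization.AtPrime Q) :=
    IsScalarTower.of_algebraMap_eq fun r => by
      rw [IsScalarTower.algebraMap_apply R A (Localization.AtPrime Q)]
      exact (Localization.localRingHom_to_map q Q (algebraMap R A) hQ.symm r).symm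
  have : IsLocalHom (algebraMap (Localization.AtPrime q) (Localization.AtPrime Q)) :=
    inferInstanceAs (IsLocalHom φ)
  have : Module.Flat (Localization.AtPrime q) (Localization.AtPrime Q) :=
    (Module.flat_iff_of_isLocalization (Localization.AtPrime q) q.primeCompl _).2 hflat
  exact Groth.Agent.S0565.result (Localization.AtPrime q) (Localization.AtPrime Q)

end Groth.L13.Wild.Unramified
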